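import Cfsg.Agent.Omega.NO3S.SN.Geo
import Cfsg.Agent.Omega.NO3S.FarQ.KCom
import Cfsg.Agent.Omega.NO3S.FarQ.Syl

/-!
# THEOREM HT' (helper581 #20437), parts (10), (11): the device `V⁺`

`CD ε i j = C_G(D_ij)`, `D_ij = C_V((i j)) = {ε v | v i = v j}`; `WW V ε i j = ⟨V^t : t ∈ C_G(D_ij)⟩`;
`Vp V ε = ∏_a U_{z_a}` (`V⁺`).

* `Base.WW_le` : `W_ij ≤ U_{z_a}` for `a ≠ i, j`; `Base.U_le_WW` : if `U_z` is generated by the `W_ij`, `i, j ≠ 0`, the
  same holds at every `z_a`; `Base.CD_le` : then `C_G(D_ij) ≤ N_G(V⁺)`;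
* `Hyp.false_of_tr` : **the end of THEOREM HT'**: `U_z = ⟨W_ij : i, j ≠ 0⟩` and the elements `t` with `Tr t p` (in the
  application: `t ∈ C_G(z)` acts on `U_z` as the transvection with centre `p`) lie in some `C_G(D_ij)`, normalise `V`
  only for `p ∈ {z_i}`: contradiction.
-/

set_option autoImplicit false
set_option linter.unusedSectionVars false

namespace Cfsg.Agent.Omega.NO3S.SN.HT.End

open Subgroup Cfsg Cfsg.Agent.ZN Cfsg.Agent.Omega.MinPar Cfsg.Agent.Omega.Frame Cfsg.Agent.Omega.FrameNOFF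
open Cfsg.Agent.Omega.S5.Def Cfsg.Agent.Omega.S5.Syl
open Cfsg.Agent.MinSimple.VModule
open Cfsg.Agent.MinSimple.CosetFam (o2_conj zc_conj centralizer_conj normalizer_conj)
open Cfsg.Agent.Omega.NoFF.Basic (conj_conj conj_self mem_conj conj_le_iff comm_symm comm_mono conj_le_centralizer)
open Cfsg.Agent.Omega.NO3S.SN
open scoped Pointwise

universe u

section defs

variable {G : Type u} [Group G] {n : ℕ}

/-- `C_G(D_ij)`, `D_ij = {ε v | v i = v j}`. -/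
def CD (ε : (Fin n → ZMod 2) → G) (i j : Fin n) : Subgroup G :=
  centralizer {g | ∃ v : Fin n → ZMod 2, v i = v j ∧ ε v = g}

/-- `W_ij = ⟨V^t : t ∈ C_G(D_ij)⟩`. -/
def WW (V : Subgroup G) (ε : (Fin n → ZMod 2) → G) (i j : Fin n) : Subgroup G :=
  ⨆ t : CD ε i j, MulAut.conj (t : G) • V

/-- `V⁺ = ∏_a U_{z_a}`. -/
def Vp [NeZero n] (V : Subgroup G) (ε : (Fin n → ZMod 2) → G) : Subgroup G :=
  ⨆ a : Fin n, U V (pt ε 0) (pt ε a)

theorem mem_CD {ε : (Fin n → ZMod 2) → G} {i j : Fin n} {g : G} :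
    g ∈ CD ε i j ↔ ∀ v : Fin n → ZMod 2, v i = v j → g * ε v * g⁻¹ = ε v := by
  rw [CD, mem_centralizer_iff]
  constructor
  · intro h v hv
    rw [← h (ε v) ⟨v, hv, rfl⟩, mul_inv_cancel_right]
  · rintro h _ ⟨v, hv, rfl⟩
    have h1 := h v hv
    rw [mul_inv_eq_iff_eq_mul] at h1
    exact h1.symm

theorem conj_CD {ε : (Fin n → ZMod 2) → G} {w : G} {σ : Equiv.Perm (Fin n)} (hw : Acts ε w σ) (i j : Fin n) :
    MulAut.conj w • CD ε i j = CD ε (σ i) (σ j) := by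
  ext g
  rw [mem_conj, mem_CD, mem_CD]
  have hinv : ∀ v : Fin n → ZMod 2, w⁻¹ * ε v * w = ε (v ∘ σ) := by
    intro v
    have h1 := hw.inv v
    rw [inv_inv] at h1
    exact h1
  constructor
  · intro h v hv
    have h1 := h (v ∘ σ) hv
    rw [← hinv] at h1
    have h2 := congrArg (fun t => w * t * w⁻¹) h1
    simpa [mul_assoc] using h2
  · intro h v hv
    have h1 := h (v ∘ σ.symm) (by simpa [Function.comp] using hv)
    rw [← hw] at h1
    have h2 := congrArg (fun t => w⁻¹ * t * w) h1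
    simpa [mul_assoc] using h2

theorem conj_le_WW {V : Subgroup G} {ε : (Fin n → ZMod 2) → G} {i j : Fin n} {t : G} (ht : t ∈ CD ε i j) :
    MulAut.conj t • V ≤ WW V ε i j :=
  le_iSup (fun t : CD ε i j => MulAut.conj (t : G) • V) ⟨t, ht⟩

theorem WW_le_iff {V A : Subgroup G} {ε : (Fin n → ZMod 2) → G} {i j : Fin n} :
    WW V ε i j ≤ A ↔ ∀ t ∈ CD ε i j, MulAut.conj t • V ≤ A :=
  ⟨fun h _ ht => (conj_le_WW ht).trans h, fun h => iSup_le fun t => h t t.2⟩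

end defs

section base

variable {G : Type u} [Group G] {n : ℕ} [NeZero n] {V P : Subgroup G} {ε : (Fin n → ZMod 2) → G}
  (B : Base V P ε)
include B

theorem conj_WW_le {w : G} (hw : w ∈ P) {σ : Equiv.Perm (Fin n)} (hσ : Acts ε w σ) (i j : Fin n) :
    MulAut.conj w • WW V ε i j ≤ WW V ε (σ i) (σ j) := by
  rw [Subgroup.pointwise_smul_subset_iff, WW_le_iff]
  intro t ht
  rw [← Subgroup.pointwise_smul_subset_iff, conj_conj]
  have h1 : w * t * w⁻¹ ∈ CD ε (σ i) (σ j) := by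
    rw [← conj_CD hσ]
    exact mem_conj_of ht w
  have h2 := conj_le_WW (V := V) h1
  have h3 : MulAut.conj (w * t) • V = MulAut.conj (w * t * w⁻¹) • V := by
    conv_lhs => rw [show w * t = w * t * w⁻¹ * w by group, ← conj_conj, B.conj_V hw]
  rw [h3]
  exact h2

/-- `W_ij ≤ U_{z_a}` for `a ≠ i, j`. -/
theorem WW_le {i j a : Fin n} (hi : a ≠ i) (hj : a ≠ j) : WW V ε i j ≤ U V (pt ε 0) (pt ε a) := by
  rw [WW_le_iff]
  intro t ht
  have h1 : t * pt ε a * t⁻¹ = pt ε a := by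
    refine mem_CD.1 ht _ ?_
    rw [Pi.single_eq_of_ne hi.symm, Pi.single_eq_of_ne hj.symm]
  have h2 := conj_le_iff (g := t) |>.2 (B.V_le_U a)
  rwa [conj_U, h1] at h2

/-- `U_z = ⟨W_ij : i, j ≠ 0⟩`, the same at `z_a`. -/
theorem U_le_WW (hU : U V (pt ε 0) (pt ε 0) ≤ ⨆ p : {p : Fin n × Fin n // p.1 ≠ 0 ∧ p.2 ≠ 0},
      WW V ε (p : Fin n × Fin n).1 (p : Fin n × Fin n).2) (a : Fin n) {A : Subgroup G}
    (hA : ∀ i j, i ≠ a → j ≠ a → WW V ε i j ≤ A) : U V (pt ε 0) (pt ε a) ≤ A := by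
  obtain ⟨w, hw, hσ⟩ := B.ev.full (Equiv.swap 0 a)
  have h1 : MulAut.conj w • U V (pt ε 0) (pt ε 0) = U V (pt ε 0) (pt ε a) := by
    rw [conj_U, hσ.single 0, Equiv.swap_apply_left]
  rw [← h1, Subgroup.pointwise_smul_subset_iff]
  refine hU.trans (iSup_le ?_)
  rintro ⟨⟨i, j⟩, hi, hj⟩
  rw [← Subgroup.pointwise_smul_subset_iff]
  refine (conj_WW_le B hw hσ i j).trans (hA _ _ ?_ ?_)
  · intro h2
    apply hi
    apply (Equiv.swap (0 : Fin n) a).injective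
    rw [Equiv.swap_apply_left]
    exact h2
  · intro h2
    apply hj
    apply (Equiv.swap (0 : Fin n) a).injective
    rw [Equiv.swap_apply_left]
    exact h2

omit B in
theorem U_le_Vp (a : Fin n) : U V (pt ε 0) (pt ε a) ≤ Vp V ε :=
  le_iSup (fun a : Fin n => U V (pt ε 0) (pt ε a)) a

/-- An element which permutes the points of `V` normalises `V⁺`. -/
theorem mem_normalizer_Vp {g : G} (h : ∀ a, ∃ b, g * pt ε a * g⁻¹ = pt ε b) : g ∈ normalizer (Vp V ε : Set G) := by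
  have h1 : ∀ g : G, (∀ a, ∃ b, g * pt ε a * g⁻¹ = pt ε b) → MulAut.conj g • Vp V ε ≤ Vp V ε := by
    intro g h
    rw [Subgroup.pointwise_smul_subset_iff]
    refine iSup_le fun a => ?_
    rw [← Subgroup.pointwise_smul_subset_iff, conj_U]
    obtain ⟨b, hb⟩ := h a
    rw [hb]
    exact U_le_Vp b
  have h2 : ∀ a, ∃ b, g⁻¹ * pt ε a * g⁻¹⁻¹ = pt ε b := by
    choose f hf using h
    have hinj : Function.Injective f := by
      intro a b hab
      have h3 := hf a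
      rw [hab, ← hf b] at h3
      exact B.pt_inj (conj_mul_inj.1 h3)
    have hsurj := Finite.surjective_of_injective hinj
    intro a
    obtain ⟨b, rfl⟩ := hsurj a
    refine ⟨b, ?_⟩
    rw [← hf b]
    group
  refine mem_normalizer_of_conj_eq (le_antisymm (h1 g h) ?_)
  have h3 := conj_le_iff (g := g) |>.2 (h1 g⁻¹ h2)
  rwa [conj_conj, mul_inv_cancel, map_one, one_smul] at h3

theorem P_le_normalizer_Vp : P ≤ normalizer (Vp V ε : Set G) := by
  intro w hw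
  obtain ⟨σ, hσ⟩ := B.ev.perm w hw
  exact mem_normalizer_Vp B fun a => ⟨σ a, hσ.single a⟩

theorem Vp_le_o2 : Vp V ε ≤ o2 (centralizer (V : Set G)) :=
  iSup_le fun a => (B.U_le_Qn _).trans (B.Qn_le_o2 a)

theorem Vp_isPGroup : IsPGroup 2 (Vp V ε) := (o2_isPGroup _).to_le (Vp_le_o2 B)

/-- `C_G(D_ij)` normalises `V⁺`. -/
theorem CD_le (hU : U V (pt ε 0) (pt ε 0) ≤ ⨆ p : {p : Fin n × Fin n // p.1 ≠ 0 ∧ p.2 ≠ 0},
      WW V ε (p : Fin n × Fin n).1 (p : Fin n × Fin n).2) (i j : Fin n) : CD ε i j ≤ normalizer (Vp V ε : Set G) := by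
  have h9 := B.five
  have h1 : ∀ t ∈ CD ε i j, MulAut.conj t • Vp V ε ≤ Vp V ε := by
    intro t ht
    have h2 : Vp V ε ≤ ⨆ a : {a : Fin n // a ≠ i ∧ a ≠ j}, U V (pt ε 0) (pt ε (a : Fin n)) := by
      refine iSup_le fun b => U_le_WW B hU b fun k l _ _ => ?_
      obtain ⟨a, ha⟩ := exists_not_mem ({i, j, k, l} : Finset (Fin n)) (lt_of_le_of_lt Finset.card_le_four (by omega))
      simp only [Finset.mem_insert, Finset.mem_singleton, not_or] at ha
      exact (WW_le B ha.2.2.1 ha.2.2.2).trans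
        (le_iSup (fun a : {a : Fin n // a ≠ i ∧ a ≠ j} => U V (pt ε 0) (pt ε (a : Fin n))) ⟨a, ha.1, ha.2.1⟩)
    refine (conj_le_iff.2 h2).trans ?_
    rw [Subgroup.pointwise_smul_subset_iff]
    refine iSup_le fun a => ?_
    rw [← Subgroup.pointwise_smul_subset_iff, conj_U]
    have h3 : t * pt ε (a : Fin n) * t⁻¹ = pt ε (a : Fin n) := by
      refine mem_CD.1 ht _ ?_
      rw [Pi.single_eq_of_ne a.2.1.symm, Pi.single_eq_of_ne a.2.2.symm]
    rw [h3]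
    exact U_le_Vp _
  intro t ht
  refine mem_normalizer_of_conj_eq (le_antisymm (h1 t ht) ?_)
  have h3 := conj_le_iff (g := t) |>.2 (h1 t⁻¹ (inv_mem ht))
  rwa [conj_conj, mul_inv_cancel, map_one, one_smul] at h3

end base

/-! ### Sylow -/

section hyp

variable {G : Type u} [Group G] [Finite G] {S : Sylow 2 G} {P : Subgroup G} {m : ℕ}
  {ε : (Fin (2 ^ m + 1) → ZMod 2) → G}

/-- The 2-part of `t`, if `t²` is in `C`. -/
theorem exists_two_part {C : Subgroup G} {t : G} (h : t * t ∈ C) : ∃ c ∈ C, IsPGroup 2 (zpowers (t * c)) := by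
  obtain ⟨a, l, hl, ho⟩ : ∃ a l, Odd l ∧ orderOf t = 2 ^ a * l := by
    obtain ⟨a, l, hl, h1⟩ := Nat.exists_eq_two_pow_mul_odd (orderOf_pos t).ne'
    exact ⟨a, l, hl, h1⟩
  obtain ⟨k, rfl⟩ := hl
  refine ⟨(t * t) ^ k, pow_mem h k, ?_⟩
  have h1 : t * (t * t) ^ k = t ^ (2 * k + 1) := by
    rw [← pow_two, ← pow_mul, ← pow_succ']
  have h2 : (t ^ (2 * k + 1)) ^ 2 ^ a = 1 := by
    rw [← pow_mul, mul_comm, ← ho, pow_orderOf_eq_one]
  rw [h1, IsPGroup.iff_card]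
  have h3 : orderOf (t ^ (2 * k + 1)) ∣ 2 ^ a := orderOf_dvd_of_pow_eq_one h2
  obtain ⟨b, -, hb⟩ := (Nat.dvd_prime_pow Nat.prime_two).1 h3
  exact ⟨b, by rw [Nat.card_zpowers, hb]⟩

/-- **THEOREM HT', parts (10), (11).** -/
theorem false_of_tr (h : Hyp S P m ε) (Tr : G → G → Prop)
    (h1 : ∀ t p, Tr t p → t ∈ Cn (pt ε 0))
    (hconj : ∀ c ∈ Cn (pt ε 0), ∀ t p, Tr t p → Tr (c * t * c⁻¹) (c * p * c⁻¹))
    (hmul : ∀ t p, Tr t p →
      ∀ c ∈ centralizer (U (zl (S : Subgroup G) P) (pt ε 0) (pt ε 0) : Set G), Tr (t * c) p)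
    (hsq : ∀ t p, Tr t p → t * t ∈ centralizer (U (zl (S : Subgroup G) P) (pt ε 0) (pt ε 0) : Set G))
    (hex : ∃ t p, Tr t p)
    (hnor : ∀ t p, Tr t p → t ∈ normalizer (zl (S : Subgroup G) P : Set G) →
      t ∈ centralizer (zl (S : Subgroup G) P : Set G) ∧ ∃ i, i ≠ 0 ∧ p = pt ε i)
    (hadj : ∀ t p, Tr t p → ∃ i j, t ∈ CD ε i j)
    (hU : U (zl (S : Subgroup G) P) (pt ε 0) (pt ε 0) ≤
      ⨆ p : {p : Fin (2 ^ m + 1) × Fin (2 ^ m + 1) // p.1 ≠ 0 ∧ p.2 ≠ 0},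
        WW (zl (S : Subgroup G) P) ε (p : Fin (2 ^ m + 1) × Fin (2 ^ m + 1)).1
          (p : Fin (2 ^ m + 1) × Fin (2 ^ m + 1)).2) : False := by
  have hB := h.base
  set V := zl (S : Subgroup G) P with hV
  have hSP : (S : Subgroup G) ≤ P := h.star.toIsPar.isLoc.le
  have hSC : (S : Subgroup G) ≤ Cn (pt ε 0) := h.S_le
  have hSd := MinSimple.Basic.not_dvd_relIndex S hSC
  -- the points of the transvections in `S`
  have hSN : (S : Subgroup G) ≤ normalizer (V : Set G) := hSP.trans hB.ev.le_normalizer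
  have hS1 : ∀ t ∈ (S : Subgroup G), ∀ p, Tr t p → t ∈ centralizer (V : Set G) ∧ ∃ i, i ≠ 0 ∧ p = pt ε i :=
    fun t ht p htp => hnor t p htp (hSN ht)
  obtain ⟨t, ht, i₀, hi₀, hti⟩ : ∃ t ∈ (S : Subgroup G), ∃ i, i ≠ 0 ∧ Tr t (pt ε i) := by
    obtain ⟨t, p, htp⟩ := hex
    obtain ⟨c, hc, h2⟩ := exists_two_part (hsq t p htp)
    have h3 := hmul t p htp c hc
    obtain ⟨d, hd, h4⟩ := NO3S.FarQ.KCom.exists_conj_le S.isPGroup' hSd h2
      ((zpowers_le).2 (h1 _ _ h3))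
    have h5 := hconj d hd _ _ h3
    have h6 := h4 _ (mem_zpowers _)
    obtain ⟨-, i, hi, hi'⟩ := hS1 _ h6 _ h5
    rw [hi'] at h5
    exact ⟨_, h6, i, hi, h5⟩
  have hCV : centralizer (V : Set G) ≤ Cn (pt ε 0) := fun c hc =>
    mem_Cn.2 (mem_centralizer_iff.1 hc _ (hB.pt_mem 0)).symm
  have hSd' : ¬ 2 ∣ ((S : Subgroup G) ⊓ centralizer (V : Set G)).relIndex (centralizer (V : Set G)) :=
    NO3S.FarQ.syl_of (fun s hs => mem_normalizer_of_conj_eq (by rw [← centralizer_conj, conj_eq_self (hSN hs)]))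
      (MinSimple.Basic.not_dvd_relIndex S le_sup_right)
  have hS2 : ∀ i, i ≠ 0 → ∃ t ∈ (S : Subgroup G), Tr t (pt ε i) := by
    intro i hi
    obtain ⟨w, hw, hσ⟩ := hB.ev.full (Equiv.swap i₀ i)
    have hw0 : w ∈ Cn (pt ε 0) := by
      rw [mem_Cn', hσ.single 0, Equiv.swap_apply_of_ne_of_ne (Ne.symm hi₀) (Ne.symm hi)]
    have h2 := hconj w hw0 _ _ hti
    rw [hσ.single, Equiv.swap_apply_left] at h2
    have h3 : w * t * w⁻¹ ∈ centralizer (V : Set G) := by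
      have h4 := mem_conj_of (hS1 t ht _ hti).1 w
      rwa [← centralizer_conj, hB.conj_V hw] at h4
    have h4 : IsPGroup 2 (zpowers (w * t * w⁻¹)) := by
      have h5 : IsPGroup 2 (zpowers t) := S.isPGroup'.to_le ((zpowers_le).2 ht)
      rw [← conj_zpowers]
      exact h5.map _
    obtain ⟨c, hc, h5⟩ := NO3S.FarQ.KCom.exists_conj_le (S.isPGroup'.to_le inf_le_left) hSd' h4
      ((zpowers_le).2 h3)
    have h6 := hconj c (hCV hc) _ _ h2
    have h7 : c * pt ε i * c⁻¹ = pt ε i := by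
      rw [mul_inv_eq_iff_eq_mul]
      exact (mem_centralizer_iff.1 hc _ (hB.pt_mem i)).symm
    rw [h7] at h6
    exact ⟨_, (h5 _ (mem_zpowers _)).1, h6⟩
  -- the normal subgroup generated by the transvections
  set E : Subgroup G := closure {t | ∃ p, Tr t p} with hE
  have hEC : E ≤ Cn (pt ε 0) := (closure_le _).2 fun t ⟨p, h2⟩ => h1 t p h2
  have hCE : Cn (pt ε 0) ≤ normalizer (E : Set G) := by
    have key : ∀ c ∈ Cn (pt ε 0), MulAut.conj c • E ≤ E := by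
      intro c hc
      rw [Subgroup.pointwise_smul_subset_iff]
      refine (closure_le _).2 ?_
      rintro t ⟨p, h2⟩
      change t ∈ (MulAut.conj c)⁻¹ • E
      rw [mem_inv_pointwise_smul_iff]
      exact subset_closure ⟨_, hconj c hc t p h2⟩
    intro c hc
    refine mem_normalizer_of_conj_eq (le_antisymm (key c hc) ?_)
    have h3 := conj_le_iff (g := c) |>.2 (key c⁻¹ (inv_mem hc))
    rwa [conj_conj, mul_inv_cancel, map_one, one_smul] at h3
  have hEN : E ≤ normalizer (Vp V ε : Set G) := by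
    refine (closure_le _).2 ?_
    rintro t ⟨p, h2⟩
    obtain ⟨i, j, h3⟩ := hadj t p h2
    exact CD_le hB hU i j h3
  have hCN : Cn (pt ε 0) ≤ normalizer (Vp V ε : Set G) := by
    refine (MinSimple.Basic.frattini hSC S.isPGroup' hSd hCE).trans (sup_le hEN ?_)
    rintro c ⟨hc, hcn⟩
    refine mem_normalizer_Vp hB fun a => ?_
    by_cases ha : a = 0
    · subst ha
      exact ⟨0, mem_Cn'.1 hc⟩
    · obtain ⟨t, ht, h2⟩ := hS2 a ha
      have h3 : t ∈ (S : Subgroup G) ⊓ E := ⟨ht, subset_closure ⟨_, h2⟩⟩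
      have h4 := (mem_normalizer_iff.1 hcn t).1 h3
      obtain ⟨-, b, -, hb⟩ := hS1 _ h4.1 _ (hconj c hc _ _ h2)
      exact ⟨b, hb⟩
  have h2 := hB.nonLoc _ (Vp_isPGroup hB) (P_le_normalizer_Vp hB) hCN
  have h3 : pt ε 0 ∈ Vp V ε := U_le_Vp 0 (hB.V_le_U 0 (hB.pt_mem 0))
  rw [h2, mem_bot] at h3
  exact hB.pt_ne_one 0 h3

end hyp

end Cfsg.Agent.Omega.NO3S.SN.HT.End
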