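import Cfsg.Agent.Omega.NO3S.SN.HT.GrpM
import Cfsg.Agent.Omega.NO3S.SN.HT.End

/-!
# THEOREM HT' (helper581, bb #20437), relative form (helper237, bb #22246 (1)(v)): the end

`D : GDat V L C U ε` (`C_L(z) ≤ C ≤ C_G(z)`, `U = ⟨V^C⟩`), `C_G(V) ≤ C`, `C_G(D_ij) ≤ C` for `i, j ≠ 0`.
`Ua L U ε a` = the conjugate `U_{z_a}` of `U` under `L`; `Vq = ∏_a U_{z_a}`.

* `L_le`, `CD_le` : `L` and all `C_G(D_ij)` normalise `Vq`;
* `C_le` : `C` normalises `Vq`;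
* `main` : **one `t ∈ C` with `1 ≠ [U, t] ≤ ⟨p, z⟩`, `p ∈ z_1^C`, implies that the 2-group `Vq ≠ 1` is normalised by
  `L` and `C`**.
-/

set_option autoImplicit false
set_option linter.unusedSectionVars false

namespace Cfsg.Agent.Omega.NO3S.SN.HT.EndM

open Subgroup Module Cfsg Cfsg.Agent.ZN Cfsg.Agent.Omega.MinPar Cfsg.Agent.Omega.Frame Cfsg.Agent.Omega.FrameNOFF
open Cfsg.Agent.Omega.S5.Def
open Cfsg.Agent.MinSimple.VModule
open Cfsg.Agent.MinSimple.CosetFam (o2_conj zc_conj centralizer_conj normalizer_conj)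
open Cfsg.Agent.Omega.NoFF.Basic (conj_conj conj_self mem_conj conj_le_iff comm_symm comm_mono conj_le_centralizer)
open Cfsg.Agent.Omega.NO3S.SN.HT.GrpM
open Cfsg.Agent.Omega.NO3S.SN.HT.End (CD WW mem_CD conj_CD conj_le_WW WW_le_iff exists_two_part)
open scoped Pointwise

universe u

variable {G : Type u} [Group G] {m : ℕ} {V L C U : Subgroup G} {ε : (Fin (2 ^ m + 1) → ZMod 2) → G}

/-- `U_{z_a}` -/
def Ua (L U : Subgroup G) (ε : (Fin (2 ^ m + 1) → ZMod 2) → G) (a : Fin (2 ^ m + 1)) : Subgroup G :=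
  ⨆ w : {w : G // w ∈ L ∧ w * pt ε 0 * w⁻¹ = pt ε a}, MulAut.conj (w : G) • U

/-- `∏_a U_{z_a}` -/
def Vq (L U : Subgroup G) (ε : (Fin (2 ^ m + 1) → ZMod 2) → G) : Subgroup G := ⨆ a, Ua L U ε a

section

variable (D : GDat V L C U ε)
include D

theorem conj_U {c : G} (hc : c ∈ C) : MulAut.conj c • U = U := by
  refine conj_eq_self ?_
  rw [mem_normalizer_iff]
  intro x
  refine ⟨fun hx => D.nor c hc x hx, fun hx => ?_⟩
  have h1 := D.nor _ (inv_mem hc) _ hx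
  have e : c⁻¹ * (c * x * c⁻¹) * c⁻¹⁻¹ = x := by group
  rwa [e] at h1

theorem Ua_eq {a : Fin (2 ^ m + 1)} {w : G} (hw : w ∈ L) (hwa : w * pt ε 0 * w⁻¹ = pt ε a) :
    Ua L U ε a = MulAut.conj w • U := by
  refine le_antisymm (iSup_le ?_) (le_iSup (fun w : {w : G // w ∈ L ∧ w * pt ε 0 * w⁻¹ = pt ε a} =>
    MulAut.conj (w : G) • U) ⟨w, hw, hwa⟩)
  rintro ⟨v, hv, hva⟩
  have h1 : w⁻¹ * v ∈ C := by
    refine D.L_le _ (mul_mem (inv_mem hw) hv) ?_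
    calc w⁻¹ * v * pt ε 0 * (w⁻¹ * v)⁻¹ = w⁻¹ * (v * pt ε 0 * v⁻¹) * w := by group
      _ = w⁻¹ * (w * pt ε 0 * w⁻¹) * w := by rw [hva, hwa]
      _ = pt ε 0 := by group
  have h2 : MulAut.conj v • U = MulAut.conj w • U := by
    rw [show v = w * (w⁻¹ * v) by group, ← conj_conj, conj_U D h1]
  exact h2.le

theorem exists_L (a : Fin (2 ^ m + 1)) : ∃ w ∈ L, ∃ σ, Acts ε w σ ∧ σ 0 = a ∧ σ a = 0 ∧
    w * pt ε 0 * w⁻¹ = pt ε a := by
  obtain ⟨w, hw, hσ⟩ := D.ev.full (Equiv.swap 0 a)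
  exact ⟨w, hw, _, hσ, Equiv.swap_apply_left _ _, Equiv.swap_apply_right _ _, by
    rw [hσ.single 0, Equiv.swap_apply_left]⟩

theorem conj_Ua {w : G} (hw : w ∈ L) {a b : Fin (2 ^ m + 1)} (hab : w * pt ε a * w⁻¹ = pt ε b) :
    MulAut.conj w • Ua L U ε a = Ua L U ε b := by
  obtain ⟨v, hv, -, -, -, -, hva⟩ := exists_L D a
  rw [Ua_eq D hv hva, conj_conj, ← Ua_eq D (mul_mem hw hv)]
  rw [← hab, ← hva]
  group

theorem U_le_Vq : U ≤ Vq L U ε := by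
  have h1 : Ua L U ε 0 = U := by
    rw [Ua_eq D (a := 0) (w := 1) (one_mem _) (by group), map_one, one_smul]
  have h2 := le_iSup (fun a => Ua L U ε a) 0
  rw [h1] at h2
  exact h2

omit D in
theorem Ua_le_Vq (a : Fin (2 ^ m + 1)) : Ua L U ε a ≤ Vq L U ε := le_iSup (fun a => Ua L U ε a) a

theorem conj_V {w : G} (hw : w ∈ L) : MulAut.conj w • V = V := conj_eq_self (D.ev.le_normalizer hw)

theorem V_le_Ua (a : Fin (2 ^ m + 1)) : V ≤ Ua L U ε a := by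
  obtain ⟨w, hw, -, -, -, -, hwa⟩ := exists_L D a
  rw [Ua_eq D hw hwa, ← conj_V D hw]
  exact conj_le_iff.2 D.V_le

variable (hCV : centralizer (V : Set G) ≤ C)
  (hX : ∀ i j : Fin (2 ^ m + 1), i ≠ 0 → j ≠ 0 → i ≠ j → CD ε i j ≤ C)

omit D in
include hCV D in
/-- `C_G(V)` normalises all `U_{z_a}`. -/
theorem cV_Ua {c : G} (hc : c ∈ centralizer (V : Set G)) (a : Fin (2 ^ m + 1)) :
    MulAut.conj c • Ua L U ε a = Ua L U ε a := by
  obtain ⟨w, hw, -, -, -, -, hwa⟩ := exists_L D a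
  have h1 : w⁻¹ * c * w ∈ C := by
    refine hCV ?_
    have h2 : MulAut.conj w⁻¹ • centralizer (V : Set G) = centralizer (V : Set G) := by
      rw [← centralizer_conj, conj_V D (inv_mem hw)]
    have h3 := mem_conj_of hc w⁻¹
    rw [h2] at h3
    simpa using h3
  rw [Ua_eq D hw hwa, conj_conj, show c * w = w * (w⁻¹ * c * w) by group, ← conj_conj, conj_U D h1]

include hCV in
/-- elements acting as permutations normalise `Vq` -/
theorem acts_Vq {g : G} {σ : Equiv.Perm (Fin (2 ^ m + 1))} (hσ : Acts ε g σ) :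
    g ∈ normalizer (Vq L U ε : Set G) := by
  have key : ∀ {g : G} {σ : Equiv.Perm (Fin (2 ^ m + 1))}, Acts ε g σ → MulAut.conj g • Vq L U ε ≤ Vq L U ε := by
    intro g σ hσ
    obtain ⟨w, hw, hwσ⟩ := D.ev.full σ
    have h1 : w⁻¹ * g ∈ centralizer (V : Set G) := D.ev.mem_centralizer_of_acts hσ hwσ
    rw [Subgroup.pointwise_smul_subset_iff]
    refine iSup_le fun a => ?_
    rw [← Subgroup.pointwise_smul_subset_iff, show g = w * (w⁻¹ * g) by group, ← conj_conj,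
      cV_Ua D hCV h1, conj_Ua D hw (hwσ.single a)]
    exact Ua_le_Vq _
  refine mem_normalizer_of_conj_eq (le_antisymm (key hσ) ?_)
  have h3 := conj_le_iff (g := g) |>.2 (key hσ.inv)
  rwa [conj_conj, mul_inv_cancel, map_one, one_smul] at h3

include hCV in
theorem L_le : L ≤ normalizer (Vq L U ε : Set G) := by
  intro w hw
  obtain ⟨σ, hσ⟩ := D.ev.perm w hw
  exact acts_Vq D hCV hσ

theorem U_comm : U ≤ centralizer (U : Set G) := by
  intro x hx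
  rw [mem_centralizer_iff]
  intro y hy
  exact TV.EA.comm_of D.sq hy hx

include hCV in
theorem Ua_le_o2 (a : Fin (2 ^ m + 1)) : Ua L U ε a ≤ o2 (centralizer (V : Set G)) := by
  have h0 : U ≤ o2 (centralizer (V : Set G)) := by
    refine le_o2 ((U_comm D).trans (centralizer_le D.V_le)) (isPGroup_of_sq fun x hx => by
      rw [pow_two]; exact D.sq x hx) ?_
    intro c hc
    exact mem_normalizer_of_conj_eq (conj_U D (hCV hc))
  obtain ⟨w, hw, -, -, -, -, hwa⟩ := exists_L D a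
  rw [Ua_eq D hw hwa]
  have h1 := conj_le_iff (g := w) |>.2 h0
  rwa [← o2_conj, ← centralizer_conj, conj_V D hw] at h1

include hCV in
theorem Vq_le : Vq L U ε ≤ o2 (centralizer (V : Set G)) := iSup_le fun a => Ua_le_o2 D hCV a

include hCV in
theorem Vq_isPGroup : IsPGroup 2 (Vq L U ε) := (o2_isPGroup _).to_le (Vq_le D hCV)

theorem Vq_ne_bot : Vq L U ε ≠ ⊥ := by
  intro h
  have h1 := U_le_Vq D (D.V_le (D.ev.mem (Pi.single 0 1)))
  rw [h, mem_bot] at h1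
  exact pt_ne_one D 0 h1

include hX in
/-- `C_G(D_ij)` normalises `U_{z_a}` for `a ≠ i, j`. -/
theorem CD_Ua {i j a : Fin (2 ^ m + 1)} (hij : i ≠ j) (hi : a ≠ i) (hj : a ≠ j) {t : G} (ht : t ∈ CD ε i j) :
    MulAut.conj t • Ua L U ε a = Ua L U ε a := by
  obtain ⟨w, hw, σ, hσ, h0, h0', hwa⟩ := exists_L D a
  have h1 : w⁻¹ * t * w ∈ C := by
    refine hX (σ⁻¹ i) (σ⁻¹ j) ?_ ?_ ?_ ?_
    · intro e
      apply hi
      rw [← h0, ← e]
      exact σ.apply_symm_apply _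
    · intro e
      apply hj
      rw [← h0, ← e]
      exact σ.apply_symm_apply _
    · intro e
      exact hij (σ⁻¹.injective e)
    · rw [← conj_CD hσ.inv]
      have := mem_conj_of ht w⁻¹
      simpa using this
  rw [Ua_eq D hw hwa, conj_conj, show t * w = w * (w⁻¹ * t * w) by group, ← conj_conj, conj_U D h1]

include hX in
theorem WW_le {i j a : Fin (2 ^ m + 1)} (hij : i ≠ j) (hi : a ≠ i) (hj : a ≠ j) : WW V ε i j ≤ Ua L U ε a := by
  rw [WW_le_iff]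
  intro t ht
  rw [← CD_Ua D hX hij hi hj ht]
  exact conj_le_iff.2 (V_le_Ua D a)

theorem conj_WW_le {w : G} (hw : w ∈ L) {σ : Equiv.Perm (Fin (2 ^ m + 1))} (hσ : Acts ε w σ) (i j : Fin (2 ^ m + 1)) :
    MulAut.conj w • WW V ε i j ≤ WW V ε (σ i) (σ j) := by
  rw [Subgroup.pointwise_smul_subset_iff, WW_le_iff]
  intro t ht
  rw [← Subgroup.pointwise_smul_subset_iff, conj_conj]
  have h1 : w * t * w⁻¹ ∈ CD ε (σ i) (σ j) := by
    rw [← conj_CD hσ]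
    exact mem_conj_of ht w
  have h2 := conj_le_WW (V := V) h1
  have h3 : MulAut.conj (w * t) • V = MulAut.conj (w * t * w⁻¹) • V := by
    conv_lhs => rw [show w * t = w * t * w⁻¹ * w by group, ← conj_conj, conj_V D hw]
  rw [h3]
  exact h2

variable (hU : U ≤ ⨆ p : {p : Fin (2 ^ m + 1) × Fin (2 ^ m + 1) // p.1 ≠ 0 ∧ p.2 ≠ 0 ∧ p.1 ≠ p.2},
      WW V ε (p : Fin (2 ^ m + 1) × Fin (2 ^ m + 1)).1 (p : Fin (2 ^ m + 1) × Fin (2 ^ m + 1)).2)

include hU in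
theorem Ua_le_WW (a : Fin (2 ^ m + 1)) {A : Subgroup G}
    (hA : ∀ i j, i ≠ a → j ≠ a → i ≠ j → WW V ε i j ≤ A) : Ua L U ε a ≤ A := by
  obtain ⟨w, hw, σ, hσ, h0, h0', hwa⟩ := exists_L D a
  rw [Ua_eq D hw hwa, Subgroup.pointwise_smul_subset_iff]
  refine hU.trans (iSup_le ?_)
  rintro ⟨⟨i, j⟩, hi, hj, hij⟩
  rw [← Subgroup.pointwise_smul_subset_iff]
  refine (conj_WW_le D hw hσ i j).trans (hA _ _ ?_ ?_ ?_)
  · intro h2
    exact hi (σ.injective (h2.trans h0.symm))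
  · intro h2
    exact hj (σ.injective (h2.trans h0.symm))
  · intro h2
    exact hij (σ.injective h2)

include hU hX in
/-- `C_G(D_ij)` normalises `Vq`. -/
theorem CD_le {i j : Fin (2 ^ m + 1)} (hij : i ≠ j) : CD ε i j ≤ normalizer (Vq L U ε : Set G) := by
  have h5 := five D
  have h1 : ∀ t ∈ CD ε i j, MulAut.conj t • Vq L U ε ≤ Vq L U ε := by
    intro t ht
    have h2 : Vq L U ε ≤ ⨆ a : {a : Fin (2 ^ m + 1) // a ≠ i ∧ a ≠ j}, Ua L U ε (a : Fin (2 ^ m + 1)) := by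
      refine iSup_le fun b => Ua_le_WW D hU b fun k l _ _ hkl => ?_
      obtain ⟨a, ha⟩ := exists_not_mem ({i, j, k, l} : Finset (Fin (2 ^ m + 1)))
        (lt_of_le_of_lt Finset.card_le_four (by omega))
      simp only [Finset.mem_insert, Finset.mem_singleton, not_or] at ha
      exact (WW_le D hX hkl ha.2.2.1 ha.2.2.2).trans
        (le_iSup (fun a : {a : Fin (2 ^ m + 1) // a ≠ i ∧ a ≠ j} => Ua L U ε (a : Fin (2 ^ m + 1)))
          ⟨a, ha.1, ha.2.1⟩)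
    refine (conj_le_iff.2 h2).trans ?_
    rw [Subgroup.pointwise_smul_subset_iff]
    refine iSup_le fun a => ?_
    rw [← Subgroup.pointwise_smul_subset_iff, CD_Ua D hX hij a.2.1 a.2.2 ht]
    exact Ua_le_Vq _
  intro t ht
  refine mem_normalizer_of_conj_eq (le_antisymm (h1 t ht) ?_)
  have h3 := conj_le_iff (g := t) |>.2 (h1 t⁻¹ (inv_mem ht))
  rwa [conj_conj, mul_inv_cancel, map_one, one_smul] at h3

end

/-- an element permuting the points acts as a permutation -/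
theorem acts_of_pt (D : GDat V L C U ε) {g : G} (hg : ∀ a, ∃ b, g * pt ε a * g⁻¹ = pt ε b) : ∃ σ, Acts ε g σ := by
  choose f hf using hg
  have hinj : Function.Injective f := by
    intro a b hab
    have h3 := hf a
    rw [hab, ← hf b] at h3
    exact pt_inj D (conj_mul_inj.1 h3)
  let σ : Equiv.Perm (Fin (2 ^ m + 1)) := Equiv.ofBijective f (Finite.injective_iff_bijective.1 hinj)
  refine ⟨σ, fun x => ?_⟩
  have h0 : ∀ x : Fin (2 ^ m + 1) → ZMod 2, ∀ s : Finset (Fin (2 ^ m + 1)),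
      g * ε (∑ i ∈ s, Pi.single i (x i)) * g⁻¹ = ε ((∑ i ∈ s, Pi.single i (x i)) ∘ σ.symm) := by
    intro x s
    induction s using Finset.induction_on with
    | empty =>
      have e1 : ((0 : Fin (2 ^ m + 1) → ZMod 2) ∘ σ.symm) = 0 := rfl
      rw [Finset.sum_empty, e1, D.ev.zero]
      group
    | insert a s ha ih =>
      rw [Finset.sum_insert ha, D.ev.add]
      have e1 : (Pi.single a (x a) + ∑ i ∈ s, Pi.single i (x i) : Fin (2 ^ m + 1) → ZMod 2) ∘ σ.symm =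
          (Pi.single a (x a) : Fin (2 ^ m + 1) → ZMod 2) ∘ σ.symm + (∑ i ∈ s, Pi.single i (x i)) ∘ σ.symm := rfl
      rw [e1, D.ev.add, ← ih]
      have e2 : g * ε (Pi.single a (x a)) * g⁻¹ = ε ((Pi.single a (x a) : Fin (2 ^ m + 1) → ZMod 2) ∘ σ.symm) := by
        have h01 : ∀ a : ZMod 2, a = 0 ∨ a = 1 := by decide
        rcases h01 (x a) with h | h
        · have e3 : ((0 : Fin (2 ^ m + 1) → ZMod 2) ∘ σ.symm) = 0 := rfl
          rw [h, Pi.single_zero, e3, D.ev.zero]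
          group
        · rw [h]
          have e3 : (Pi.single a 1 : Fin (2 ^ m + 1) → ZMod 2) ∘ σ.symm = Pi.single (σ a) 1 := by
            funext k
            rw [Function.comp_apply]
            by_cases hk : k = σ a
            · rw [hk, Equiv.symm_apply_apply, Pi.single_eq_same, Pi.single_eq_same]
            · rw [Pi.single_eq_of_ne hk, Pi.single_eq_of_ne]
              intro e
              exact hk (by rw [← e, Equiv.apply_symm_apply])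
          rw [e3]
          exact hf a
      calc g * (ε (Pi.single a (x a)) * ε (∑ i ∈ s, Pi.single i (x i))) * g⁻¹
          = (g * ε (Pi.single a (x a)) * g⁻¹) * (g * ε (∑ i ∈ s, Pi.single i (x i)) * g⁻¹) := by group
        _ = _ := by rw [e2]
  have h1 := h0 x Finset.univ
  rwa [Finset.univ_sum_single] at h1

variable [Finite G]

/-- **THEOREM HT', parts (10), (11), relative form.** -/
theorem C_le (D : GDat V L C U ε) (hCV : centralizer (V : Set G) ≤ C)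
    (hX : ∀ i j : Fin (2 ^ m + 1), i ≠ 0 → j ≠ 0 → i ≠ j → CD ε i j ≤ C)
    {S : Subgroup G} (hS2 : IsPGroup 2 S) (hSC : S ≤ C) (hSd : ¬ 2 ∣ S.relIndex C)
    (hSN : S ≤ normalizer (V : Set G)) (Tr : G → G → Prop)
    (h1 : ∀ t p, Tr t p → t ∈ C)
    (hconj : ∀ c ∈ C, ∀ t p, Tr t p → Tr (c * t * c⁻¹) (c * p * c⁻¹))
    (hmul : ∀ t p, Tr t p → ∀ c ∈ centralizer (U : Set G), Tr (t * c) p)
    (hsq : ∀ t p, Tr t p → t * t ∈ centralizer (U : Set G))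
    (hex : ∃ t p, Tr t p)
    (hnor : ∀ t p, Tr t p → t ∈ normalizer (V : Set G) →
      t ∈ centralizer (V : Set G) ∧ ∃ i, i ≠ 0 ∧ p = pt ε i)
    (hadj : ∀ t p, Tr t p → ∃ i j, i ≠ j ∧ t ∈ CD ε i j)
    (hU : U ≤ ⨆ p : {p : Fin (2 ^ m + 1) × Fin (2 ^ m + 1) // p.1 ≠ 0 ∧ p.2 ≠ 0 ∧ p.1 ≠ p.2},
      WW V ε (p : Fin (2 ^ m + 1) × Fin (2 ^ m + 1)).1 (p : Fin (2 ^ m + 1) × Fin (2 ^ m + 1)).2) :
    C ≤ normalizer (Vq L U ε : Set G) := by
  -- the points of the transvections in `S`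
  have hS1 : ∀ t ∈ S, ∀ p, Tr t p → t ∈ centralizer (V : Set G) ∧ ∃ i, i ≠ 0 ∧ p = pt ε i :=
    fun t ht p htp => hnor t p htp (hSN ht)
  obtain ⟨t, ht, i₀, hi₀, hti⟩ : ∃ t ∈ S, ∃ i, i ≠ 0 ∧ Tr t (pt ε i) := by
    obtain ⟨t, p, htp⟩ := hex
    obtain ⟨c, hc, h2⟩ := exists_two_part (hsq t p htp)
    have h3 := hmul t p htp c hc
    obtain ⟨d, hd, h4⟩ := NO3S.FarQ.KCom.exists_conj_le hS2 hSd h2 ((zpowers_le).2 (h1 _ _ h3))
    have h5 := hconj d hd _ _ h3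
    have h6 := h4 _ (mem_zpowers _)
    obtain ⟨-, i, hi, hi'⟩ := hS1 _ h6 _ h5
    rw [hi'] at h5
    exact ⟨_, h6, i, hi, h5⟩
  have hSd' : ¬ 2 ∣ (S ⊓ centralizer (V : Set G)).relIndex (centralizer (V : Set G)) := by
    refine NO3S.FarQ.syl_of (fun s hs => mem_normalizer_of_conj_eq (by
      rw [← centralizer_conj, conj_eq_self (hSN hs)])) ?_
    have h2 : centralizer (V : Set G) ⊔ S ≤ C := sup_le hCV hSC
    have h3 : S.relIndex (centralizer (V : Set G) ⊔ S) ∣ S.relIndex C :=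
      ⟨(centralizer (V : Set G) ⊔ S).relIndex C, (relIndex_mul_relIndex _ _ _ le_sup_right h2).symm⟩
    exact fun h4 => hSd (h4.trans h3)
  have hS2' : ∀ i, i ≠ 0 → ∃ t ∈ S, Tr t (pt ε i) := by
    intro i hi
    obtain ⟨w, hw, hσ⟩ := D.ev.full (Equiv.swap i₀ i)
    have hw0 : w ∈ C := by
      refine D.L_le w hw ?_
      rw [hσ.single 0, Equiv.swap_apply_of_ne_of_ne (Ne.symm hi₀) (Ne.symm hi)]
    have h2 := hconj w hw0 _ _ hti
    rw [hσ.single, Equiv.swap_apply_left] at h2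
    have h3 : w * t * w⁻¹ ∈ centralizer (V : Set G) := by
      have h4 := mem_conj_of (hS1 t ht _ hti).1 w
      rwa [← centralizer_conj, conj_V D hw] at h4
    have h4 : IsPGroup 2 (zpowers (w * t * w⁻¹)) := by
      have h5 : IsPGroup 2 (zpowers t) := hS2.to_le ((zpowers_le).2 ht)
      rw [← conj_zpowers]
      exact h5.map _
    obtain ⟨c, hc, h5⟩ := NO3S.FarQ.KCom.exists_conj_le (hS2.to_le inf_le_left) hSd' h4
      ((zpowers_le).2 h3)
    have h6 := hconj c (hCV hc) _ _ h2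
    have h7 : c * pt ε i * c⁻¹ = pt ε i := by
      rw [mul_inv_eq_iff_eq_mul]
      exact (mem_centralizer_iff.1 hc _ (D.ev.mem _)).symm
    rw [h7] at h6
    exact ⟨_, (h5 _ (mem_zpowers _)).1, h6⟩
  -- the normal subgroup generated by the transvections
  set E : Subgroup G := closure {t | ∃ p, Tr t p} with hE
  have hEC : E ≤ C := (closure_le _).2 fun t ⟨p, h2⟩ => h1 t p h2
  have hCE : C ≤ normalizer (E : Set G) := by
    have key : ∀ c ∈ C, MulAut.conj c • E ≤ E := by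
      intro c hc
      rw [Subgroup.pointwise_smul_subset_iff]
      refine (closure_le _).2 ?_
      rintro t ⟨p, h2⟩
      change t ∈ (MulAut.conj c)⁻¹ • E
      rw [mem_inv_pointwise_smul_iff]
      exact subset_closure ⟨_, hconj c hc t p h2⟩
    intro c hc
    refine mem_normalizer_of_conj_eq (le_antisymm (key c hc) ?_)
    have h3 := conj_le_iff (g := c) |>.2 (key c⁻¹ (inv_mem hc))
    rwa [conj_conj, mul_inv_cancel, map_one, one_smul] at h3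
  have hEN : E ≤ normalizer (Vq L U ε : Set G) := by
    refine (closure_le _).2 ?_
    rintro t ⟨p, h2⟩
    obtain ⟨i, j, hij, h3⟩ := hadj t p h2
    exact CD_le D hX hU hij h3
  refine (MinSimple.Basic.frattini hSC hS2 hSd hCE).trans (sup_le hEN ?_)
  rintro c ⟨hc, hcn⟩
  obtain ⟨σ, hσ⟩ := acts_of_pt D (g := c) fun a => by
    by_cases ha : a = 0
    · subst ha
      exact ⟨0, mem_Cn'.1 (D.C_le hc)⟩
    · obtain ⟨t, ht, h2⟩ := hS2' a ha
      have h3 : t ∈ S ⊓ E := ⟨ht, subset_closure ⟨_, h2⟩⟩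
      have h4 := (mem_normalizer_iff.1 hcn t).1 h3
      obtain ⟨-, b, -, hb⟩ := hS1 _ h4.1 _ (hconj c hc _ _ h2)
      exact ⟨b, hb⟩
  exact acts_Vq D hCV hσ

/-- **THEOREM HT', relative form.** -/
theorem main (D : GDat V L C U ε) (hCV : centralizer (V : Set G) ≤ C)
    (hX : ∀ i j : Fin (2 ^ m + 1), i ≠ 0 → j ≠ 0 → i ≠ j → CD ε i j ≤ C)
    {S : Subgroup G} (hS2 : IsPGroup 2 S) (hSC : S ≤ C) (hSd : ¬ 2 ∣ S.relIndex C)
    (hSN : S ≤ normalizer (V : Set G))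
    (hTR : ∀ (c : ZMod 2) (f : Wm D →ₗ[ZMod 2] Wm D →ₗ[ZMod 2] ZMod 2), Pre (rp D) (Om D) (zW D) (aa D) →
      Fm (rp D) (Om D) (zW D) (aa D) c f → TRes (Om D) (zW D) (aa D) f)
    {t p : G} (ht : t ∈ C) (hp : ∃ c ∈ C, ∃ i, i ≠ 0 ∧ p = c * pt ε i * c⁻¹)
    (htu : ∀ u ∈ U, t * u * t⁻¹ = u ∨ t * u * t⁻¹ = u * p ∨ t * u * t⁻¹ = u * pt ε 0 ∨
      t * u * t⁻¹ = u * (p * pt ε 0))
    (hne : ∃ u ∈ U, t * u * t⁻¹ ≠ u) :
    IsPGroup 2 (Vq L U ε) ∧ Vq L U ε ≠ ⊥ ∧ U ≤ Vq L U ε ∧ Vq L U ε ≤ o2 (centralizer (V : Set G)) ∧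
      L ≤ normalizer (Vq L U ε : Set G) ∧ C ≤ normalizer (Vq L U ε : Set G) := by
  refine ⟨Vq_isPGroup D hCV, Vq_ne_bot D, U_le_Vq D, Vq_le D hCV, L_le D hCV, ?_⟩
  have Hp : Pre (rp D) (Om D) (zW D) (aa D) := by
    refine pre D ht ?_ htu hne
    obtain ⟨c, hc, i, hi, rfl⟩ := hp
    obtain ⟨j, rfl⟩ := Fin.exists_succ_eq.2 hi
    exact ⟨c, hc, j, rfl⟩
  obtain ⟨c, f, F⟩ := Hp.exists_fm
  have R := hTR c f Hp F
  have hUC : centralizer (U : Set G) ≤ C := (centralizer_le D.V_le).trans hCV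
  have h01 : (0 : Fin (2 ^ m + 1)) ≠ Fin.succ ⟨0, by positivity⟩ := (Fin.succ_ne_zero _).symm
  refine C_le D hCV hX hS2 hSC hSd hSN (Tr D c f) (fun t p T => Tr.mem D T) (fun c hc t p T => Tr.conj D F T hc)
    (fun t p T d hd => Tr.mulC D F T (hUC hd) hd) (fun t p T => Tr.sq D F T) ?_ ?_ ?_ ?_
  · obtain ⟨t, ht⟩ := Tr.exists_of D F (aa_Om D ⟨0, by positivity⟩)
    exact ⟨t, _, ht⟩
  · intro t p T hn
    obtain ⟨i, hi, rfl⟩ := Tr.nor D F Hp R T hn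
    exact ⟨Tr.cent D F T, i, hi, rfl⟩
  · intro t p T
    rcases Tr.adj D F Hp R T with ⟨i, hi, rfl⟩ | ⟨i, j, hi, hj, hij, h1⟩
    · have h2 := Tr.cent D F T
      refine ⟨_, _, h01, mem_CD.2 fun v _ => ?_⟩
      exact mul_inv_eq_iff_eq_mul.2 (mem_centralizer_iff.1 h2 _ (D.ev.mem v)).symm
    · refine ⟨i, j, hij, mem_CD.2 fun v hv => ?_⟩
      exact mul_inv_eq_iff_eq_mul.2 (mem_centralizer_iff.1 h1 _ ⟨v, hv, rfl⟩).symm
  · refine GrpM.span D F Hp R fun i j hi hj hij t _ ht v hv => ?_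
    have h1 : t ∈ CD ε i j := mem_CD.2 fun v hv =>
      mul_inv_eq_iff_eq_mul.2 (mem_centralizer_iff.1 ht _ ⟨v, hv, rfl⟩).symm
    refine le_iSup (fun p : {p : Fin (2 ^ m + 1) × Fin (2 ^ m + 1) // p.1 ≠ 0 ∧ p.2 ≠ 0 ∧ p.1 ≠ p.2} =>
      WW V ε (p : Fin (2 ^ m + 1) × Fin (2 ^ m + 1)).1
          (p : Fin (2 ^ m + 1) × Fin (2 ^ m + 1)).2) ⟨(i, j), hi, hj, hij⟩ ?_
    exact conj_le_WW h1 (mem_conj_of hv t)

/-- **THEOREM HT', relative form, `m ≥ 3`.** -/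
theorem main_six (D : GDat V L C U ε) (h3 : 3 ≤ m) (hCV : centralizer (V : Set G) ≤ C)
    (hX : ∀ i j : Fin (2 ^ m + 1), i ≠ 0 → j ≠ 0 → i ≠ j → CD ε i j ≤ C)
    {S : Subgroup G} (hS2 : IsPGroup 2 S) (hSC : S ≤ C) (hSd : ¬ 2 ∣ S.relIndex C)
    (hSN : S ≤ normalizer (V : Set G)) {T : Set C} (hT : Lq (rp D) (zW D) (aa D) T)
    {t p : G} (ht : t ∈ C) (hp : ∃ c ∈ C, ∃ i, i ≠ 0 ∧ p = c * pt ε i * c⁻¹)
    (htu : ∀ u ∈ U, t * u * t⁻¹ = u ∨ t * u * t⁻¹ = u * p ∨ t * u * t⁻¹ = u * pt ε 0 ∨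
      t * u * t⁻¹ = u * (p * pt ε 0))
    (hne : ∃ u ∈ U, t * u * t⁻¹ ≠ u) :
    IsPGroup 2 (Vq L U ε) ∧ Vq L U ε ≠ ⊥ ∧ U ≤ Vq L U ε ∧ Vq L U ε ≤ o2 (centralizer (V : Set G)) ∧
      L ≤ normalizer (Vq L U ε : Set G) ∧ C ≤ normalizer (Vq L U ε : Set G) := by
  refine main D hCV hX hS2 hSC hSd hSN (fun c f Hp F => TRes.of_six Hp F ?_ ?_ hT) ht hp htu hne
  · rw [Fintype.card_fin]
    exact Nat.even_pow.2 ⟨even_two, by omega⟩
  · rw [Fintype.card_fin]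
    have h1 : 2 ^ 3 ≤ 2 ^ m := Nat.pow_le_pow_right (by norm_num) h3
    omega

end Cfsg.Agent.Omega.NO3S.SN.HT.EndM
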