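import Cfsg.Agent.Omega.TV.Big
import Cfsg.Agent.Omega.TV.Group
import Cfsg.Agent.Omega.TV.One

/-!
# THEOREM HT' (helper581, bb #20437; SN(2), K-free): (0), (1), (1')

`H` acts on the `𝔽₂`-space `W`, `z ≠ 0` is fixed, `Om` is an orbit which spans `W`, `p + z ∉ Om` for `p ∈ Om`,
`a i` is a basis of a subspace with `∑ a i = z`, all of whose permutations are induced, the only points in it are the
`a i`, `O₂(H) = 1` on `W`; some nontrivial `g ∈ H` has `[w, g] ∈ {0, p, z, p + z}` for all `w`, `p ∈ Om`.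

* `Pre.exists_fm` : there is an invariant symplectic form `f` on `W` with `f z = 0` and a `c : 𝔽₂` such that
  `w ↦ w + f p w • (p + c z)` is induced by `H` for all `p ∈ Om`; all `a i` have common neighbours.
-/

set_option autoImplicit false

namespace Cfsg.Agent.Omega.NO3S.SN.HT

open Module Cfsg.Agent.Omega.TV

variable {H : Type*} [Group H] {W : Type*} [AddCommGroup W] [Module (ZMod 2) W]
  {ι : Type*} [Fintype ι]

/-- The setting. -/
structure Pre (ρ : H →* (W ≃ₗ[ZMod 2] W)) (Om : Set W) (z : W) (a : ι → W) : Prop where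
  z0 : z ≠ 0
  fix : ∀ g, ρ g z = z
  inv : ∀ g, ∀ p ∈ Om, ρ g p ∈ Om
  trans : ∀ r ∈ Om, ∀ s ∈ Om, ∃ g, ρ g r = s
  span : Submodule.span (ZMod 2) Om = ⊤
  ne : ∀ p ∈ Om, p ≠ 0 ∧ p ≠ z
  nz : ∀ p ∈ Om, p + z ∉ Om
  o2 : ∀ K : Subgroup H, K.Normal → (∀ k ∈ K, ∃ m : ℕ, ∀ v, ρ (k ^ 2 ^ m) v = v) →
    ∀ k ∈ K, ∀ v, ρ k v = v
  mem : ∀ i, a i ∈ Om
  sum : ∑ i, a i = z
  ind : LinearIndependent (ZMod 2) a
  line : ∀ p ∈ Om, p ∈ Submodule.span (ZMod 2) (Set.range a) → ∃ i, p = a i
  perm : ∀ σ : Equiv.Perm ι, ∃ g : H, ∀ i, ρ g (a i) = a (σ i)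
  card : 4 ≤ Fintype.card ι
  ex : ∃ p ∈ Om, ∃ g : H, (∀ w, ρ g w = w ∨ ρ g w = w + p ∨ ρ g w = w + z ∨ ρ g w = w + (p + z)) ∧
    ∃ w, ρ g w ≠ w

/-! ### The quotient -/

/-- `⟨z⟩` -/
abbrev Zz (z : W) : Submodule (ZMod 2) W := Submodule.span (ZMod 2) {z}

theorem mem_Zz {z w : W} : w ∈ Zz z ↔ w = 0 ∨ w = z := by
  rw [Submodule.mem_span_singleton]
  constructor
  · rintro ⟨c, rfl⟩
    rcases z2 c with e | e
    · left; rw [e, zero_smul]
    · right; rw [e, one_smul]
  · rintro (rfl | rfl)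
    · exact ⟨0, zero_smul _ _⟩
    · exact ⟨1, one_smul _ _⟩

theorem mk_eq {z v w : W} : (Zz z).mkQ v = (Zz z).mkQ w ↔ v = w ∨ v = w + z := by
  rw [Submodule.mkQ_apply, Submodule.mkQ_apply, Submodule.Quotient.eq, mem_Zz, sub_eq_zero]
  constructor
  · rintro (e | e)
    · exact Or.inl e
    · exact Or.inr (by rw [← e]; abel)
  · rintro (e | e)
    · exact Or.inl e
    · exact Or.inr (by rw [e]; abel)

theorem mk_eq_zero {z v : W} : (Zz z).mkQ v = 0 ↔ v = 0 ∨ v = z := by
  have := mk_eq (z := z) (v := v) (w := 0)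
  rwa [map_zero, zero_add] at this

variable {ρ : H →* (W ≃ₗ[ZMod 2] W)} {z : W}

theorem map_Zz (hz : ∀ g, ρ g z = z) (g : H) :
    (Zz z).map ((ρ g : W ≃ₗ[ZMod 2] W) : W →ₗ[ZMod 2] W) = Zz z := by
  rw [Submodule.map_span, Set.image_singleton]
  congr 1
  change {(ρ g) z} = _
  rw [hz g]

instance finq [Finite W] (z : W) : Finite (W ⧸ Zz z) := Finite.of_surjective _ (Zz z).mkQ_surjective

/-- the representation on `W / ⟨z⟩` -/
noncomputable def qrep (hz : ∀ g, ρ g z = z) :
    H →* ((W ⧸ Zz z) ≃ₗ[ZMod 2] (W ⧸ Zz z)) where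
  toFun g := Submodule.Quotient.equiv (Zz z) (Zz z) (ρ g) (map_Zz hz g)
  map_one' := by
    ext x
    obtain ⟨w, rfl⟩ := (Zz z).mkQ_surjective x
    change (Zz z).mkQ (ρ 1 w) = (Zz z).mkQ w
    rw [rone]
  map_mul' g k := by
    ext x
    obtain ⟨w, rfl⟩ := (Zz z).mkQ_surjective x
    change (Zz z).mkQ (ρ (g * k) w) = (Zz z).mkQ (ρ g (ρ k w))
    rw [rmul]

@[simp] theorem qrep_mk (hz : ∀ g, ρ g z = z) (g : H) (w : W) :
    qrep hz g ((Zz z).mkQ w) = (Zz z).mkQ (ρ g w) := rfl

/-- A linear map which is `x ↦ x` or `x ↦ x + r` pointwise. -/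
theorem exists_functional' {V : Type*} [AddCommGroup V] [Module (ZMod 2) V] (g : V →ₗ[ZMod 2] V)
    {r : V} (hr : r ≠ 0) (hg : ∀ x, g x = x ∨ g x = x + r) :
    ∃ φ : Dual (ZMod 2) V, ∀ x, g x = x + φ x • r := by
  classical
  let F : V → ZMod 2 := fun x => if g x = x then 0 else 1
  have hF0 : ∀ x, g x = x → F x = 0 := fun x e => if_pos e
  have hF1 : ∀ x, g x = x + r → F x = 1 := by
    intro x e
    refine if_neg fun e' => hr ?_
    rw [e'] at e
    simpa using e
  have hadd : ∀ x y, F (x + y) = F x + F y := by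
    intro x y
    rcases hg x with a | a <;> rcases hg y with b | b
    · rw [hF0 x a, hF0 y b, hF0 (x + y) (by rw [map_add, a, b]), add_zero]
    · rw [hF0 x a, hF1 y b, hF1 (x + y) (by rw [map_add, a, b, add_assoc]), zero_add]
    · rw [hF1 x a, hF0 y b, hF1 (x + y) (by rw [map_add, a, b]; abel), add_zero]
    · rw [hF1 x a, hF1 y b, hF0 (x + y) (by
        rw [map_add, a, b]
        calc x + r + (y + r) = x + y + (r + r) := by abel
          _ = x + y := by rw [v_add_self, add_zero])]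
      exact (z2_add_self 1).symm
  let φ : Dual (ZMod 2) V := AddMonoidHom.toZModLinearMap 2
    ({ toFun := F, map_zero' := hF0 0 (map_zero g), map_add' := hadd } : V →+ ZMod 2)
  refine ⟨φ, fun x => ?_⟩
  have hφ : φ x = F x := rfl
  rcases hg x with a | a
  · rw [hφ, hF0 x a, zero_smul, add_zero, a]
  · rw [hφ, hF1 x a, one_smul, a]

namespace Pre

variable {Om : Set W} {a : ι → W} (h : Pre ρ Om z a)

include h

/-- a chain of length 3 -/
theorem chain3 {U : Submodule (ZMod 2) W} (hU : ∀ (g : H), ∀ u ∈ U, ρ g u ∈ U) {g : H}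
    (h1 : ∀ u ∈ U, ρ g u = u ∨ ρ g u = u + z) (h2 : ∀ v, ρ g v + v ∈ U) : ∀ v, ρ g v = v := by
  let K : Subgroup H :=
    { carrier := {g | (∀ u ∈ U, ρ g u + u ∈ Zz z) ∧ ∀ v, ρ g v + v ∈ U ⊔ Zz z}
      one_mem' := ⟨fun u _ => by rw [rone, v_add_self]; exact zero_mem _,
        fun v => by rw [rone, v_add_self]; exact zero_mem _⟩
      mul_mem' := by
        rintro x y ⟨hx, hx'⟩ ⟨hy, hy'⟩
        refine ⟨fun u hu => ?_, fun v => ?_⟩
        · have e : ρ (x * y) u + u = (ρ x (ρ y u) + ρ y u) + (ρ y u + u) := by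
            rw [rmul]
            calc ρ x (ρ y u) + u = ρ x (ρ y u) + u + 0 := (add_zero _).symm
              _ = ρ x (ρ y u) + u + (ρ y u + ρ y u) := by rw [v_add_self]
              _ = _ := by abel
          rw [e]
          exact add_mem (hx _ (hU y u hu)) (hy u hu)
        · have e : ρ (x * y) v + v = (ρ x (ρ y v) + ρ y v) + (ρ y v + v) := by
            rw [rmul]
            calc ρ x (ρ y v) + v = ρ x (ρ y v) + v + 0 := (add_zero _).symm
              _ = ρ x (ρ y v) + v + (ρ y v + ρ y v) := by rw [v_add_self]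
              _ = _ := by abel
          rw [e]
          exact add_mem (hx' _) (hy' v)
      inv_mem' := by
        rintro x ⟨hx, hx'⟩
        refine ⟨fun u hu => ?_, fun v => ?_⟩
        · have h3 := hx _ (hU x⁻¹ u hu)
          rwa [rinv', add_comm] at h3
        · have h3 := hx' (ρ x⁻¹ v)
          rwa [rinv', add_comm] at h3 }
  have hKn : K.Normal := by
    constructor
    rintro x ⟨hx, hx'⟩ y
    refine ⟨fun u hu => ?_, fun v => ?_⟩
    · have h3 := hx _ (hU y⁻¹ u hu)
      have e : ρ (y * x * y⁻¹) u + u = ρ y (ρ x (ρ y⁻¹ u) + ρ y⁻¹ u) := by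
        rw [map_add, rinv', rmul, rmul]
      rw [e]
      rcases mem_Zz.1 h3 with h4 | h4
      · rw [h4, map_zero]; exact zero_mem _
      · rw [h4, h.fix]; exact mem_Zz.2 (Or.inr rfl)
    · have h3 := hx' (ρ y⁻¹ v)
      have e : ρ (y * x * y⁻¹) v + v = ρ y (ρ x (ρ y⁻¹ v) + ρ y⁻¹ v) := by
        rw [map_add, rinv', rmul, rmul]
      rw [e]
      obtain ⟨b, hb, c, hc, e'⟩ := Submodule.mem_sup.1 h3
      rw [← e', map_add]
      refine add_mem (Submodule.mem_sup_left (hU y b hb)) (Submodule.mem_sup_right ?_)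
      rcases mem_Zz.1 hc with h4 | h4
      · rw [h4, map_zero]; exact zero_mem _
      · rw [h4, h.fix]; exact mem_Zz.2 (Or.inr rfl)
  have hK : ∀ k ∈ K, ∃ m : ℕ, ∀ v, ρ (k ^ 2 ^ m) v = v := by
    rintro k ⟨hk, hk'⟩
    have hz : ∀ w ∈ Zz z, ρ k w = w := by
      intro w hw
      rcases mem_Zz.1 hw with e | e
      · rw [e, map_zero]
      · rw [e, h.fix]
    have h3 : ∀ v, ρ k (ρ k v) + v ∈ Zz z := by
      intro v
      have h4 : ρ k (ρ k v + v) + (ρ k v + v) ∈ Zz z := by
        obtain ⟨b, hb, c, hc, e'⟩ := Submodule.mem_sup.1 (hk' v)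
        rw [← e', map_add, hz c hc]
        have e2 : ρ k b + c + (b + c) = ρ k b + b := by
          calc ρ k b + c + (b + c) = ρ k b + b + (c + c) := by abel
            _ = _ := by rw [v_add_self, add_zero]
        rw [e2]
        exact hk b hb
      rw [map_add] at h4
      have e3 : ρ k (ρ k v) + ρ k v + (ρ k v + v) = ρ k (ρ k v) + v := by
        calc ρ k (ρ k v) + ρ k v + (ρ k v + v) = ρ k (ρ k v) + v + (ρ k v + ρ k v) := by abel
          _ = _ := by rw [v_add_self, add_zero]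
      rwa [e3] at h4
    refine ⟨2, fun v => ?_⟩
    have e4 : k ^ 2 ^ 2 = k * (k * (k * k)) := by
      change k ^ 4 = _
      rw [pow_succ', pow_succ', pow_two]
    rw [e4, rmul, rmul, rmul]
    have h5 := h3 v
    have h6 := h3 (ρ k (ρ k v))
    have h7 : ρ k (ρ k v) = v + (ρ k (ρ k v) + v) := by
      calc ρ k (ρ k v) = ρ k (ρ k v) + (v + v) := by rw [v_add_self, add_zero]
        _ = _ := by abel
    have h8 : ρ k (ρ k (ρ k (ρ k v))) = ρ k (ρ k v) + (ρ k (ρ k v) + v) := by
      nth_rewrite 1 [h7]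
      rw [map_add, map_add, hz _ h5, hz _ h5]
    rw [h8]
    calc ρ k (ρ k v) + (ρ k (ρ k v) + v) = v + (ρ k (ρ k v) + ρ k (ρ k v)) := by abel
      _ = v := by rw [v_add_self, add_zero]
  refine h.o2 K hKn hK g ⟨fun u hu => ?_, fun v => Submodule.mem_sup_left (h2 v)⟩
  rcases h1 u hu with e | e
  · rw [e, v_add_self]; exact zero_mem _
  · rw [e]
    have : u + z + u = z := by
      calc u + z + u = z + (u + u) := by abel
        _ = z := by rw [v_add_self, add_zero]
    rw [this]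
    exact mem_Zz.2 (Or.inr rfl)

/-- the kernel on `W / ⟨z⟩` is the kernel on `W` -/
theorem triv {g : H} (hg : ∀ w, ρ g w = w ∨ ρ g w = w + z) : ∀ w, ρ g w = w := by
  refine h.chain3 (U := Zz z) ?_ (fun u _ => hg u) fun v => ?_
  · intro k u hu
    rcases mem_Zz.1 hu with e | e
    · rw [e, map_zero]; exact zero_mem _
    · rw [e, h.fix]; exact mem_Zz.2 (Or.inr rfl)
  · rcases hg v with e | e
    · rw [e, v_add_self]; exact zero_mem _
    · rw [e]
      have : v + z + v = z := by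
        calc v + z + v = z + (v + v) := by abel
          _ = z := by rw [v_add_self, add_zero]
      rw [this]
      exact mem_Zz.2 (Or.inr rfl)

theorem mk_ne {p : W} (hp : p ∈ Om) : (Zz z).mkQ p ≠ 0 := fun e =>
  (mk_eq_zero.1 e).elim (h.ne p hp).1 (h.ne p hp).2

theorem eq_of_mk {p q : W} (hp : p ∈ Om) (hq : q ∈ Om) (e : (Zz z).mkQ p = (Zz z).mkQ q) : p = q := by
  rcases mk_eq.1 e with e | e
  · exact e
  · exact absurd (e ▸ hp) (h.nz q hq)

theorem sys : Sys (qrep h.fix) ((Zz z).mkQ '' Om) where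
  zero := by
    rintro ⟨p, hp, e⟩
    exact h.mk_ne hp e
  inv := by
    rintro g _ ⟨p, hp, rfl⟩
    exact ⟨ρ g p, h.inv g p hp, rfl⟩
  trans := by
    rintro _ ⟨p, hp, rfl⟩ _ ⟨q, hq, rfl⟩
    obtain ⟨g, hg⟩ := h.trans p hp q hq
    exact ⟨g, by rw [qrep_mk, hg]⟩
  span := by
    rw [← Submodule.map_span, h.span, Submodule.map_top, Submodule.range_mkQ]
  ex := by
    obtain ⟨p, hp, g, hg, w, hw⟩ := h.ex
    obtain ⟨φ, hφ⟩ := exists_functional (qrep h.fix g) (h.mk_ne hp) (fun x => by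
      obtain ⟨w, rfl⟩ := (Zz z).mkQ_surjective x
      rw [qrep_mk, ← map_add, mk_eq, mk_eq]
      rcases hg w with e | e | e | e
      · exact Or.inl (Or.inl e)
      · exact Or.inr (Or.inl e)
      · exact Or.inl (Or.inr e)
      · exact Or.inr (Or.inr (by rw [e]; abel)))
    refine ⟨_, ⟨p, hp, rfl⟩, φ, ?_, ?_, g, hφ⟩
    · rintro rfl
      refine hw (h.triv (g := g) (fun v => ?_) w)
      have h1 := hφ ((Zz z).mkQ v)
      rw [LinearMap.zero_apply, zero_smul, add_zero, qrep_mk] at h1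
      exact mk_eq.1 h1
    · by_contra hne
      have h1 := hφ ((Zz z).mkQ p)
      rw [z2_ne_zero hne, one_smul, v_add_self] at h1
      exact h.mk_ne hp ((qrep h.fix g).map_eq_zero_iff.1 h1)
  chain := by
    intro U hU g h1 h2 x
    obtain ⟨w, rfl⟩ := (Zz z).mkQ_surjective x
    rw [qrep_mk]
    rw [h.chain3 (U := U.comap (Zz z).mkQ) (g := g) ?_ ?_ ?_ w]
    · intro k u hu
      exact hU k _ hu
    · intro u hu
      exact mk_eq.1 (h1 _ hu)
    · intro v
      have h3 := h2 ((Zz z).mkQ v)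
      rw [qrep_mk, ← map_add] at h3
      exact h3

/-! ### (0): the elements with centre `a i` centralise the `a j` -/

/-- a point of the line is fixed -/
theorem fix_of (i : ι) {g : H} (hg : ∀ w, ρ g w = w ∨ ρ g w = w + a i ∨ ρ g w = w + z ∨
    ρ g w = w + (a i + z)) (j : ι) : ρ g (a j) = a j := by
  classical
  have hsa : ∀ k, a k ∈ Submodule.span (ZMod 2) (Set.range a) := fun k =>
    Submodule.subset_span (Set.mem_range_self k)
  have hsz : z ∈ Submodule.span (ZMod 2) (Set.range a) := by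
    rw [← h.sum]
    exact Submodule.sum_mem _ fun k _ => hsa k
  have h1 : ρ g (a j) ∈ Submodule.span (ZMod 2) (Set.range a) := by
    rcases hg (a j) with e | e | e | e <;> rw [e]
    · exact hsa j
    · exact add_mem (hsa j) (hsa i)
    · exact add_mem (hsa j) hsz
    · exact add_mem (hsa j) (add_mem (hsa i) hsz)
  obtain ⟨k, hk⟩ := h.line _ (h.inv g _ (h.mem j)) h1
  by_contra hne
  have hkj : k ≠ j := fun e => hne (by rw [hk, e])
  have hlin := Fintype.linearIndependent_iff.1 h.ind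
  -- a third letter
  obtain ⟨l, hl⟩ : ∃ l : ι, l ∉ ({i, j, k} : Finset ι) := by
    by_contra hcon
    push Not at hcon
    have h8 : (Finset.univ : Finset ι) ⊆ {i, j, k} := fun l _ => hcon l
    have h9 := Finset.card_le_card h8
    have h10 : ({i, j, k} : Finset ι).card ≤ 3 := Finset.card_le_three
    rw [Finset.card_univ] at h9
    have := h.card
    omega
  simp only [Finset.mem_insert, Finset.mem_singleton, not_or] at hl
  obtain ⟨hli, hlj, hlk⟩ := hl
  have key : ∀ (x y : ZMod 2), a k = a j + (x • a i + y • z) → False := by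
    intro x y e
    let c : ι → ZMod 2 := fun l => (if l = k then 1 else 0) + (if l = j then 1 else 0) +
      ((if l = i then x else 0) + y)
    have h2 : ∑ l, c l • a l = 0 := by
      have e1 : ∑ l, c l • a l = a k + a j + (x • a i + y • z) := by
        simp only [c, add_smul, Finset.sum_add_distrib, ite_smul, one_smul, zero_smul, Finset.sum_ite_eq',
          Finset.mem_univ, if_true]
        rw [← Finset.smul_sum, h.sum]
      rw [e1, e]
      calc a j + (x • a i + y • z) + a j + (x • a i + y • z)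
          = (a j + a j) + ((x • a i + y • z) + (x • a i + y • z)) := by abel
        _ = 0 := by rw [v_add_self, v_add_self, add_zero]
    have h3 := hlin c h2
    have h4 := h3 l
    simp only [c, if_neg hlk, if_neg hlj, if_neg hli, zero_add] at h4
    have h5 := h3 k
    simp only [c, if_neg hkj, h4, add_zero, if_true] at h5
    have h6 := h3 j
    simp only [c, if_neg (Ne.symm hkj), h4, add_zero, if_true, zero_add] at h6
    by_cases hki : k = i
    · have : j ≠ i := fun e => hkj (hki.trans e.symm)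
      rw [if_neg this, add_zero] at h6
      exact one_ne_zero h6
    · rw [if_neg hki, add_zero] at h5
      exact one_ne_zero h5
  have h7 := hg (a j)
  rw [hk] at h7
  rcases h7 with e | e | e | e
  · exact key 0 0 (by rw [e]; simp)
  · exact key 1 0 (by rw [e]; simp)
  · exact key 0 1 (by rw [e]; simp)
  · exact key 1 1 (by rw [e]; simp)

theorem of_fn {p : W} {φ : Dual (ZMod 2) (W ⧸ Zz z)} {g : H}
    (hg : ∀ x, qrep h.fix g x = x + φ x • (Zz z).mkQ p) (w : W) :
    ρ g w = w + φ ((Zz z).mkQ w) • p ∨ ρ g w = w + φ ((Zz z).mkQ w) • p + z := by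
  have h1 := hg ((Zz z).mkQ w)
  rw [qrep_mk, ← map_smul, ← map_add] at h1
  exact mk_eq.1 h1

theorem orth {i : ι} {φ : Dual (ZMod 2) (W ⧸ Zz z)} (hφ : Fn (qrep h.fix) ((Zz z).mkQ (a i)) φ) (j : ι) :
    φ ((Zz z).mkQ (a j)) = 0 := by
  obtain ⟨-, g, hg⟩ := hφ
  have h1 := h.fix_of i (g := g) (fun w => by
    have h2 := h.of_fn hg w
    rcases z2 (φ ((Zz z).mkQ w)) with e | e <;> rw [e] at h2
    · rw [zero_smul, add_zero] at h2
      rcases h2 with h2 | h2
      · exact Or.inl h2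
      · exact Or.inr (Or.inr (Or.inl h2))
    · rw [one_smul] at h2
      rcases h2 with h2 | h2
      · exact Or.inr (Or.inl h2)
      · exact Or.inr (Or.inr (Or.inr (by rw [h2, add_assoc])))) j
  have h3 := hg ((Zz z).mkQ (a j))
  rw [qrep_mk, h1] at h3
  by_contra hne
  rw [z2_ne_zero hne, one_smul] at h3
  exact h.mk_ne (h.mem i) (by simpa using h3)

theorem near_aa [Finite W] (i j : ι) : Sys.Near (qrep h.fix) ((Zz z).mkQ '' Om) ((Zz z).mkQ (a i)) ((Zz z).mkQ (a j)) := by
  classical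
  have hmem : ∀ k, (Zz z).mkQ (a k) ∈ (Zz z).mkQ '' Om := fun k => ⟨_, h.mem k, rfl⟩
  obtain ⟨x, hx, hax⟩ := h.sys.exists_adj (hmem i)
  -- some other letter is near
  have h1 : ∃ k, k ≠ i ∧ Sys.Near (qrep h.fix) ((Zz z).mkQ '' Om) ((Zz z).mkQ (a i)) ((Zz z).mkQ (a k)) := by
    by_contra hcon
    push Not at hcon
    obtain ⟨φ, hφ, e1⟩ := h.sys.symm (hmem i) hx hax
    have h2 : ∀ k, k ≠ i → φ ((Zz z).mkQ (a k)) = 0 := by
      intro k hk
      refine z2_ne_one fun e => hcon k hk ⟨x, hx, hax, φ, hφ, e⟩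
    have h3 : φ ((Zz z).mkQ (∑ k, a k)) = 0 := by
      rw [h.sum, mk_eq_zero.2 (Or.inr rfl), map_zero]
    rw [map_sum, map_sum, Finset.sum_eq_single i (fun k _ hk => h2 k hk)
      (fun hi => absurd (Finset.mem_univ i) hi), e1] at h3
    exact one_ne_zero h3
  obtain ⟨k, hk, hn⟩ := h1
  by_cases hij : j = i
  · subst hij
    exact h.sys.near_refl (hmem j)
  obtain ⟨g, hg⟩ := h.perm (Equiv.swap k j)
  have h2 := Sys.Near.conj h.sys hn g
  rw [qrep_mk, qrep_mk, hg, hg, Equiv.swap_apply_left, Equiv.swap_apply_of_ne_of_ne (Ne.symm hk) (Ne.symm hij)] at h2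
  exact h2

theorem small [Finite W] : Sys.Small (qrep h.fix) ((Zz z).mkQ '' Om) := by
  classical
  rcases h.sys.small_or_big with hs | hb
  · exact hs
  exfalso
  have h2 : 1 < Fintype.card ι := by have := h.card; omega
  obtain ⟨i, j, hij⟩ := Fintype.one_lt_card_iff.1 h2
  have hne : (Zz z).mkQ (a i) ≠ (Zz z).mkQ (a j) := fun e =>
    hij (h.ind.injective (h.eq_of_mk (h.mem i) (h.mem j) e))
  obtain ⟨φ, hφ, h1⟩ := h.sys.adj_of_near hb ⟨_, h.mem i, rfl⟩ ⟨_, h.mem j, rfl⟩ hne (h.near_aa i j)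
  rw [h.orth hφ j] at h1
  exact zero_ne_one h1

end Pre

/-- The form. -/
structure Fm (ρ : H →* (W ≃ₗ[ZMod 2] W)) (Om : Set W) (z : W) (a : ι → W) (c : ZMod 2)
    (f : W →ₗ[ZMod 2] W →ₗ[ZMod 2] ZMod 2) : Prop where
  comm : ∀ x y, f x y = f y x
  alt : ∀ x, f x x = 0
  inv : ∀ (g : H) x y, f (ρ g x) (ρ g y) = f x y
  zl : ∀ x, f z x = 0
  tr : ∀ p ∈ Om, ∃ g : H, ∀ w, ρ g w = w + f p w • (p + c • z)
  ne : ∀ p ∈ Om, ∃ q ∈ Om, f p q = 1
  near : ∀ i j, ∃ v ∈ Om, f (a i) v = 1 ∧ f v (a j) = 1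
  nt : ∀ p ∈ Om, ∀ q ∈ Om, ∀ r ∈ Om, (∃ v ∈ Om, f p v = 1 ∧ f v q = 1) → (∃ v ∈ Om, f q v = 1 ∧ f v r = 1) →
    ∃ v ∈ Om, f p v = 1 ∧ f v r = 1
  orth : ∀ i j, f (a i) (a j) = 0

namespace Pre

variable {Om : Set W} {a : ι → W} (h : Pre ρ Om z a)

include h

theorem exists_fm [Finite W] : ∃ (c : ZMod 2) (f : W →ₗ[ZMod 2] W →ₗ[ZMod 2] ZMod 2), Fm ρ Om z a c f := by
  classical
  obtain ⟨F, hF⟩ := h.sys.exists_form h.small
  let f : W →ₗ[ZMod 2] W →ₗ[ZMod 2] ZMod 2 := F.compl₁₂ (Zz z).mkQ (Zz z).mkQ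
  have hf : ∀ x y, f x y = F ((Zz z).mkQ x) ((Zz z).mkQ y) := fun x y => rfl
  have hfz : ∀ x, f z x = 0 := by
    intro x
    rw [hf, mk_eq_zero.2 (Or.inr rfl), map_zero, LinearMap.zero_apply]
  have hcomm : ∀ x y, f x y = f y x := fun x y => hF.comm _ _
  have halt : ∀ x, f x x = 0 := fun x => hF.alt _
  have hinv : ∀ (g : H) x y, f (ρ g x) (ρ g y) = f x y := fun g x y =>
    hF.inv g ((Zz z).mkQ x) ((Zz z).mkQ y)
  have hmk : ∀ {p}, p ∈ Om → (Zz z).mkQ p ∈ (Zz z).mkQ '' Om := fun hp => ⟨_, hp, rfl⟩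
  have hadj : ∀ {p q}, p ∈ Om → (Adj (qrep h.fix) ((Zz z).mkQ p) ((Zz z).mkQ q) ↔ f p q = 1) := fun hp =>
    hF.adj_iff (hmk hp)
  -- the elements
  have hex : ∀ p : W, ∃ (g : H) (D : Dual (ZMod 2) W), p ∈ Om → ∀ w, ρ g w = w + f p w • p + D w • z := by
    intro p
    by_cases hp : p ∈ Om
    swap
    · exact ⟨1, 0, fun h => absurd h hp⟩
    obtain ⟨-, g, hg⟩ := hF.fn _ (hmk hp)
    let L : W →ₗ[ZMod 2] W := ((ρ g : W ≃ₗ[ZMod 2] W) : W →ₗ[ZMod 2] W) + (f p).smulRight p
    have hL : ∀ w, L w = ρ g w + f p w • p := fun w => rfl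
    obtain ⟨D, hD⟩ := exists_functional' L h.z0 (fun w => by
      rw [hL]
      rcases h.of_fn hg w with e | e
      · left
        rw [e]
        change w + f p w • p + f p w • p = w
        rw [add_assoc, v_add_self, add_zero]
      · right
        rw [e]
        change w + f p w • p + z + f p w • p = w + z
        calc w + f p w • p + z + f p w • p = w + z + (f p w • p + f p w • p) := by abel
          _ = _ := by rw [v_add_self, add_zero])
    refine ⟨g, D, fun _ w => ?_⟩
    have h1 := hD w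
    rw [hL] at h1
    calc ρ g w = ρ g w + (f p w • p + f p w • p) := by rw [v_add_self, add_zero]
      _ = (ρ g w + f p w • p) + f p w • p := by abel
      _ = w + D w • z + f p w • p := by rw [h1]
      _ = _ := by abel
  choose g D hg using hex
  have hcan : ∀ {x y : ZMod 2}, x • z = y • z → x = y := by
    intro x y e
    rcases z2 x with ex | ex <;> rcases z2 y with ey | ey
    · rw [ex, ey]
    · rw [ex, ey, zero_smul, one_smul] at e
      exact absurd e.symm h.z0
    · rw [ex, ey, zero_smul, one_smul] at e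
      exact absurd e h.z0
    · rw [ex, ey]
  -- uniqueness
  have huniq : ∀ {p : W} {k : H} {D' : W → ZMod 2}, p ∈ Om → (∀ w, ρ k w = w + f p w • p + D' w • z) →
      ∀ w, D' w = D p w := by
    intro p k D' hp hk w
    have h1 : ∀ w, ρ ((g p)⁻¹ * k) w = w := by
      refine h.triv fun v => ?_
      have e1 : ρ k v = ρ (g p) v + (D' v + D p v) • z := by
        rw [hk, hg p hp, add_smul]
        calc v + f p v • p + D' v • z = v + f p v • p + D' v • z + (D p v • z + D p v • z) := by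
              rw [v_add_self, add_zero]
          _ = _ := by abel
      rw [rmul, e1, map_add, rinv, map_smul, h.fix]
      rcases z2 (D' v + D p v) with e | e
      · left; rw [e, zero_smul, add_zero]
      · right; rw [e, one_smul]
    have h2 := h1 w
    rw [rmul] at h2
    have h3 : ρ k w = ρ (g p) w := by
      have := congrArg (ρ (g p)) h2
      rwa [rinv'] at this
    rw [hk, hg p hp] at h3
    exact hcan (add_left_cancel h3)
  -- equivariance
  have heq : ∀ {p : W} (k : H) (w : W), p ∈ Om → D (ρ k p) (ρ k w) = D p w := by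
    intro p k w hp
    have h1 := huniq (p := ρ k p) (k := k * g p * k⁻¹) (D' := fun x => D p (ρ k⁻¹ x)) (h.inv k p hp) (fun x => by
      have e1 : f (ρ k p) x = f p (ρ k⁻¹ x) := by
        have := hinv k p (ρ k⁻¹ x)
        rwa [rinv'] at this
      rw [rmul, rmul, hg p hp, map_add, map_add, map_smul, map_smul, rinv', h.fix, e1]) (ρ k w)
    rw [← h1, rinv]
  have hDz : ∀ {p}, p ∈ Om → D p z = 0 := by
    intro p hp
    have h1 := hg p hp z
    rw [h.fix, hcomm, hfz, zero_smul, add_zero] at h1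
    have h2 : D p z • z = (0 : ZMod 2) • z := by
      rw [zero_smul]
      exact (left_eq_add.1 h1)
    exact hcan h2
  -- `f p q = 0`, `q` a point: `D p q = 0`
  have hD0 : ∀ {p q}, p ∈ Om → q ∈ Om → f p q = 0 → D p q = 0 := by
    intro p q hp hq e
    have h1 := hg p hp q
    rw [e, zero_smul, add_zero] at h1
    refine z2_ne_one fun e' => h.nz q hq ?_
    rw [e', one_smul] at h1
    rw [← h1]
    exact h.inv _ _ hq
  have hDs : ∀ {p q}, p ∈ Om → q ∈ Om → D p q = D q p := by
    intro p q hp hq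
    rcases z2 (f p q) with e | e
    · rw [hD0 hp hq e, hD0 hq hp (by rw [hcomm, e])]
    have h1 := hg p hp q
    have h2 := hg q hq p
    rw [e, one_smul] at h1
    rw [hcomm, e, one_smul] at h2
    have m1 : q + p + D p q • z ∈ Om := h1 ▸ h.inv _ _ hq
    have m2 : p + q + D q p • z ∈ Om := h2 ▸ h.inv _ _ hp
    rcases z2 (D p q) with d | d <;> rcases z2 (D q p) with d' | d'
    · rw [d, d']
    · rw [d, zero_smul, add_zero, add_comm] at m1
      rw [d', one_smul] at m2
      exact absurd m2 (h.nz _ m1)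
    · rw [d', zero_smul, add_zero, add_comm] at m2
      rw [d, one_smul] at m1
      exact absurd m1 (h.nz _ m2)
    · rw [d, d']
  have hsq : ∀ {p}, p ∈ Om → ∀ w, ρ (g p)⁻¹ w = w + f p w • p + D p w • z := by
    intro p hp w
    have h0 : D p p = 0 := hD0 hp hp (halt p)
    have h1 : ρ (g p) (w + f p w • p + D p w • z) = w := by
      rw [hg p hp, map_add, map_add, map_smul, map_smul, map_add, map_add, map_smul, map_smul,
        halt, h0, hDz hp, hcomm p z, hfz]
      simp only [smul_zero, add_zero]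
      calc w + f p w • p + D p w • z + f p w • p + D p w • z
          = w + (f p w • p + f p w • p) + (D p w • z + D p w • z) := by abel
        _ = w := by rw [v_add_self, v_add_self, add_zero, add_zero]
    calc ρ (g p)⁻¹ w = ρ (g p)⁻¹ (ρ (g p) (w + f p w • p + D p w • z)) := by rw [h1]
      _ = _ := rinv _ _ _
  -- adjacent points
  have hsum : ∀ {p q}, p ∈ Om → q ∈ Om → f p q = 1 → ∀ w, D p w + D q w = D p q * (f p w + f q w) := by
    intro p q hp hq e w
    have key : ∀ {p q}, p ∈ Om → q ∈ Om → f p q = 1 → D (q + p + D p q • z) w = D q w + D p q * f p w := by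
      intro p q hp hq e
      have h1 : ρ (g p) q = q + p + D p q • z := by rw [hg p hp, e, one_smul]
      have h2 := heq (g p) (ρ (g p)⁻¹ w) hq
      rw [rinv', h1, hsq hp, map_add, map_add, map_smul, map_smul, hDz hq] at h2
      rw [h2, smul_zero, add_zero, smul_eq_mul, hDs hq hp, mul_comm]
    have k1 := key hp hq e
    have k2 := key hq hp (by rw [hcomm, e])
    rw [hDs hq hp, add_comm p q] at k2
    rw [k1] at k2
    calc D p w + D q w = (D q w + D p q * f p w) + D p w + D p q * f p w + 0 := by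
          rw [← z2_add_self (D p q * f p w)]
          rw [z2_add_self]
          ring_nf
          rw [show (D p q * f p w * 2 : ZMod 2) = 0 by rw [mul_two]; exact z2_add_self _]
          ring
      _ = (D p w + D p q * f q w) + D p w + D p q * f p w + 0 := by rw [k2]
      _ = D p q * (f p w + f q w) := by
          rw [show D p w + D p q * f q w + D p w + D p q * f p w + 0 =
            (D p w + D p w) + D p q * (f p w + f q w) by ring, z2_add_self, zero_add]
  -- `D p q` is constant for the neighbours `q` of `p`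
  have hconst : ∀ {p q r}, p ∈ Om → q ∈ Om → r ∈ Om → f p q = 1 → f p r = 1 → D p q = 0 → D p r = 0 := by
    intro p q r hp hq hr e1 e2 d1
    refine z2_ne_one fun d2 => ?_
    have s1 := hsum hp hq e1
    have s2 := hsum hp hr e2
    have d3 : D q r = 1 := by
      have := s1 r
      rw [d1, zero_mul, d2] at this
      rcases z2 (D q r) with e | e
      · rw [e] at this
        simp at this
      · exact e
    have e3 : f q r = 1 := by
      refine z2_ne_zero fun e => ?_
      rw [hD0 hq hr e] at d3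
      exact zero_ne_one d3
    have s3 := hsum hq hr e3 p
    have s1' := s1 p
    have s2' := s2 p
    rw [d1, zero_mul] at s1'
    rw [d2, one_mul, halt, hcomm r p, e2, zero_add] at s2'
    rw [d3, one_mul, hcomm q p, e1, hcomm r p, e2] at s3
    rw [hD0 hp hp (halt p), zero_add] at s1' s2'
    rw [s1', s2'] at s3
    revert s3
    decide
  -- `D p = c f p`
  have hc : ∀ {p}, p ∈ Om → ∃ c : ZMod 2, ∀ w, D p w = c * f p w := by
    intro p hp
    obtain ⟨x, ⟨q, hq, rfl⟩, hx⟩ := h.sys.exists_adj (hmk hp)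
    have e1 := (hadj hp).1 hx
    refine ⟨D p q, fun w => ?_⟩
    have hl : D p = D p q • f p := by
      refine LinearMap.ext_on h.span fun r hr => ?_
      rw [LinearMap.smul_apply, smul_eq_mul]
      rcases z2 (f p r) with e | e
      · rw [e, mul_zero, hD0 hp hr e]
      · rw [e, mul_one]
        rcases z2 (D p q) with d | d
        · rw [d, hconst hp hq hr e1 e d]
        · rcases z2 (D p r) with d' | d'
          · rw [hconst hp hr hq e e1 d'] at d
            exact absurd d zero_ne_one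
          · rw [d, d']
    have h2 := LinearMap.congr_fun hl w
    rwa [LinearMap.smul_apply, smul_eq_mul] at h2
  -- the constant
  obtain ⟨p0, hp0, -⟩ := h.ex
  obtain ⟨c, hc0⟩ := hc hp0
  have hcc : ∀ {p}, p ∈ Om → ∀ w, D p w = c * f p w := by
    intro p hp w
    obtain ⟨k, rfl⟩ := h.trans p0 hp0 p hp
    have h1 := heq k (ρ k⁻¹ w) hp0
    rw [rinv'] at h1
    have h2 := hinv k p0 (ρ k⁻¹ w)
    rw [rinv'] at h2
    rw [h1, hc0, h2]
  refine ⟨c, f, hcomm, halt, hinv, hfz, fun p hp => ⟨g p, fun w => ?_⟩, fun p hp => ?_, fun i j => ?_, ?_, fun i j => ?_⟩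
  · rw [hg p hp, hcc hp, smul_add, smul_smul, mul_comm c, add_assoc]
  · obtain ⟨x, ⟨q, hq, rfl⟩, hx⟩ := h.sys.exists_adj (hmk hp)
    exact ⟨q, hq, (hadj hp).1 hx⟩
  · obtain ⟨x, ⟨q, hq, rfl⟩, h1, h2⟩ := h.near_aa i j
    exact ⟨q, hq, (hadj (h.mem i)).1 h1, (hadj hq).1 h2⟩
  · rintro p hp q hq r hr ⟨v, hv, e1, e2⟩ ⟨v', hv', e3, e4⟩
    obtain ⟨x, ⟨u, hu, rfl⟩, h1, h2⟩ := h.sys.near_trans (hmk hp) (hmk hq) (hmk hr)
      ⟨_, hmk hv, (hadj hp).2 e1, (hadj hv).2 e2⟩ ⟨_, hmk hv', (hadj hq).2 e3, (hadj hv').2 e4⟩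
    exact ⟨u, hu, (hadj hp).1 h1, (hadj hu).1 h2⟩
  · exact h.orth (hF.fn _ (hmk (h.mem i))) j

end Pre

end Cfsg.Agent.Omega.NO3S.SN.HT
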