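import Mathlib

/-!
# THEOREM SN, THEOREM HT'' (helper581, bb #21563, #21861): (5)-(9), pure form, for one Near class

As `HT/Types.lean`, but `Om` is ONE Near class `X₁` (it need not span `W`) and the hypothesis on `rad f` is replaced by
`nrc` : `p, q ∈ X₁` with `f p = f q` on `X₁` are equal. No LEMMA Q is involved.

* `SitN.type` **(5)** : `J(p) = {i : f p (z i) = 1}` is empty or has exactly two elements;
* `SitN.disj` **(6)** : points with disjoint nonempty types are orthogonal;
* `SitN.conn` **(7)** : a point with empty type is adjacent to a point with nonempty type; `SitN.span_types`;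
* `SitN.eq_z` **(8)** : a point with empty type is one of the `z i`;
* `SitN.add_mem` **(9)** : points of the same type `{i, j}` differ by an element of `⟨z i, z j⟩`.
-/

set_option autoImplicit false

namespace Cfsg.Agent.Omega.NO3S.SN.HT.TypesN

open Module

variable {W : Type*} [AddCommGroup W] [Module (ZMod 2) W] {ι : Type*} [Fintype ι]

theorem z2 (a : ZMod 2) : a = 0 ∨ a = 1 := by revert a; decide

theorem ne_one {a : ZMod 2} (h : a ≠ 1) : a = 0 := (z2 a).resolve_right h

theorem ne_zero {a : ZMod 2} (h : a ≠ 0) : a = 1 := (z2 a).resolve_left h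

theorem add_self (v : W) : v + v = 0 := ZModModule.add_self v

theorem eq_of_add {v w : W} (h : v + w = 0) : v = w := by
  have h1 := congrArg (· + w) h
  simpa [add_assoc, add_self] using h1

/-- The situation. -/
structure SitN (Om : Set W) (f : W →ₗ[ZMod 2] W →ₗ[ZMod 2] ZMod 2) (z : ι → W) : Prop where
  comm : ∀ x y, f x y = f y x
  alt : ∀ x, f x x = 0
  refl : ∀ p ∈ Om, ∀ q ∈ Om, f p q = 1 → q + p ∈ Om
  mem : ∀ i, z i ∈ Om
  ind : LinearIndependent (ZMod 2) z
  ort : ∀ i j, f (z i) (z j) = 0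
  line : ∀ p ∈ Om, p ∈ Submodule.span (ZMod 2) (Set.range z) → ∃ i, p = z i
  rad0 : ∀ p ∈ Om, f (∑ i, z i) p = 0
  nrc : ∀ p ∈ Om, ∀ q ∈ Om, (∀ x ∈ Om, f p x = f q x) → p = q
  near : ∀ p ∈ Om, ∀ q ∈ Om, ∃ v ∈ Om, f p v = 1 ∧ f v q = 1
  all : ∀ i j, i ≠ j → ∃ p ∈ Om, f p (z i) = 1 ∧ f p (z j) = 1
  four : 4 ≤ Fintype.card ι

namespace SitN

variable {Om : Set W} {f : W →ₗ[ZMod 2] W →ₗ[ZMod 2] ZMod 2} {z : ι → W} (h : SitN Om f z)

include h

omit [Fintype ι] h in
theorem zspan (i : ι) : z i ∈ Submodule.span (ZMod 2) (Set.range z) := Submodule.subset_span ⟨i, rfl⟩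

/-- `z i + z j + z k` is not a `z l`, for `i`, `j`, `k` distinct. -/
theorem not_three {i j k l : ι} (hij : i ≠ j) (hik : i ≠ k) (hjk : j ≠ k) : z k + z i + z j ≠ z l := by
  classical
  intro e
  have h1 := Fintype.linearIndependent_iff.1 h.ind
    (fun t => (if t = k then 1 else 0) + (if t = i then 1 else 0) + (if t = j then 1 else 0) +
      (if t = l then 1 else 0)) (by
        simp only [add_smul, ite_smul, one_smul, zero_smul, Finset.sum_add_distrib, Finset.sum_ite_eq',
          Finset.mem_univ, if_true]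
        rw [e, add_self])
  by_cases hkl : k = l
  · have h2 := h1 i
    subst hkl
    simp [hik, hij] at h2
  · have h2 := h1 k
    simp [hik.symm, hjk.symm, hkl] at h2

/-- `z i ≠ z j`. -/
theorem z_inj {i j : ι} (e : z i = z j) : i = j := h.ind.injective e

/-- **(5)** -/
theorem type {p : W} (hp : p ∈ Om) : (∀ i, f p (z i) = 0) ∨
    ∃ i j, i ≠ j ∧ f p (z i) = 1 ∧ f p (z j) = 1 ∧ ∀ k, k ≠ i → k ≠ j → f p (z k) = 0 := by
  classical
  by_cases h0 : ∀ i, f p (z i) = 0
  · exact Or.inl h0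
  right
  push Not at h0
  obtain ⟨i, hi⟩ := h0
  have hi1 := ne_zero hi
  have hex : ∃ j, i ≠ j ∧ f p (z j) = 1 := by
    by_contra hcon
    push Not at hcon
    have h2 : ∑ j, f p (z j) = 0 := by
      rw [← map_sum, h.comm, h.rad0 p hp]
    have h3 : ∑ j, f p (z j) = 1 := by
      rw [Finset.sum_eq_single i, hi1]
      · intro j _ hj
        exact ne_one (hcon j hj.symm)
      · intro h4; exact absurd (Finset.mem_univ _) h4
    rw [h2] at h3
    exact zero_ne_one h3
  obtain ⟨j, hij, hj1⟩ := hex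
  refine ⟨i, j, hij, hi1, hj1, fun k hki hkj => ne_one fun hk1 => ?_⟩
  have ha : z i + p ∈ Om := h.refl p hp _ (h.mem i) hi1
  have hb : z j + p ∈ Om := h.refl p hp _ (h.mem j) hj1
  have e1 : f (z i + p) (z k) = 1 := by
    rw [map_add, LinearMap.add_apply, h.ort, hk1, zero_add]
  have h4 : z k + (z i + p) ∈ Om := h.refl _ ha _ (h.mem k) e1
  have e2 : f (z j + p) (z k + (z i + p)) = 1 := by
    simp only [map_add, LinearMap.add_apply, h.ort, h.alt, hk1, hi1]
    rw [h.comm (z j) p, hj1]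
    decide
  have h5 := h.refl _ hb _ h4 e2
  have e3 : z k + (z i + p) + (z j + p) = z k + z i + z j := by
    have h6 := add_self p
    calc z k + (z i + p) + (z j + p) = z k + z i + z j + (p + p) := by abel
      _ = _ := by rw [h6, add_zero]
  rw [e3] at h5
  obtain ⟨l, hl⟩ := h.line _ h5 (add_mem (add_mem (zspan k) (zspan i)) (zspan j))
  exact h.not_three hij (Ne.symm hki) (Ne.symm hkj) hl

/-- Three different letters of a type. -/
theorem two {p : W} (hp : p ∈ Om) {i j k : ι} (hij : i ≠ j) (hik : i ≠ k) (hjk : j ≠ k) (hi : f p (z i) = 1)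
    (hj : f p (z j) = 1) : f p (z k) = 0 := by
  rcases h.type hp with h0 | ⟨a, b, hab, h1, h2, h3⟩
  · rw [h0 i] at hi
    exact absurd hi zero_ne_one
  · by_contra hk
    have key : ∀ c, f p (z c) ≠ 0 → c = a ∨ c = b := by
      intro c hc
      by_contra hcon
      push Not at hcon
      exact hc (h3 c hcon.1 hcon.2)
    have hi' := key i (by rw [hi]; exact one_ne_zero)
    have hj' := key j (by rw [hj]; exact one_ne_zero)
    have hk' := key k hk
    rcases hi' with rfl | rfl <;> rcases hj' with rfl | rfl <;> rcases hk' with rfl | rfl <;> simp_all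

/-- A letter of a type comes with a second one. -/
theorem other {p : W} (hp : p ∈ Om) {i : ι} (hi : f p (z i) = 1) : ∃ j, i ≠ j ∧ f p (z j) = 1 := by
  rcases h.type hp with h0 | ⟨a, b, hab, h1, h2, h3⟩
  · rw [h0 i] at hi
    exact absurd hi zero_ne_one
  · by_cases e : i = a
    · subst e
      exact ⟨b, hab, h2⟩
    · exact ⟨a, e, h1⟩

/-- **(6)** -/
theorem disj {p q : W} (hp : p ∈ Om) (hq : q ∈ Om) {i j k l : ι} (hij : i ≠ j) (hkl : k ≠ l)
    (hi : f p (z i) = 1) (hj : f p (z j) = 1) (hk : f q (z k) = 1) (hl : f q (z l) = 1)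
    (hik : i ≠ k) (hil : i ≠ l) (hjk : j ≠ k) (hjl : j ≠ l) : f p q = 0 := by
  refine ne_one fun e => ?_
  have h1 : q + p ∈ Om := h.refl p hp q hq e
  have e1 : f (q + p) (z i) = 1 := by
    rw [map_add, LinearMap.add_apply, hi, h.two hq hkl hik.symm hil.symm hk hl, zero_add]
  have e2 : f (q + p) (z j) = 1 := by
    rw [map_add, LinearMap.add_apply, hj, h.two hq hkl hjk.symm hjl.symm hk hl, zero_add]
  have e3 : f (q + p) (z k) = 1 := by
    rw [map_add, LinearMap.add_apply, hk, h.two hp hij hik hjk hi hj, add_zero]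
  have e4 := h.two h1 hij hik hjk e1 e2
  rw [e3] at e4
  exact one_ne_zero e4

/-- **(7)** -/
theorem conn {p : W} (hp : p ∈ Om) (i : ι) : ∃ v ∈ Om, f p v = 1 ∧ f v (z i) = 1 :=
  h.near p hp _ (h.mem i)

/-- The points with a nonempty type span the span of the points. -/
theorem span_types : Submodule.span (ZMod 2) {p | p ∈ Om ∧ ∃ i, f p (z i) = 1} = Submodule.span (ZMod 2) Om := by
  refine le_antisymm (Submodule.span_mono fun p hp => hp.1) ?_
  refine Submodule.span_le.2 fun p hp => ?_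
  by_cases h0 : ∃ i, f p (z i) = 1
  · exact Submodule.subset_span ⟨hp, h0⟩
  push Not at h0
  have i0 : ι := (Fintype.card_pos_iff.1 (by have := h.four; omega)).some
  obtain ⟨v, hv, h1, h2⟩ := h.conn hp i0
  have h3 : v + p ∈ Om := h.refl p hp v hv h1
  have h4 : f (v + p) (z i0) = 1 := by
    rw [map_add, LinearMap.add_apply, h2, ne_one (h0 i0), add_zero]
  have h5 : v + (v + p) ∈ Submodule.span (ZMod 2) {p | p ∈ Om ∧ ∃ i, f p (z i) = 1} :=
    add_mem (Submodule.subset_span ⟨hv, i0, h2⟩) (Submodule.subset_span ⟨h3, i0, h4⟩)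
  rwa [← add_assoc, add_self, zero_add] at h5

/-- `p + z i ∈ Om` for `i ∈ J(p)`. -/
theorem add_z {p : W} (hp : p ∈ Om) {i : ι} (hi : f p (z i) = 1) : p + z i ∈ Om :=
  h.refl _ (h.mem i) p hp (by rw [h.comm, hi])

/-- `p + z i + z j ∈ Om` for `i, j ∈ J(p)`. -/
theorem add_zz {p : W} (hp : p ∈ Om) {i j : ι} (hi : f p (z i) = 1) (hj : f p (z j) = 1) :
    p + z i + z j ∈ Om :=
  h.add_z (h.add_z hp hi) (by rw [map_add, LinearMap.add_apply, hj, h.ort, add_zero])

/-- A point `q` with empty type adjacent to a point of type `{i, j}`: `q + z i + z j` is a point. -/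
theorem add_r {q p : W} (hq : q ∈ Om) (h0 : ∀ k, f q (z k) = 0) (hp : p ∈ Om) {i j : ι}
    (hi : f p (z i) = 1) (hj : f p (z j) = 1) (hqp : f q p = 1) : q + z i + z j ∈ Om := by
  have h1 := h.add_zz hp hi hj
  have e1 : f q (p + z i + z j) = 1 := by
    rw [map_add, map_add, hqp, h0, h0, add_zero, add_zero]
  have h2 : p + z i + z j + q ∈ Om := h.refl q hq _ h1 e1
  have e2 : f (p + z i + z j + q) p = 1 := by
    simp only [map_add, LinearMap.add_apply, h.alt, hqp]
    rw [h.comm (z i), h.comm (z j), hi, hj]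
    decide
  have h3 := h.refl _ h2 p hp e2
  have e3 : p + (p + z i + z j + q) = q + z i + z j := by
    have h6 := add_self p
    calc p + (p + z i + z j + q) = q + z i + z j + (p + p) := by abel
      _ = _ := by rw [h6, add_zero]
  rwa [e3] at h3

/-- Types of points adjacent to a point with empty type meet. -/
theorem meet {q p p' : W} (hq : q ∈ Om) (h0 : ∀ k, f q (z k) = 0) (hp : p ∈ Om) (hp' : p' ∈ Om)
    {i j k l : ι} (hij : i ≠ j) (hkl : k ≠ l)
    (hi : f p (z i) = 1) (hj : f p (z j) = 1) (hk : f p' (z k) = 1) (hl : f p' (z l) = 1)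
    (hik : i ≠ k) (hil : i ≠ l) (hjk : j ≠ k) (hjl : j ≠ l) (h1 : f q p = 1) (h2 : f q p' = 1) : False := by
  have h3 : p + q ∈ Om := h.refl q hq p hp h1
  have e1 := h.disj hp hp' hij hkl hi hj hk hl hik hil hjk hjl
  have e2 := h.disj h3 hp' hij hkl (by rw [map_add, LinearMap.add_apply, hi, h0, add_zero])
    (by rw [map_add, LinearMap.add_apply, hj, h0, add_zero]) hk hl hik hil hjk hjl
  rw [map_add, LinearMap.add_apply, e1, h2, zero_add] at e2
  exact one_ne_zero e2

/-- The dichotomy: `q` with empty type is adjacent to a point of type `{a, b}`; then, for `i ≠ j` outside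
`{a, b}`, exactly one of the points `p` of type `{a, i}`, `p'` of type `{b, j}` is adjacent to `q`. -/
theorem xor {q : W} (hq : q ∈ Om) (h0 : ∀ k, f q (z k) = 0) {a b : ι} (hab : a ≠ b)
    (hr : q + z a + z b ∈ Om) {i j : ι} (hij : i ≠ j) (hia : i ≠ a) (hib : i ≠ b) (hja : j ≠ a) (hjb : j ≠ b)
    {p p' : W} (hp : p ∈ Om) (hp' : p' ∈ Om) (h1 : f p (z a) = 1) (h2 : f p (z i) = 1)
    (h3 : f p' (z b) = 1) (h4 : f p' (z j) = 1) : f q p + f q p' = 1 := by
  have h0' : ∀ k, f (q + z a + z b) (z k) = 0 := by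
    intro k
    simp only [map_add, LinearMap.add_apply, h0, h.ort, add_zero]
  have e1 : f (q + z a + z b) p = f q p + 1 := by
    simp only [map_add, LinearMap.add_apply]
    rw [h.comm (z a), h.comm (z b), h1, h.two hp hia.symm hab hib h1 h2, add_zero]
  have e2 : f (q + z a + z b) p' = f q p' + 1 := by
    simp only [map_add, LinearMap.add_apply]
    rw [h.comm (z a), h.comm (z b), h3, h.two hp' hjb.symm hab.symm hja h3 h4, add_zero]
  rcases z2 (f q p) with c | c <;> rcases z2 (f q p') with d | d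
  · exfalso
    rw [c, zero_add] at e1
    rw [d, zero_add] at e2
    exact h.meet hr h0' hp hp' hia.symm hjb.symm h1 h2 h3 h4 hab hja.symm hib hij e1 e2
  · rw [c, d, zero_add]
  · rw [c, d, add_zero]
  · exact (h.meet hq h0 hp hp' hia.symm hjb.symm h1 h2 h3 h4 hab hja.symm hib hij c d).elim

/-- A letter outside a small set. -/
theorem fresh (a b c : ι) : ∃ j : ι, j ≠ a ∧ j ≠ b ∧ j ≠ c := by
  classical
  have h1 : ∃ j, j ∉ ({a, b, c} : Finset ι) := by
    by_contra hcon
    push Not at hcon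
    have h8 : (Finset.univ : Finset ι) ⊆ {a, b, c} := fun l _ => hcon l
    have h9 := Finset.card_le_card h8
    have h10 : ({a, b, c} : Finset ι).card ≤ 3 := Finset.card_le_three
    rw [Finset.card_univ] at h9
    have := h.four
    omega
  obtain ⟨j, hj⟩ := h1
  simp only [Finset.mem_insert, Finset.mem_singleton, not_or] at hj
  exact ⟨j, hj.1, hj.2.1, hj.2.2⟩

/-- (helper52, bb #21685) **No triangle**: `q` with empty type is not adjacent to points of the types `{a, b}`,
`{a, c}`, `{b, c}`. -/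
theorem tri {q : W} (hq : q ∈ Om) (h0 : ∀ k, f q (z k) = 0) {a b c : ι} (hab : a ≠ b) (hca : c ≠ a) (hcb : c ≠ b)
    {v : W} (hv : v ∈ Om) (hva : f v (z a) = 1) (hvb : f v (z b) = 1) (hqv : f q v = 1)
    {p p' : W} (hp : p ∈ Om) (hp' : p' ∈ Om) (h1 : f p (z a) = 1) (h2 : f p (z c) = 1)
    (h3 : f p' (z b) = 1) (h4 : f p' (z c) = 1) (h5 : f q p = 1) (h6 : f q p' = 1) : False := by
  obtain ⟨d, hda, hdb, hdc⟩ := h.fresh a b c
  have hr := h.add_r hq h0 hp h1 h2 h5
  obtain ⟨w, hw, hw1, hw2⟩ := h.all c d hdc.symm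
  have e1 := h.xor hq h0 hca.symm hr hdb.symm hab.symm hcb.symm hda hdc hv hw hva hvb hw1 hw2
  have pb := h.two hp hca.symm hab hcb h1 h2
  have p'a := h.two hp' hcb.symm hab.symm hca h3 h4
  -- a point `x = p + p'` or `p + p' + z c` of type `{a, b}` not adjacent to `q`
  have key : ∃ x ∈ Om, f x (z a) = 1 ∧ f x (z b) = 1 ∧ f q x = 0 := by
    rcases z2 (f p p') with c1 | c1
    · have g1 : p' + z c ∈ Om := h.add_z hp' h4
      refine ⟨p' + z c + p, h.refl p hp _ g1 (by rw [map_add, c1, h2, zero_add]), ?_, ?_, ?_⟩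
      · simp only [map_add, LinearMap.add_apply, h.ort, h1, p'a, add_zero, zero_add]
      · simp only [map_add, LinearMap.add_apply, h.ort, pb, h3, add_zero]
      · simp only [map_add, h0, h5, h6, add_zero]
        decide
    · refine ⟨p' + p, h.refl p hp _ hp' c1, ?_, ?_, ?_⟩
      · rw [map_add, LinearMap.add_apply, h1, p'a, zero_add]
      · rw [map_add, LinearMap.add_apply, pb, h3, add_zero]
      · rw [map_add, h5, h6]
        decide
  obtain ⟨x, hx, hx1, hx2, hx3⟩ := key
  have e2 := h.xor hq h0 hca.symm hr hdb.symm hab.symm hcb.symm hda hdc hx hw hx1 hx2 hw1 hw2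
  rw [hqv] at e1
  rw [hx3, zero_add] at e2
  rw [e2] at e1
  exact absurd e1 (by decide)

/-- `q`, adjacent to a point `v` of type `{a, b}`, is adjacent to every point of type `{b, j}`, `j ≠ a`, as soon as
it is adjacent to one of them. -/
theorem const {q : W} (hq : q ∈ Om) (h0 : ∀ k, f q (z k) = 0) {a b : ι} (hab : a ≠ b)
    {v : W} (hv : v ∈ Om) (hva : f v (z a) = 1) (hvb : f v (z b) = 1) (hqv : f q v = 1)
    {i j : ι} (hia : i ≠ a) (hib : i ≠ b) (hja : j ≠ a) (hjb : j ≠ b)
    {p p' : W} (hp : p ∈ Om) (hp' : p' ∈ Om) (h1 : f p (z b) = 1) (h2 : f p (z i) = 1)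
    (h3 : f p' (z b) = 1) (h4 : f p' (z j) = 1) (h5 : f q p = 1) : f q p' = 1 := by
  have hr := h.add_r hq h0 hv hva hvb hqv
  by_cases hij : i = j
  · subst hij
    obtain ⟨k, hka, hkb, hki⟩ := h.fresh a b i
    obtain ⟨u, hu, hu1, hu2⟩ := h.all a k hka.symm
    have e1 := h.xor hq h0 hab hr hki hka hkb hia hib hu hp hu1 hu2 h1 h2
    have e2 := h.xor hq h0 hab hr hki hka hkb hja hjb hu hp' hu1 hu2 h3 h4
    rw [h5] at e1
    have e3 : f q u = 0 := by
      rcases z2 (f q u) with c | c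
      · exact c
      · rw [c] at e1
        exact absurd e1 (by decide)
    rwa [e3, zero_add] at e2
  · obtain ⟨u, hu, hu1, hu2⟩ := h.all a i hia.symm
    have e2 := h.xor hq h0 hab hr hij hia hib hja hjb hu hp' hu1 hu2 h3 h4
    rcases z2 (f q u) with c | c
    · rwa [c, zero_add] at e2
    · exact (h.tri hq h0 hab hia hib hv hva hvb hqv hu hp hu1 hu2 h1 h2 c h5).elim

/-- **(8)** A point with empty type is a `z i`. -/
theorem eq_z {q : W} (hq : q ∈ Om) (h0 : ∀ k, f q (z k) = 0) : ∃ i, q = z i := by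
  -- a letter `b` and a type `{b, c}` adjacent to `q`, with another one
  have i0 : ι := (Fintype.card_pos_iff.1 (by have := h.four; omega)).some
  obtain ⟨v, hv, hqv, hv0⟩ := h.conn hq i0
  obtain ⟨j0, hij0, hvj⟩ := h.other hv hv0
  have hr := h.add_r hq h0 hv hv0 hvj hqv
  -- there are `a ≠ b` with `{a, b} = {i0, j0}` such that `q` is adjacent to the points of type `{b, j}`, `j ≠ a`
  have key : ∃ a b, a ≠ b ∧ q + z a + z b ∈ Om ∧
      ∀ j, j ≠ a → j ≠ b → ∀ p ∈ Om, f p (z b) = 1 → f p (z j) = 1 → f q p = 1 := by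
    obtain ⟨k, hki, hkj, -⟩ := h.fresh i0 j0 j0
    obtain ⟨l, hli, hlj, hlk⟩ := h.fresh i0 j0 k
    obtain ⟨u, hu, hu1, hu2⟩ := h.all i0 k hki.symm
    obtain ⟨w, hw, hw1, hw2⟩ := h.all j0 l hlj.symm
    have e1 := h.xor hq h0 hij0 hr hlk.symm hki hkj hli hlj hu hw hu1 hu2 hw1 hw2
    rcases z2 (f q u) with c | c
    · rw [c, zero_add] at e1
      exact ⟨i0, j0, hij0, hr, fun j hji hjj p hp h1 h2 =>
        h.const hq h0 hij0 hv hv0 hvj hqv hli hlj hji hjj hw hp hw1 hw2 h1 h2 e1⟩
    · have hr' : q + z j0 + z i0 ∈ Om := by rwa [add_right_comm]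
      exact ⟨j0, i0, hij0.symm, hr', fun j hji hjj p hp h1 h2 =>
        h.const hq h0 hij0.symm hv hvj hv0 hqv hkj hki hji hjj hu hp hu1 hu2 h1 h2 c⟩
  obtain ⟨a, b, hab, hr1, hb⟩ := key
  -- also for `j = a`
  have hb' : ∀ j, j ≠ b → ∀ p ∈ Om, f p (z b) = 1 → f p (z j) = 1 → f q p = 1 := by
    intro j hjb p hp h1 h2
    by_cases hja : j = a
    · subst hja
      obtain ⟨c, hca, hcb, -⟩ := h.fresh j b b
      obtain ⟨d, hda, hdb, hdc⟩ := h.fresh j b c
      obtain ⟨u, hu, hu1, hu2⟩ := h.all b c hcb.symm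
      have e1 : f q u = 1 := hb c hca hcb u hu hu1 hu2
      obtain ⟨w, hw, hw1, hw2⟩ := h.all b d hdb.symm
      have e2 : f q w = 1 := hb d hda hdb w hw hw1 hw2
      exact h.const hq h0 hcb hu hu2 hu1 e1 hdc hdb hca.symm hab hw hp hw1 hw2 h1 h2 e2
    · exact hb j hja hjb p hp h1 h2
  -- a type adjacent to `q` contains `b`
  have hn : ∀ p ∈ Om, f p (z b) = 0 → (∃ k, f p (z k) = 1) → f q p = 0 := by
    rintro p hp h1 ⟨k, hk⟩
    obtain ⟨l, hkl, hl⟩ := h.other hp hk
    have hkb : k ≠ b := by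
      rintro rfl
      rw [h1] at hk
      exact zero_ne_one hk
    have hlb : l ≠ b := by
      rintro rfl
      rw [h1] at hl
      exact zero_ne_one hl
    refine ne_one fun h2 => ?_
    obtain ⟨j, hjb, hjk, hjl⟩ := h.fresh b k l
    obtain ⟨u, hu, hu1, hu2⟩ := h.all b j hjb.symm
    exact h.meet hq h0 hu hp hjb.symm hkl hu1 hu2 hk hl hkb.symm hlb.symm hjk hjl
      (hb' j hjb u hu hu1 hu2) h2
  -- `f q = f (z b)`
  have hf : ∀ x ∈ Om, f (q + z b) x = 0 := by
    intro x hx
    replace hx : x ∈ Submodule.span (ZMod 2) {p | p ∈ Om ∧ ∃ i, f p (z i) = 1} := by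
      rw [h.span_types]; exact Submodule.subset_span hx
    induction hx using Submodule.span_induction with
    | mem p hp =>
      obtain ⟨hp, hk⟩ := hp
      rw [map_add, LinearMap.add_apply, h.comm (z b)]
      rcases z2 (f p (z b)) with c | c
      · rw [c, hn p hp c hk, add_zero]
      · obtain ⟨j, hbj, hj⟩ := h.other hp c
        rw [c, hb' j hbj.symm p hp c hj]
        decide
    | zero => exact map_zero _
    | add x y _ _ hx hy => rw [map_add, hx, hy, add_zero]
    | smul a x _ hx => rw [map_smul, hx, smul_zero]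
  refine ⟨b, h.nrc q hq _ (h.mem b) fun x hx => ?_⟩
  have h1 := hf x hx
  rw [map_add, LinearMap.add_apply] at h1
  rcases z2 (f q x) with c | c <;> rcases z2 (f (z b) x) with d | d
  · rw [c, d]
  · rw [c, d, zero_add] at h1
    exact absurd h1 one_ne_zero
  · rw [c, d, add_zero] at h1
    exact absurd h1 one_ne_zero
  · rw [c, d]

/-- **(9)** Points of the same type `{i, j}`. -/
theorem add_mem' {p p' : W} (hp : p ∈ Om) (hp' : p' ∈ Om) {i j : ι} (hij : i ≠ j)
    (hi : f p (z i) = 1) (hj : f p (z j) = 1) (hi' : f p' (z i) = 1) (hj' : f p' (z j) = 1) :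
    p + p' ∈ Submodule.span (ZMod 2) {z i, z j} := by
  have hzi : z i ∈ Submodule.span (ZMod 2) {z i, z j} := Submodule.subset_span (by simp)
  have hzj : z j ∈ Submodule.span (ZMod 2) {z i, z j} := Submodule.subset_span (by simp)
  have hcase : ∀ k, f p (z k) = 1 → z k ∈ Submodule.span (ZMod 2) {z i, z j} := by
    intro k hk
    by_cases h1 : k = i
    · rwa [h1]
    by_cases h2 : k = j
    · rwa [h2]
    · have := h.two hp hij (Ne.symm h1) (Ne.symm h2) hi hj
      rw [this] at hk
      exact absurd hk zero_ne_one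
  have hty : ∀ k, f p (z k) = f p' (z k) := by
    intro k
    by_cases h1 : k = i
    · rw [h1, hi, hi']
    by_cases h2 : k = j
    · rw [h2, hj, hj']
    · rw [h.two hp hij (Ne.symm h1) (Ne.symm h2) hi hj, h.two hp' hij (Ne.symm h1) (Ne.symm h2) hi' hj']
  rcases z2 (f p p') with c | c
  · have h1 : p + z i ∈ Om := h.add_z hp hi
    have e1 : f p' (p + z i) = 1 := by
      rw [map_add, h.comm, c, hi', zero_add]
    have h2 : p + z i + p' ∈ Om := h.refl p' hp' _ h1 e1
    obtain ⟨k, hk⟩ := h.eq_z h2 (fun k => by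
      simp only [map_add, LinearMap.add_apply, h.ort, hty k, add_zero]
      exact CharTwo.add_self_eq_zero _)
    have e2 : f p (z k) = 1 := by
      rw [← hk, map_add, map_add, h.alt, hi, c, zero_add, add_zero]
    have e3 : p + p' = z i + z k := by
      rw [← hk]
      have h6 := add_self (z i)
      calc p + p' = p + p' + (z i + z i) := by rw [h6, add_zero]
        _ = _ := by abel
    rw [e3]
    exact add_mem hzi (hcase k e2)
  · have h1 : p' + p ∈ Om := h.refl p hp _ hp' c
    obtain ⟨k, hk⟩ := h.eq_z h1 (fun k => by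
      simp only [map_add, LinearMap.add_apply, hty k]
      exact CharTwo.add_self_eq_zero _)
    have e2 : f p (z k) = 1 := by
      rw [← hk, map_add, h.alt, c, add_zero]
    rw [add_comm, hk]
    exact hcase k e2

end SitN

end Cfsg.Agent.Omega.NO3S.SN.HT.TypesN
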