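import Cfsg.Agent.Omega.NO3S.SN.HT.Rad
import Cfsg.Agent.Omega.NO3S.SN.HT.TypesN

/-!
# THEOREM HT'' (helper581, bb #21563): (NRC), the Near class of the `a i`

`Pre`, `Fm` as in `Form.lean`; `card ι` is even; no LEMMA Q.

* `Fm.nrc` **(NRC)** : `p, q ∈ Om`, `f p = f q` imply `p = q`;
* `XOne` : the Near class of the `a i`; `Fm.orth_class` : other points are orthogonal to it;
* `Fm.sitN` : `TypesN.SitN` for it.
-/

set_option autoImplicit false
set_option linter.unusedSectionVars false

namespace Cfsg.Agent.Omega.NO3S.SN.HT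

open Module Cfsg.Agent.Omega.TV

variable {H : Type*} [Group H] {W : Type*} [AddCommGroup W] [Module (ZMod 2) W]
  {ι : Type*} [Fintype ι] {ρ : H →* (W ≃ₗ[ZMod 2] W)} {z : W} {Om : Set W} {a : ι → W}
  {c : ZMod 2} {f : W →ₗ[ZMod 2] W →ₗ[ZMod 2] ZMod 2}

/-- The fields of `TypesN.SitN` except `four`. -/
structure SitNCore (Om : Set W) (f : W →ₗ[ZMod 2] W →ₗ[ZMod 2] ZMod 2) (z : ι → W) : Prop where
  comm : ∀ x y, f x y = f y x
  alt : ∀ x, f x x = 0
  refl : ∀ p ∈ Om, ∀ q ∈ Om, f p q = 1 → q + p ∈ Om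
  mem : ∀ i, z i ∈ Om
  ind : LinearIndependent (ZMod 2) z
  ort : ∀ i j, f (z i) (z j) = 0
  line : ∀ p ∈ Om, p ∈ Submodule.span (ZMod 2) (Set.range z) → ∃ i, p = z i
  rad0 : ∀ p ∈ Om, f (∑ i, z i) p = 0
  nrc : ∀ p ∈ Om, ∀ q ∈ Om, (∀ x ∈ Om, f p x = f q x) → p = q
  near : ∀ p ∈ Om, ∀ q ∈ Om, ∃ v ∈ Om, f p v = 1 ∧ f v q = 1
  all : ∀ i j, i ≠ j → ∃ p ∈ Om, f p (z i) = 1 ∧ f p (z j) = 1

/-- The Near class of the `a i`. -/
def XOne (Om : Set W) (a : ι → W) (f : W →ₗ[ZMod 2] W →ₗ[ZMod 2] ZMod 2) : Set W :=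
  {p | p ∈ Om ∧ ∀ i, ∃ v ∈ Om, f (a i) v = 1 ∧ f v p = 1}

namespace Fm

variable (h : Pre ρ Om z a) (F : Fm ρ Om z a c f)

include h F

/-- **(NRC)** -/
theorem nrc {p q : W} (hp : p ∈ Om) (hq : q ∈ Om) (e : ∀ x, f p x = f q x) : p = q := by
  obtain ⟨g, hg⟩ := F.tr p hp
  obtain ⟨k, hk⟩ := F.tr q hq
  have hpq : f p q = 0 := by rw [e, F.alt]
  have h1 : ∀ w, ρ (g * k) w = w + f p w • (p + q) := by
    intro w
    rw [rmul, hk, hg]
    simp only [map_add, map_smul, F.zr, hpq, smul_zero, add_zero, ← e w]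
    rw [smul_add, smul_add, smul_add]
    calc w + (f p w • q + f p w • c • z) + (f p w • p + f p w • c • z)
        = w + (f p w • p + f p w • q) + (f p w • c • z + f p w • c • z) := by abel
      _ = _ := by rw [v_add_self, add_zero]
  have h2 : ∀ w, ρ (g * k) w = w := by
    refine h.chain3 (U := LinearMap.ker f) ?_ ?_ ?_
    · intro g' u hu
      refine LinearMap.mem_ker.2 (LinearMap.ext fun x => ?_)
      rw [F.inv', LinearMap.mem_ker.1 hu]
      rfl
    · intro u hu
      left
      rw [h1, F.comm, LinearMap.mem_ker.1 hu, LinearMap.zero_apply, zero_smul, add_zero]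
    · intro v
      rw [h1]
      have e1 : v + f p v • (p + q) + v = f p v • (p + q) := by
        calc v + f p v • (p + q) + v = f p v • (p + q) + (v + v) := by abel
          _ = _ := by rw [v_add_self, add_zero]
      rw [e1]
      refine Submodule.smul_mem _ _ (LinearMap.mem_ker.2 (LinearMap.ext fun x => ?_))
      rw [map_add, LinearMap.add_apply, e, z2_add_self]
      rfl
  obtain ⟨x, -, hx⟩ := F.ne p hp
  have h3 := h1 x
  rw [h2, hx, one_smul] at h3
  have h4 : p + q = 0 := (left_eq_add.1 h3)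
  calc p = p + (q + q) := by rw [v_add_self, add_zero]
    _ = (p + q) + q := by abel
    _ = q := by rw [h4, zero_add]

/-- a point adjacent to a point of the class is in the class -/
theorem adj_class {p q : W} (hp : p ∈ XOne Om a f) (hq : q ∈ Om) (e : f p q = 1) : q ∈ XOne Om a f :=
  ⟨hq, fun i => F.nt (a i) (h.mem i) p hp.1 q hq (hp.2 i) (F.near_of_adj h hp.1 hq e)⟩

theorem orth_class {p q : W} (hp : p ∈ XOne Om a f) (hq : q ∈ Om) (hn : q ∉ XOne Om a f) : f p q = 0 :=
  z2_ne_one fun e => hn (F.adj_class h hp hq e)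

omit F in
theorem a_mem_class (F : Fm ρ Om z a c f) (i : ι) : a i ∈ XOne Om a f := ⟨h.mem i, fun j => F.near j i⟩

theorem nrc_class {p q : W} (hp : p ∈ XOne Om a f) (hq : q ∈ XOne Om a f)
    (e : ∀ x ∈ XOne Om a f, f p x = f q x) : p = q := by
  refine F.nrc h hp.1 hq.1 fun x => ?_
  have hx : x ∈ Submodule.span (ZMod 2) Om := by rw [h.span]; trivial
  induction hx using Submodule.span_induction with
  | mem x hx =>
    by_cases hX : x ∈ XOne Om a f
    · exact e x hX
    · rw [F.orth_class h hp hx hX, F.orth_class h hq hx hX]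
  | zero => rw [map_zero, map_zero]
  | add x y _ _ hx hy => rw [map_add, map_add, hx, hy]
  | smul b x _ hx => rw [map_smul, map_smul, hx]

/-- an element which maps some `a i` into the class normalises the class -/
theorem inv_class {g : H} {i : ι} (hg : ρ g (a i) ∈ XOne Om a f) {p : W} (hp : p ∈ XOne Om a f) :
    ρ g p ∈ XOne Om a f := by
  refine ⟨h.inv g p hp.1, fun j => ?_⟩
  obtain ⟨v, hv, e1, e2⟩ := hp.2 i
  refine F.nt (a j) (h.mem j) (ρ g (a i)) hg.1 (ρ g p) (h.inv g p hp.1) (hg.2 j) ⟨ρ g v, h.inv g v hv, ?_, ?_⟩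
  · rw [F.inv, e1]
  · rw [F.inv, e2]

/-- **the situation of `TypesN.lean`**, `4 ≤ card ι` -/
theorem coreN (hev : Even (Fintype.card ι)) :
    SitNCore ((fun p => p + c • z) '' XOne Om a f) f (fun i => a i + c • z) where
  comm := F.comm
  alt := F.alt
  refl := by
    rintro _ ⟨p, hp, rfl⟩ _ ⟨q, hq, rfl⟩ e
    simp only [map_add, map_smul, LinearMap.add_apply, LinearMap.smul_apply, F.zr, F.zl, smul_zero,
      add_zero] at e
    refine ⟨q + (p + c • z), F.adj_class h hp (F.add_mem h hp.1 hq.1 e) ?_, ?_⟩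
    · rw [map_add, map_add, map_smul, F.zr, e, F.alt, smul_zero, add_zero, add_zero]
    · change q + (p + c • z) + c • z = q + c • z + (p + c • z)
      abel
  mem := fun i => ⟨a i, a_mem_class h F i, rfl⟩
  ind := by
    classical
    rw [Fintype.linearIndependent_iff]
    intro x hx
    have h1 : ∑ i, (x i + c * ∑ j, x j) • a i = 0 := by
      have e1 : ∑ i, (x i + c * ∑ j, x j) • a i = ∑ i, x i • (a i + c • z) := by
        simp only [add_smul, smul_add, Finset.sum_add_distrib]
        congr 1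
        rw [← Finset.smul_sum, h.sum, ← Finset.sum_smul, smul_smul, mul_comm]
      rw [e1, hx]
    have h2 := Fintype.linearIndependent_iff.1 h.ind _ h1
    have h3 : ∑ j, x j = 0 := by
      have e1 : ∑ i, (x i + c * ∑ j, x j) = 0 := Finset.sum_eq_zero fun i _ => h2 i
      rw [Finset.sum_add_distrib, Finset.sum_const, Finset.card_univ] at e1
      obtain ⟨n, hn⟩ := hev
      rw [hn, add_smul, z2_add_self, add_zero] at e1
      exact e1
    intro i
    have h4 := h2 i
    rwa [h3, mul_zero, add_zero] at h4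
  ort := by
    intro i j
    simp only [map_add, map_smul, LinearMap.add_apply, LinearMap.smul_apply, F.zr, F.zl, smul_zero,
      add_zero, F.orth]
  line := by
    rintro _ ⟨p, hp, rfl⟩ h1
    have hz : z ∈ Submodule.span (ZMod 2) (Set.range a) := by
      rw [← h.sum]
      exact Submodule.sum_mem _ fun k _ => Submodule.subset_span (Set.mem_range_self k)
    have h2 : Submodule.span (ZMod 2) (Set.range fun i => a i + c • z) ≤
        Submodule.span (ZMod 2) (Set.range a) := by
      rw [Submodule.span_le]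
      rintro _ ⟨i, rfl⟩
      exact Submodule.add_mem _ (Submodule.subset_span (Set.mem_range_self i)) (Submodule.smul_mem _ _ hz)
    have h3 : p + c • z + c • z ∈ Submodule.span (ZMod 2) (Set.range a) :=
      Submodule.add_mem _ (h2 h1) (Submodule.smul_mem _ _ hz)
    rw [add_assoc, v_add_self, add_zero] at h3
    obtain ⟨i, rfl⟩ := h.line p hp.1 h3
    exact ⟨i, rfl⟩
  rad0 := by
    intro w _
    rw [card_smul h hev, F.zl]
  nrc := by
    rintro _ ⟨p, hp, rfl⟩ _ ⟨q, hq, rfl⟩ e
    have h1 : p = q := by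
      refine F.nrc_class h hp hq fun x hx => ?_
      have h2 := e _ ⟨x, hx, rfl⟩
      simp only [map_add, map_smul, LinearMap.add_apply, LinearMap.smul_apply, F.zr, F.zl, smul_zero,
        add_zero] at h2
      exact h2
    rw [h1]
  near := by
    rintro _ ⟨p, hp, rfl⟩ _ ⟨q, hq, rfl⟩
    have h1 : 0 < Fintype.card ι := by have := h.card; omega
    obtain ⟨i⟩ := Fintype.card_pos_iff.1 h1
    obtain ⟨v, hv, e1, e2⟩ := hp.2 i
    obtain ⟨u, hu, e3, e4⟩ := F.nt p hp.1 (a i) (h.mem i) q hq.1 ⟨v, hv, by rw [F.comm, e2], by rw [F.comm, e1]⟩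
      (hq.2 i)
    refine ⟨_, ⟨u, F.adj_class h hp hu e3, rfl⟩, ?_, ?_⟩
    · simp only [map_add, map_smul, LinearMap.add_apply, LinearMap.smul_apply, F.zr, F.zl, smul_zero,
        add_zero, e3]
    · simp only [map_add, map_smul, LinearMap.add_apply, LinearMap.smul_apply, F.zr, F.zl, smul_zero,
        add_zero, e4]
  all := by
    classical
    intro k l hkl
    have h1 : 0 < Fintype.card ι := by have := h.card; omega
    obtain ⟨i⟩ := Fintype.card_pos_iff.1 h1
    obtain ⟨v, hv, e1⟩ := F.ne (a i) (h.mem i)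
    obtain ⟨j, hji, e2⟩ : ∃ j, j ≠ i ∧ f v (a j) = 1 := by
      by_contra hcon
      push Not at hcon
      have e2 : f v (∑ k, a k) = 0 := by rw [h.sum, F.zr]
      rw [map_sum, Finset.sum_eq_single i (fun k _ hk => z2_ne_one (hcon k hk))
        (fun hi => absurd (Finset.mem_univ i) hi), F.comm, e1] at e2
      exact one_ne_zero e2
    obtain ⟨σ, hσ⟩ : ∃ σ : Equiv.Perm ι, σ i = k ∧ σ j = l := by
      refine ⟨Equiv.swap (Equiv.swap i k j) l * Equiv.swap i k, ?_, ?_⟩
      · rw [Equiv.Perm.mul_apply, Equiv.swap_apply_left, Equiv.swap_apply_of_ne_of_ne _ hkl]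
        intro e
        have e1 : Equiv.swap i k i = k := Equiv.swap_apply_left _ _
        exact hji.symm ((Equiv.swap i k).injective (e1.trans e))
      · rw [Equiv.Perm.mul_apply, Equiv.swap_apply_left]
    obtain ⟨g, hg⟩ := h.perm σ
    have e3 : f (a k) (ρ g v) = 1 := by rw [← hσ.1, ← hg, F.inv, e1]
    refine ⟨_, ⟨ρ g v, F.adj_class h (a_mem_class h F k) (h.inv g v hv) e3, rfl⟩, ?_, ?_⟩
    · simp only [map_add, map_smul, LinearMap.add_apply, LinearMap.smul_apply, F.zr, F.zl, smul_zero, add_zero]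
      rw [F.comm, e3]
    · simp only [map_add, map_smul, LinearMap.add_apply, LinearMap.smul_apply, F.zr, F.zl, smul_zero, add_zero]
      rw [← hσ.2, ← hg, F.inv, e2]

/-- **the situation of `TypesN.lean`** -/
theorem sitN (hev : Even (Fintype.card ι)) (h6 : 6 ≤ Fintype.card ι) :
    TypesN.SitN ((fun p => p + c • z) '' XOne Om a f) f (fun i => a i + c • z) where
  comm := (F.coreN h hev).comm
  alt := (F.coreN h hev).alt
  refl := (F.coreN h hev).refl
  mem := (F.coreN h hev).mem
  ind := (F.coreN h hev).ind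
  ort := (F.coreN h hev).ort
  line := (F.coreN h hev).line
  rad0 := (F.coreN h hev).rad0
  nrc := (F.coreN h hev).nrc
  near := (F.coreN h hev).near
  all := (F.coreN h hev).all
  four := by omega

end Fm

end Cfsg.Agent.Omega.NO3S.SN.HT
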