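import Cfsg.Agent.Omega.NO3S.SN.HT.EndM
import Cfsg.Agent.Omega.NO3S.SN.HT.RadN

/-!
# THEOREM HT', relative form, for all `m ≥ 2` (`n = 2^m + 1 ≥ 5`)

(helper52, bb #21685 : (8) for `N = 4`; helper237, bb #22246 (1)(v); helper617, bb #22913 : `J`-free)

* `TRes.of_lq` : (5), (7), (8) from LEMMA Q, `4 ≤ card ι` even; `EndM.main_lq`;
* `Gen ρ a X` : `H = ⟨X⟩`, every element of `X` maps some `a i` to some `a j`.  Then all points form ONE Near class
  (`Fm.class_eq`) and (5), (7), (8) hold without LEMMA Q: `TRes.of_gen`;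
* `EndM.main_gen` : **`C = ⟨N_C(V), C_G(D_ij) (i, j ≠ 0)⟩`, one `t ∈ C` with `1 ≠ [U, t] ≤ ⟨p, z⟩`, `p ∈ z_1^C`, implies
  that the 2-group `Vq ≠ 1` is normalised by `L` and `C`** (no Sylow subgroup, no LEMMA Q).
-/

set_option autoImplicit false
set_option linter.unusedSectionVars false

namespace Cfsg.Agent.Omega.NO3S.SN.HT

open Module Cfsg.Agent.Omega.TV

section pure

variable {H : Type*} [Group H] {W : Type*} [AddCommGroup W] [Module (ZMod 2) W]
  {ι : Type*} [Fintype ι] {ρ : H →* (W ≃ₗ[ZMod 2] W)} {z : W} {Om : Set W} {a : ι → W}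
  {c : ZMod 2} {f : W →ₗ[ZMod 2] W →ₗ[ZMod 2] ZMod 2}

/-- `H = ⟨X⟩`, the elements of `X` map some point of the line to a point of the line -/
structure Gen (ρ : H →* (W ≃ₗ[ZMod 2] W)) (a : ι → W) (X : Set H) : Prop where
  gen : Subgroup.closure X = ⊤
  pts : ∀ g ∈ X, ∃ i j, ρ g (a i) = a j

namespace Fm

variable (h : Pre ρ Om z a) (F : Fm ρ Om z a c f)

include h F

/-- all points form one Near class -/
theorem class_eq {X : Set H} (hX : Gen ρ a X) {p : W} (hp : p ∈ Om) : p ∈ XOne Om a f := by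
  have h1 : 0 < Fintype.card ι := by have := h.card; omega
  obtain ⟨i0⟩ := Fintype.card_pos_iff.1 h1
  have key : ∀ g : H, ∀ q ∈ XOne Om a f, ρ g q ∈ XOne Om a f := by
    intro g
    have hg : g ∈ Subgroup.closure X := by rw [hX.gen]; trivial
    induction hg using Subgroup.closure_induction'' with
    | mem x hx =>
      intro q hq
      obtain ⟨i, j, e⟩ := hX.pts x hx
      exact F.inv_class h (i := i) (by rw [e]; exact a_mem_class h F j) hq
    | inv_mem x hx =>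
      intro q hq
      obtain ⟨i, j, e⟩ := hX.pts x hx
      exact F.inv_class h (i := j) (by rw [← e, rinv]; exact a_mem_class h F i) hq
    | one =>
      intro q hq
      rwa [rone]
    | mul x y _ _ hx hy =>
      intro q hq
      rw [rmul]
      exact hx _ (hy q hq)
  obtain ⟨g, hg⟩ := h.trans _ (h.mem i0) p hp
  rw [← hg]
  exact key g _ (a_mem_class h F i0)

/-- the situation of `TypesN.lean`, `4 ≤ card ι` -/
theorem sitN4 (hev : Even (Fintype.card ι)) :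
    TypesN.SitN ((fun p => p + c • z) '' XOne Om a f) f (fun i => a i + c • z) where
  comm := (F.coreN h hev).comm
  alt := (F.coreN h hev).alt
  refl := (F.coreN h hev).refl
  mem := (F.coreN h hev).mem
  ind := (F.coreN h hev).ind
  ort := (F.coreN h hev).ort
  line := (F.coreN h hev).line
  rad0 := (F.coreN h hev).rad0
  nrc := (F.coreN h hev).nrc
  near := (F.coreN h hev).near
  all := (F.coreN h hev).all
  four := h.card

/-- the situation of `Types.lean`, `4 ≤ card ι` -/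
theorem sit4 (hev : Even (Fintype.card ι)) {T : Set H} (hT : Lq ρ z a T) :
    Types.Sit ((fun p => p + c • z) '' Om) f (fun i => a i + c • z) where
  comm := (F.core h hev hT).comm
  alt := (F.core h hev hT).alt
  span := (F.core h hev hT).span
  refl := (F.core h hev hT).refl
  mem := (F.core h hev hT).mem
  ind := (F.core h hev hT).ind
  ort := (F.core h hev hT).ort
  line := (F.core h hev hT).line
  rad0 := (F.core h hev hT).rad0
  rad := (F.core h hev hT).rad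
  near := (F.core h hev hT).near
  all := (F.core h hev hT).all
  four := h.card

end Fm

end pure

namespace GrpM

section pure

variable {H : Type*} [Group H] {W : Type*} [AddCommGroup W] [Module (ZMod 2) W]
  {ι : Type*} [Fintype ι] {ρ : H →* (W ≃ₗ[ZMod 2] W)} {z : W} {Om : Set W} {a : ι → W}
  {c : ZMod 2} {f : W →ₗ[ZMod 2] W →ₗ[ZMod 2] ZMod 2} (h : Pre ρ Om z a) (F : Fm ρ Om z a c f)

include h F

/-- (5), (7), (8) from LEMMA Q, `card ι ≥ 4` even -/
theorem TRes.of_lq (hev : Even (Fintype.card ι)) {T : Set H} (hT : Lq ρ z a T) : TRes Om z a f where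
  eq_a := by
    intro p hp h0
    obtain ⟨i, hi⟩ := (F.sit4 h hev hT).eq_z (q := p + c • z) ⟨p, hp, rfl⟩ (fun k => by
      simp only [map_add, map_smul, LinearMap.add_apply, LinearMap.smul_apply, F.zr, F.zl, smul_zero,
        add_zero, h0])
    exact ⟨i, add_right_cancel hi⟩
  type := by
    intro p hp
    have h1 := (F.sit4 h hev hT).type (p := p + c • z) ⟨p, hp, rfl⟩
    simp only [map_add, map_smul, LinearMap.add_apply, LinearMap.smul_apply, F.zr, F.zl, smul_zero,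
      add_zero] at h1
    exact h1
  span_ty := by
    intro Y hz hY
    rw [eq_top_iff, ← (F.sit4 h hev hT).span_types, Submodule.span_le]
    rintro _ ⟨⟨p, hp, rfl⟩, i, hi⟩
    simp only [map_add, map_smul, LinearMap.add_apply, LinearMap.smul_apply, F.zr, F.zl, smul_zero,
      add_zero] at hi
    exact Submodule.add_mem _ (hY p hp ⟨i, hi⟩) (Submodule.smul_mem _ _ hz)

/-- (5), (7), (8) without LEMMA Q, `card ι ≥ 4` even -/
theorem TRes.of_gen (hev : Even (Fintype.card ι)) {X : Set H} (hX : Gen ρ a X) : TRes Om z a f where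
  eq_a := by
    intro p hp h0
    obtain ⟨i, hi⟩ := (F.sitN4 h hev).eq_z (q := p + c • z) ⟨p, F.class_eq h hX hp, rfl⟩ (fun k => by
      simp only [map_add, map_smul, LinearMap.add_apply, LinearMap.smul_apply, F.zr, F.zl, smul_zero,
        add_zero, h0])
    exact ⟨i, add_right_cancel hi⟩
  type := by
    intro p hp
    have h1 := (F.sitN4 h hev).type (p := p + c • z) ⟨p, F.class_eq h hX hp, rfl⟩
    simp only [map_add, map_smul, LinearMap.add_apply, LinearMap.smul_apply, F.zr, F.zl, smul_zero,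
      add_zero] at h1
    exact h1
  span_ty := by
    intro Y hz hY
    have h2 : Submodule.span (ZMod 2) ((fun p => p + c • z) '' XOne Om a f) ≤ Y := by
      rw [← (F.sitN4 h hev).span_types, Submodule.span_le]
      rintro _ ⟨⟨p, hp, rfl⟩, i, hi⟩
      simp only [map_add, map_smul, LinearMap.add_apply, LinearMap.smul_apply, F.zr, F.zl, smul_zero,
        add_zero] at hi
      exact Submodule.add_mem _ (hY p hp.1 ⟨i, hi⟩) (Submodule.smul_mem _ _ hz)
    rw [eq_top_iff, ← h.span, Submodule.span_le]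
    intro p hp
    have h3 := h2 (Submodule.subset_span ⟨p, F.class_eq h hX hp, rfl⟩)
    have h4 := Submodule.add_mem _ h3 (Submodule.smul_mem _ c hz)
    simpa [add_assoc, v_add_self] using h4

end pure

end GrpM

end Cfsg.Agent.Omega.NO3S.SN.HT

namespace Cfsg.Agent.Omega.NO3S.SN.HT.EndM

open Subgroup Module Cfsg Cfsg.Agent.ZN Cfsg.Agent.Omega.MinPar Cfsg.Agent.Omega.Frame Cfsg.Agent.Omega.FrameNOFF
open Cfsg.Agent.Omega.S5.Def
open Cfsg.Agent.MinSimple.VModule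
open Cfsg.Agent.Omega.NO3S.SN.HT.GrpM
open Cfsg.Agent.Omega.TV (EA)
open Cfsg.Agent.Omega.NO3S.SN.HT.End (CD WW mem_CD conj_CD conj_le_WW WW_le_iff)
open scoped Pointwise

universe u

variable {G : Type u} [Group G] {m : ℕ} {V L C U : Subgroup G} {ε : (Fin (2 ^ m + 1) → ZMod 2) → G}

theorem even_card (D : GDat V L C U ε) : Even (Fintype.card (Fin (2 ^ m))) := by
  rw [Fintype.card_fin]
  have := D.m2
  exact Nat.even_pow.2 ⟨even_two, by omega⟩

/-- the elements of `C` which permute the letters, and the groups `C_G(D_ij)`, `i, j ≠ 0` -/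
def Xg (C : Subgroup G) (ε : (Fin (2 ^ m + 1) → ZMod 2) → G) : Set G :=
  {g | g ∈ C ∧ ∃ σ, Acts ε g σ} ∪ {g | ∃ i j, i ≠ 0 ∧ j ≠ 0 ∧ i ≠ j ∧ g ∈ CD ε i j}

/-- generators of `C` -/
theorem gen_of (D : GDat V L C U ε) (hX : ∀ i j : Fin (2 ^ m + 1), i ≠ 0 → j ≠ 0 → i ≠ j → CD ε i j ≤ C)
    (hgen : C ≤ closure (Xg C ε)) : Gen (rp D) (aa D) {g : C | (g : G) ∈ Xg C ε} where
  gen := by
    have h1 : C ≤ (closure {g : C | (g : G) ∈ Xg C ε}).map C.subtype := by
      refine hgen.trans ?_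
      rw [closure_le]
      intro x hx
      have hxC : x ∈ C := by
        rcases hx with ⟨hx, -⟩ | ⟨i, j, hi, hj, hij, hx⟩
        · exact hx
        · exact hX i j hi hj hij hx
      exact ⟨⟨x, hxC⟩, subset_closure hx, rfl⟩
    rw [eq_top_iff]
    intro x _
    obtain ⟨y, hy, e⟩ := h1 x.2
    have e' : y = x := Subtype.ext e
    rwa [← e']
  pts := by
    have h5 := five D
    rintro g (⟨hg, σ, hσ⟩ | ⟨i, j, hi, hj, hij, hx⟩)
    · have h0 : σ 0 = 0 := by
        have h1 := hσ.single 0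
        rw [mem_Cn'.1 (D.C_le hg)] at h1
        exact (pt_inj D h1).symm
      have h2 : σ (Fin.succ ⟨0, by positivity⟩) ≠ 0 := by
        intro e
        rw [← h0] at e
        exact Fin.succ_ne_zero _ (σ.injective e)
      obtain ⟨j, hj⟩ := Fin.exists_succ_eq.2 h2
      refine ⟨⟨0, by positivity⟩, j, EA.ext ?_⟩
      rw [val_rp, val_aa, val_aa, hj]
      exact hσ.single _
    · obtain ⟨k, hk⟩ := exists_not_mem ({0, i, j} : Finset (Fin (2 ^ m + 1)))
        (lt_of_le_of_lt Finset.card_le_three (by omega))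
      simp only [Finset.mem_insert, Finset.mem_singleton, not_or] at hk
      obtain ⟨l, rfl⟩ := Fin.exists_succ_eq.2 hk.1
      refine ⟨l, l, EA.ext ?_⟩
      rw [val_rp, val_aa]
      exact mem_CD.1 hx _ (by rw [Pi.single_eq_of_ne (Ne.symm hk.2.1), Pi.single_eq_of_ne (Ne.symm hk.2.2)])

variable [Finite G]

/-- **THEOREM HT', relative form, `m ≥ 2`, LEMMA Q.** -/
theorem main_lq (D : GDat V L C U ε) (hCV : centralizer (V : Set G) ≤ C)
    (hX : ∀ i j : Fin (2 ^ m + 1), i ≠ 0 → j ≠ 0 → i ≠ j → CD ε i j ≤ C)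
    {S : Subgroup G} (hS2 : IsPGroup 2 S) (hSC : S ≤ C) (hSd : ¬ 2 ∣ S.relIndex C)
    (hSN : S ≤ normalizer (V : Set G)) {T : Set C} (hT : Lq (rp D) (zW D) (aa D) T)
    {t p : G} (ht : t ∈ C) (hp : ∃ c ∈ C, ∃ i, i ≠ 0 ∧ p = c * pt ε i * c⁻¹)
    (htu : ∀ u ∈ U, t * u * t⁻¹ = u ∨ t * u * t⁻¹ = u * p ∨ t * u * t⁻¹ = u * pt ε 0 ∨
      t * u * t⁻¹ = u * (p * pt ε 0))
    (hne : ∃ u ∈ U, t * u * t⁻¹ ≠ u) :
    IsPGroup 2 (Vq L U ε) ∧ Vq L U ε ≠ ⊥ ∧ U ≤ Vq L U ε ∧ Vq L U ε ≤ o2 (centralizer (V : Set G)) ∧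
      L ≤ normalizer (Vq L U ε : Set G) ∧ C ≤ normalizer (Vq L U ε : Set G) :=
  main D hCV hX hS2 hSC hSd hSN (fun _ _ Hp F => TRes.of_lq Hp F (even_card D) hT) ht hp htu hne

/-- **THEOREM HT', relative form, `m ≥ 2`, `C = ⟨N_C(V), C_G(D_ij)⟩`: no Sylow subgroup, no LEMMA Q.** -/
theorem main_gen (D : GDat V L C U ε) (hCV : centralizer (V : Set G) ≤ C)
    (hX : ∀ i j : Fin (2 ^ m + 1), i ≠ 0 → j ≠ 0 → i ≠ j → CD ε i j ≤ C)
    (hgen : C ≤ closure (Xg C ε))
    {t p : G} (ht : t ∈ C) (hp : ∃ c ∈ C, ∃ i, i ≠ 0 ∧ p = c * pt ε i * c⁻¹)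
    (htu : ∀ u ∈ U, t * u * t⁻¹ = u ∨ t * u * t⁻¹ = u * p ∨ t * u * t⁻¹ = u * pt ε 0 ∨
      t * u * t⁻¹ = u * (p * pt ε 0))
    (hne : ∃ u ∈ U, t * u * t⁻¹ ≠ u) :
    IsPGroup 2 (Vq L U ε) ∧ Vq L U ε ≠ ⊥ ∧ U ≤ Vq L U ε ∧ Vq L U ε ≤ o2 (centralizer (V : Set G)) ∧
      L ≤ normalizer (Vq L U ε : Set G) ∧ C ≤ normalizer (Vq L U ε : Set G) ∧
      ∀ i j : Fin (2 ^ m + 1), i ≠ j → CD ε i j ≤ normalizer (Vq L U ε : Set G) := by
  have Hp : Pre (rp D) (Om D) (zW D) (aa D) := by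
    refine pre D ht ?_ htu hne
    obtain ⟨c, hc, i, hi, rfl⟩ := hp
    obtain ⟨j, rfl⟩ := Fin.exists_succ_eq.2 hi
    exact ⟨c, hc, j, rfl⟩
  obtain ⟨c, f, F⟩ := Hp.exists_fm
  have R : TRes (Om D) (zW D) (aa D) f := TRes.of_gen Hp F (even_card D) (gen_of D hX hgen)
  have hU : U ≤ ⨆ p : {p : Fin (2 ^ m + 1) × Fin (2 ^ m + 1) // p.1 ≠ 0 ∧ p.2 ≠ 0 ∧ p.1 ≠ p.2},
      WW V ε (p : Fin (2 ^ m + 1) × Fin (2 ^ m + 1)).1 (p : Fin (2 ^ m + 1) × Fin (2 ^ m + 1)).2 := by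
    refine GrpM.span D F Hp R fun i j hi hj hij t _ ht v hv => ?_
    have h1 : t ∈ CD ε i j := mem_CD.2 fun v hv =>
      mul_inv_eq_iff_eq_mul.2 (mem_centralizer_iff.1 ht _ ⟨v, hv, rfl⟩).symm
    refine le_iSup (fun p : {p : Fin (2 ^ m + 1) × Fin (2 ^ m + 1) // p.1 ≠ 0 ∧ p.2 ≠ 0 ∧ p.1 ≠ p.2} =>
      WW V ε (p : Fin (2 ^ m + 1) × Fin (2 ^ m + 1)).1
          (p : Fin (2 ^ m + 1) × Fin (2 ^ m + 1)).2) ⟨(i, j), hi, hj, hij⟩ ?_
    exact conj_le_WW h1 (mem_conj_of hv t)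
  have hCD : ∀ i j : Fin (2 ^ m + 1), i ≠ j → CD ε i j ≤ normalizer (Vq L U ε : Set G) := fun i j hij =>
    CD_le D hX hU hij
  refine ⟨Vq_isPGroup D hCV, Vq_ne_bot D, U_le_Vq D, Vq_le D hCV, L_le D hCV, ?_, hCD⟩
  refine hgen.trans ((closure_le _).2 ?_)
  rintro g (⟨-, σ, hσ⟩ | ⟨i, j, -, -, hij, hg⟩)
  · exact acts_Vq D hCV hσ
  · exact hCD i j hij hg

end Cfsg.Agent.Omega.NO3S.SN.HT.EndM
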