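import Cfsg.Agent.Omega.NO3S.SN.HT.Rad
import Cfsg.Agent.Omega.NO3S.SN.J.N1
import Cfsg.Agent.Omega.NO3S.SN.Geo
import Cfsg.Agent.GTwoFour.Tools

/-!
# THEOREM HT' (helper581, bb #20437): (0)-(9) in the group

`U_z` as a module `Wm` for `C_G(z)`, the points `Om` (the conjugates of the `z_i`, `i ≠ 0`, under `C_G(z)`).

* `Fus` : the only fact on fusion which is used, `fus` : it holds under `HypJ`;
* `pre` : `Pre` for an element of `C_G(z)` with `[U_z, t] ≤ ⟨p, z⟩`, `p ∈ Om` (from `Fus` only);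
* `lq` : LEMMA Q;
* `Tr`, `exists_tr` : the transvections and their properties (`Res`).
-/

set_option autoImplicit false
set_option linter.unusedSectionVars false

namespace Cfsg.Agent.Omega.NO3S.SN.HT.Grp

open Subgroup Module Cfsg Cfsg.Agent.ZN Cfsg.Agent.Omega.MinPar Cfsg.Agent.Omega.Frame
open Cfsg.Agent.Omega.FrameNOFF
open Cfsg.Agent.MinSimple.VModule
open Cfsg.Agent.Omega.S5.Def Cfsg.Agent.Omega.S5.Syl
open Cfsg.Agent.Omega.NSix.Base Cfsg.Agent.Omega.NSix.Basic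
open Cfsg.Agent.Omega.TV (EA)
open scoped Pointwise

universe u

variable {G : Type u} [Group G] [Finite G] {S : Sylow 2 G} {P : Subgroup G} {m : ℕ}
  {ε : (Fin (2 ^ m + 1) → ZMod 2) → G}

/-- `U_z` -/
abbrev Uz (S : Sylow 2 G) (P : Subgroup G) (ε : (Fin (2 ^ m + 1) → ZMod 2) → G) : Subgroup G :=
  U (zl (S : Subgroup G) P) (pt ε 0) (pt ε 0)

theorem sqU (hs : Hyp S P m ε) : ∀ x ∈ Uz S P ε, x * x = 1 := fun x hx => by
  rw [← pow_two]
  exact hs.base.U_sq _ x hx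

omit [Finite G] in
theorem norU : ∀ c ∈ Cn (pt ε 0), ∀ n ∈ Uz S P ε, c * n * c⁻¹ ∈ Uz S P ε := fun _ hc n hn =>
  (mem_normalizer_iff.1 (Base.Cn_le_normalizer _ _ hc) n).1 hn

theorem VU (hs : Hyp S P m ε) : zl (S : Subgroup G) P ≤ Uz S P ε := hs.base.V_le_U 0

/-- `U_z`, additively -/
abbrev Wm (hs : Hyp S P m ε) : Type _ := EA (Uz S P ε) (sqU hs)

/-- the action of `C_G(z)` -/
noncomputable def rp (hs : Hyp S P m ε) : Cn (pt ε 0) →* (Wm hs ≃ₗ[ZMod 2] Wm hs) :=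
  EA.crep (sqU hs) (Cn (pt ε 0)) norU

variable (hs : Hyp S P m ε)

@[simp] theorem val_rp (g : Cn (pt ε 0)) (a : Wm hs) : (rp hs g a).val = (g : G) * a.val * (g : G)⁻¹ := rfl

/-- the labels -/
noncomputable def ev : (Fin (2 ^ m + 1) → ZMod 2) →ₗ[ZMod 2] Wm hs :=
  AddMonoidHom.toZModLinearMap 2
    ({ toFun := fun x => EA.mk (sqU hs) (ε x) (VU hs (hs.ev.mem x))
       map_zero' := EA.ext (by rw [EA.val_mk, EA.val_zero]; exact hs.ev.zero)
       map_add' := fun x y => EA.ext (by rw [EA.val_add, EA.val_mk, EA.val_mk, EA.val_mk]; exact hs.ev.add x y) } :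
      (Fin (2 ^ m + 1) → ZMod 2) →+ Wm hs)

@[simp] theorem val_ev (x : Fin (2 ^ m + 1) → ZMod 2) : (ev hs x).val = ε x := rfl

theorem ev_one : ev hs 1 = 0 := EA.ext (by rw [val_ev, EA.val_zero]; exact hs.ev.one)

/-- the points `z_i`, `i ≠ 0` -/
noncomputable def aa (i : Fin (2 ^ m)) : Wm hs := ev hs (Pi.single i.succ 1)

/-- `z` -/
noncomputable def zW : Wm hs := ev hs (Pi.single 0 1)

@[simp] theorem val_aa (i : Fin (2 ^ m)) : (aa hs i).val = pt ε i.succ := rfl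

@[simp] theorem val_zW : (zW hs).val = pt ε 0 := rfl

/-- the heavy points on lines through `z` -/
def Om : Set (Wm hs) := {w | ∃ c ∈ Cn (pt ε 0), ∃ i : Fin (2 ^ m), w.val = c * pt ε i.succ * c⁻¹}

theorem sum_aa (x : Fin (2 ^ m) → ZMod 2) : ∑ i, x i • aa hs i = ev hs (Fin.cons 0 x) := by
  have h1 : (Fin.cons 0 x : Fin (2 ^ m + 1) → ZMod 2) = ∑ i : Fin (2 ^ m), x i • Pi.single i.succ 1 := by
    funext k
    rw [Finset.sum_apply]
    refine Fin.cases ?_ (fun j => ?_) k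
    · rw [Fin.cons_zero, Finset.sum_eq_zero]
      intro i _
      rw [Pi.smul_apply, Pi.single_eq_of_ne (Fin.succ_ne_zero i).symm, smul_zero]
    · rw [Fin.cons_succ, Finset.sum_eq_single j]
      · rw [Pi.smul_apply, Pi.single_eq_same, smul_eq_mul, mul_one]
      · intro i _ hij
        rw [Pi.smul_apply, Pi.single_eq_of_ne (fun e => hij (Fin.succ_injective _ e).symm), smul_zero]
      · intro hj
        exact absurd (Finset.mem_univ _) hj
  rw [h1, map_sum]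
  exact Finset.sum_congr rfl fun i _ => by rw [map_smul]; rfl

theorem ev_eq_zero {x : Fin (2 ^ m + 1) → ZMod 2} : ev hs x = 0 ↔ x = 0 ∨ x = 1 := by
  rw [← hs.ev.ker]
  constructor
  · intro e
    have h1 := congrArg EA.val e
    rwa [val_ev, EA.val_zero] at h1
  · intro e
    exact EA.ext (by rw [val_ev, EA.val_zero]; exact e)

/-- a vector with label `x` -/
theorem ev_eq (x : Fin (2 ^ m + 1) → ZMod 2) :
    ev hs x = ∑ i : Fin (2 ^ m), (x i.succ + x 0) • aa hs i := by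
  rw [sum_aa]
  have h01 : ∀ a : ZMod 2, a = 0 ∨ a = 1 := by decide
  rcases h01 (x 0) with h0 | h0
  · congr 1
    funext k
    refine Fin.cases ?_ (fun j => ?_) k
    · rw [Fin.cons_zero, h0]
    · rw [Fin.cons_succ, h0, add_zero]
  · have h1 : x = (Fin.cons 0 fun i : Fin (2 ^ m) => x i.succ + x 0) + 1 := by
      funext k
      refine Fin.cases ?_ (fun j => ?_) k
      · rw [Pi.add_apply, Fin.cons_zero, h0, zero_add, Pi.one_apply]
      · rw [Pi.add_apply, Fin.cons_succ, h0, Pi.one_apply, add_assoc, CharTwo.add_self_eq_zero, add_zero]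
    conv_lhs => rw [h1]
    rw [map_add, ev_one, add_zero]

theorem zW_eq : ∑ i, aa hs i = zW hs := by
  have h1 := ev_eq hs (Pi.single 0 1)
  rw [zW, h1]
  refine Finset.sum_congr rfl fun i _ => ?_
  rw [Pi.single_eq_of_ne (Fin.succ_ne_zero i), Pi.single_eq_same, zero_add, one_smul]

theorem mem_span {w : Wm hs} : w ∈ Submodule.span (ZMod 2) (Set.range (aa hs)) ↔ w.val ∈ zl (S : Subgroup G) P := by
  constructor
  · intro hw
    obtain ⟨x, rfl⟩ := (Submodule.mem_span_range_iff_exists_fun (ZMod 2)).1 hw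
    rw [sum_aa, val_ev]
    exact hs.ev.mem _
  · intro hw
    obtain ⟨x, hx⟩ := hs.ev.surj _ hw
    have h1 : w = ev hs x := EA.ext (by rw [val_ev, hx])
    rw [h1, ev_eq]
    exact Submodule.sum_mem _ fun i _ => Submodule.smul_mem _ _ (Submodule.subset_span ⟨i, rfl⟩)

theorem fix (g : Cn (pt ε 0)) : rp hs g (zW hs) = zW hs :=
  EA.ext (by rw [val_rp, val_zW]; exact mem_Cn'.1 g.2)

theorem z0 : zW hs ≠ 0 := by
  intro e
  have h1 := congrArg EA.val e
  rw [val_zW, EA.val_zero] at h1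
  exact hs.base.pt_ne_one 0 h1

include hs in
/-- permutations of the points are induced by `P ∩ C_G(z)` -/
theorem perm (σ : Equiv.Perm (Fin (2 ^ m))) : ∃ g : Cn (pt ε 0), (g : G) ∈ P ∧
    ∀ i, (g : G) * pt ε i.succ * (g : G)⁻¹ = pt ε (σ i).succ := by
  obtain ⟨g, hg, hσ⟩ := hs.ev.full (Equiv.Perm.decomposeFin.symm (0, σ))
  have h0 : g * pt ε 0 * g⁻¹ = pt ε 0 := by
    have h1 := hσ.single 0
    rw [Equiv.Perm.decomposeFin_symm_apply_zero] at h1
    exact h1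
  refine ⟨⟨g, mem_Cn'.2 h0⟩, hg, fun i => ?_⟩
  have h1 := hσ.single i.succ
  rw [Equiv.Perm.decomposeFin_symm_apply_succ, Equiv.swap_self] at h1
  exact h1

theorem aa_Om (i : Fin (2 ^ m)) : aa hs i ∈ Om hs := ⟨1, one_mem _, i, by rw [val_aa]; group⟩

theorem Om_inv (g : Cn (pt ε 0)) {w : Wm hs} (hw : w ∈ Om hs) : rp hs g w ∈ Om hs := by
  obtain ⟨c, hc, i, e⟩ := hw
  exact ⟨g * c, mul_mem g.2 hc, i, by rw [val_rp, e]; group⟩

theorem Om_ne {w : Wm hs} (hw : w ∈ Om hs) : w ≠ 0 ∧ w ≠ zW hs := by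
  obtain ⟨c, hc, i, e⟩ := hw
  constructor
  · rintro rfl
    rw [EA.val_zero] at e
    exact hs.base.pt_ne_one _ (conj_eq_one_iff.1 e.symm)
  · rintro rfl
    rw [val_zW] at e
    have h1 : pt ε 0 = pt ε i.succ := by
      have h2 := mem_Cn'.1 (inv_mem hc)
      rw [e] at h2
      have e' := e
      rw [← h2] at e'
      rw [e]
      calc c * pt ε i.succ * c⁻¹ = c⁻¹ * (c * pt ε i.succ * c⁻¹) * c⁻¹⁻¹ := h2.symm
        _ = pt ε i.succ := by group
    exact Fin.succ_ne_zero i (hs.base.pt_inj h1).symm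

/-- **The only fact on fusion**: conjugates of the points `z_i` which lie in `V` are points `z_j`. -/
def Fus (S : Sylow 2 G) (P : Subgroup G) (ε : (Fin (2 ^ m + 1) → ZMod 2) → G) : Prop :=
  ∀ (g : G) (i : Fin (2 ^ m + 1)), g * pt ε i * g⁻¹ ∈ zl (S : Subgroup G) P → ∃ j, g * pt ε i * g⁻¹ = pt ε j

/-- under `HypJ` (control of fusion) -/
theorem fus (h : NSix.CaseJ.Base.Hyp S P ε) (h3 : 3 ≤ m) : Fus S P ε := by
  intro g i hg
  obtain ⟨k, hk, hk1⟩ := NSix.CaseJ.Fus.control h h3 (v := pt ε i) (g := g) (h.ev.mem _) hg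
  obtain ⟨σ, hσ⟩ := (NSix.Norm.evenSet' h.hm S h.ev h.SP h.fix0).perm k hk
  exact ⟨σ i, by rw [← hk1]; exact hσ.single i⟩

include hs in
theorem pt_mul_ne (i j k : Fin (2 ^ m + 1)) : pt ε i * pt ε j ≠ pt ε k := by
  intro e
  have h9 := hs.nine_le
  have h1 : ε (Pi.single i 1 + Pi.single j 1 + Pi.single k 1) = 1 := by
    rw [hs.ev.add, hs.ev.add]
    change pt ε i * pt ε j * pt ε k = 1
    rw [e]
    exact hs.ev.sq _
  obtain ⟨l, hl⟩ := exists_not_mem ({i, j, k} : Finset (Fin (2 ^ m + 1)))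
    (lt_of_le_of_lt Finset.card_le_three (by omega))
  simp only [Finset.mem_insert, Finset.mem_singleton, not_or] at hl
  rcases (hs.ev.ker _).1 h1 with h3 | h3
  · have h4 := congrArg (fun x : Fin (2 ^ m + 1) → ZMod 2 => ∑ l, x l) h3
    simp only [Pi.add_apply, Finset.sum_add_distrib, Finset.sum_pi_single', Finset.mem_univ,
      if_true, Pi.zero_apply, Finset.sum_const_zero] at h4
    revert h4; decide
  · have h4 := congrFun h3 l
    simp only [Pi.add_apply, Pi.one_apply] at h4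
    rw [Pi.single_eq_of_ne hl.1, Pi.single_eq_of_ne hl.2.1, Pi.single_eq_of_ne hl.2.2] at h4
    exact absurd h4 (by decide)

variable (hf : Fus S P ε)

include hf in
theorem Om_nz {w : Wm hs} (hw : w ∈ Om hs) : w + zW hs ∉ Om hs := by
  rintro ⟨d, hd, j, e'⟩
  obtain ⟨c, hc, i, e⟩ := hw
  rw [EA.val_add, e, val_zW] at e'
  have h2 := mem_Cn'.1 hc
  have h3 : (c⁻¹ * d) * pt ε j.succ * (c⁻¹ * d)⁻¹ = pt ε i.succ * pt ε 0 := by
    calc (c⁻¹ * d) * pt ε j.succ * (c⁻¹ * d)⁻¹ = c⁻¹ * (d * pt ε j.succ * d⁻¹) * c := by group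
      _ = c⁻¹ * (c * pt ε i.succ * c⁻¹ * (c * pt ε 0 * c⁻¹)) * c := by rw [← e', h2]
      _ = _ := by group
  obtain ⟨k, hk⟩ := hf (c⁻¹ * d) j.succ (by
    rw [h3]
    exact mul_mem (hs.ev.mem _) (hs.ev.mem _))
  rw [h3] at hk
  exact pt_mul_ne hs _ _ _ hk

theorem Om_trans {r s : Wm hs} (hr : r ∈ Om hs) (hs' : s ∈ Om hs) : ∃ g, rp hs g r = s := by
  obtain ⟨c, hc, i, e⟩ := hr
  obtain ⟨d, hd, j, e'⟩ := hs'
  obtain ⟨k, -, hk⟩ := perm hs (Equiv.swap i j)
  have h1 := hk i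
  rw [Equiv.swap_apply_left] at h1
  refine ⟨⟨d, hd⟩ * k * ⟨c, hc⟩⁻¹, EA.ext ?_⟩
  rw [val_rp, e, e', ← h1]
  simp only [Subgroup.coe_mul, Subgroup.coe_inv]
  group

theorem span_Om : Submodule.span (ZMod 2) (Om hs) = ⊤ := by
  have hinv : ∀ g : Cn (pt ε 0), ∀ w ∈ Submodule.span (ZMod 2) (Om hs),
      rp hs g w ∈ Submodule.span (ZMod 2) (Om hs) := by
    intro g w hw
    induction hw using Submodule.span_induction with
    | mem x hx => exact Submodule.subset_span (Om_inv hs g hx)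
    | zero => rw [map_zero]; exact Submodule.zero_mem _
    | add x y _ _ hx hy => rw [map_add]; exact Submodule.add_mem _ hx hy
    | smul b x _ hx => rw [map_smul]; exact Submodule.smul_mem _ _ hx
  have h1 : Submodule.span (ZMod 2) (Set.range (aa hs)) ≤ Submodule.span (ZMod 2) (Om hs) := by
    refine Submodule.span_mono ?_
    rintro _ ⟨i, rfl⟩
    exact aa_Om hs i
  have h2 : Uz S P ε ≤ EA.toSub (Submodule.span (ZMod 2) (Om hs)) := by
    refine U_le fun g hg => ?_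
    intro x hx
    rw [NoFF.Basic.mem_conj] at hx
    have h3 : EA.mk (sqU hs) (g⁻¹ * x * g) (VU hs hx) ∈ Submodule.span (ZMod 2) (Om hs) :=
      h1 ((mem_span hs).2 hx)
    refine ⟨_, hinv ⟨g, mem_Cn'.2 hg⟩ _ h3, ?_⟩
    rw [val_rp, EA.val_mk]
    group
  rw [eq_top_iff]
  intro w _
  exact EA.val_mem_toSub.1 (h2 w.val_mem)

/-- `O₂ = 1` -/
theorem o2H (K : Subgroup (Cn (pt ε 0))) (hK : K.Normal) (h2 : ∀ k ∈ K, ∃ m : ℕ, ∀ v, rp hs (k ^ 2 ^ m) v = v) :
    ∀ k ∈ K, ∀ v, rp hs k v = v := by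
  have h1 : K.map (Cn (pt ε 0)).subtype ≤ centralizer (Uz S P ε : Set G) := by
    refine hs.o2_trivial ?_ ?_ ?_
    · rintro _ ⟨k, -, rfl⟩
      exact k.2
    · intro c hc
      have key : ∀ c ∈ Cn (pt ε 0), ∀ x ∈ K.map (Cn (pt ε 0)).subtype, c * x * c⁻¹ ∈ K.map (Cn (pt ε 0)).subtype := by
        rintro c hc _ ⟨k, hk, rfl⟩
        exact ⟨⟨c, hc⟩ * k * ⟨c, hc⟩⁻¹, hK.conj_mem k hk _, rfl⟩
      rw [mem_normalizer_iff]
      intro x
      refine ⟨fun hx => key c hc x hx, fun hx => ?_⟩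
      have h3 := key _ (inv_mem hc) _ hx
      have e : c⁻¹ * (c * x * c⁻¹) * c⁻¹⁻¹ = x := by group
      rwa [e] at h3
    · rintro _ ⟨k, hk, rfl⟩
      obtain ⟨n, hn⟩ := h2 k hk
      refine ⟨n, ?_⟩
      rw [mem_centralizer_iff]
      intro u hu
      have h3 := congrArg EA.val (hn (EA.mk (sqU hs) u hu))
      rw [val_rp, EA.val_mk] at h3
      exact (mul_inv_eq_iff_eq_mul.1 h3).symm
  intro k hk v
  apply EA.ext
  rw [val_rp]
  have h3 := mem_centralizer_iff.1 (h1 ⟨k, hk, rfl⟩) v.val v.val_mem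
  exact mul_inv_eq_iff_eq_mul.2 h3.symm

include hf in
theorem line {w : Wm hs} (hw : w ∈ Om hs) (hl : w ∈ Submodule.span (ZMod 2) (Set.range (aa hs))) :
    ∃ i, w = aa hs i := by
  have hne := Om_ne hs hw
  obtain ⟨c, hc, i, e⟩ := hw
  rw [mem_span, e] at hl
  obtain ⟨j, hj⟩ := hf c i.succ hl
  rw [← e] at hj
  rcases Fin.eq_zero_or_eq_succ j with rfl | ⟨k, rfl⟩
  · exact absurd (EA.ext hj) hne.2
  · exact ⟨k, EA.ext hj⟩

include hf in
theorem pre {t p : G} (ht : t ∈ Cn (pt ε 0)) (hp : ∃ c ∈ Cn (pt ε 0), ∃ i : Fin (2 ^ m), p = c * pt ε i.succ * c⁻¹)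
    (htu : ∀ u ∈ Uz S P ε, t * u * t⁻¹ = u ∨ t * u * t⁻¹ = u * p ∨ t * u * t⁻¹ = u * pt ε 0 ∨
      t * u * t⁻¹ = u * (p * pt ε 0))
    (hne : ∃ u ∈ Uz S P ε, t * u * t⁻¹ ≠ u) : Pre (rp hs) (Om hs) (zW hs) (aa hs) where
  z0 := z0 hs
  fix := fix hs
  inv := fun g _ hp => Om_inv hs g hp
  trans := fun _ hr _ hs' => Om_trans hs hr hs'
  span := span_Om hs
  ne := fun _ hp => Om_ne hs hp
  nz := fun _ hp => Om_nz hs hf hp
  o2 := o2H hs
  mem := aa_Om hs
  sum := zW_eq hs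
  ind := by
    rw [Fintype.linearIndependent_iff]
    intro x hx i
    rw [sum_aa, ev_eq_zero] at hx
    rcases hx with hx | hx
    · have h1 := congrFun hx i.succ
      rwa [Fin.cons_succ] at h1
    · have h1 := congrFun hx 0
      rw [Fin.cons_zero] at h1
      exact absurd h1 zero_ne_one
  line := fun _ hp hl => line hs hf hp hl
  perm := by
    intro σ
    obtain ⟨g, -, hg⟩ := perm hs σ
    exact ⟨g, fun i => EA.ext (by rw [val_rp, val_aa, val_aa]; exact hg i)⟩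
  card := by
    rw [Fintype.card_fin]
    have h1 : 2 ^ 3 ≤ 2 ^ m := Nat.pow_le_pow_right (by norm_num) hs.m3
    omega
  ex := by
    obtain ⟨c, hc, i, e⟩ := hp
    have hpU : p ∈ Uz S P ε := by
      rw [e]
      exact norU c hc _ (VU hs (hs.ev.mem _))
    refine ⟨EA.mk (sqU hs) p hpU, ⟨c, hc, i, e⟩, ⟨t, ht⟩, fun w => ?_, ?_⟩
    · rcases htu w.val w.val_mem with e1 | e1 | e1 | e1
      · exact Or.inl (EA.ext e1)
      · exact Or.inr (Or.inl (EA.ext e1))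
      · exact Or.inr (Or.inr (Or.inl (EA.ext e1)))
      · exact Or.inr (Or.inr (Or.inr (EA.ext e1)))
    · obtain ⟨u, hu, hne⟩ := hne
      exact ⟨EA.mk (sqU hs) u hu, fun e1 => hne (congrArg EA.val e1)⟩

variable (h : NSix.CaseJ.Base.Hyp S P ε)

include hs h in
theorem U_le_Q : Uz S P ε ≤ o2 P := by
  intro x hx
  refine h.cS (hs.o2_le_S (hs.base.U_le_Qn _ hx)) fun v hv => ?_
  exact (mem_centralizer_iff.1 (hs.base.U_comm _ hx) v (VU hs hv)).symm

include h in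
/-- LEMMA Q -/
theorem lq : Lq (rp hs) (zW hs) (aa hs) {g : Cn (pt ε 0) | (g : G) ∈ o2 P} := by
  constructor
  · intro g hg i
    apply EA.ext
    rw [val_rp, val_aa]
    exact mul_inv_eq_iff_eq_mul.2 (h.VcQ hg (hs.ev.mem _))
  · intro Y hY hz hex
    have : Fact (Nat.Prime 2) := ⟨Nat.prime_two⟩
    have hQC : o2 P ≤ Cn (pt ε 0) := fun q hq => mem_Cn.2 (h.VcQ hq (hs.ev.mem _))
    have hNU : EA.toSub Y ≤ Uz S P ε := by
      rintro _ ⟨y, -, rfl⟩
      exact y.val_mem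
    obtain ⟨n, hn, hnz, hc⟩ := GTwoFour.Tools.exists_fixed_mod (Y := o2 P) (N := EA.toSub Y)
      (M := zpowers (pt ε 0)) (p := 2) (o2_isPGroup P) (hNU.trans (U_le_Q hs h))
      (by
        rintro q hq _ ⟨y, hy, rfl⟩
        exact ⟨_, hY ⟨q, hQC hq⟩ hq y hy, rfl⟩)
      (by
        intro q hq x hx
        rw [mem_zpowers_iff_of_sq (hs.base.pt_sq 0)] at hx ⊢
        rcases hx with rfl | rfl
        · left; group
        · right; exact mem_Cn'.1 (hQC hq))
      (by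
        obtain ⟨y, hy, hy0, hyz⟩ := hex
        refine ⟨y.val, EA.val_mem_toSub.2 hy, ?_⟩
        rw [mem_zpowers_iff_of_sq (hs.base.pt_sq 0)]
        rintro (e | e)
        · exact hy0 (EA.ext (by rw [e, EA.val_zero]))
        · exact hyz (EA.ext (by rw [e, val_zW])))
    have hnU := hNU hn
    obtain ⟨y, hy, rfl⟩ := hn
    have h1 : y.val ∈ zl (S : Subgroup G) P := by
      refine NSix.CaseJ.LemQ.mem h (v := pt ε 0) (U_le_Q hs h hnU) (sqU hs _ hnU) (hs.ev.mem _)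
        (hs.base.pt_ne_one 0) fun q hq => ?_
      have h2 := hc q hq
      rw [mem_zpowers_iff_of_sq (hs.base.pt_sq 0), commutatorElement_def] at h2
      rcases h2 with h2 | h2
      · left; exact mul_inv_eq_one.1 h2
      · right; exact mul_inv_eq_iff_eq_mul.1 h2
    refine ⟨y, hy, (mem_span hs).2 h1, ?_, ?_⟩
    · rintro rfl
      apply hnz
      rw [EA.val_zero]
      exact one_mem _
    · rintro rfl
      apply hnz
      rw [val_zW]
      exact mem_zpowers _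

/-! ### The transvections -/

variable {c : ZMod 2} {f : Wm hs →ₗ[ZMod 2] Wm hs →ₗ[ZMod 2] ZMod 2}

/-- `t` acts on `U_z` as the transvection for `p`. -/
def Tr (c : ZMod 2) (f : Wm hs →ₗ[ZMod 2] Wm hs →ₗ[ZMod 2] ZMod 2) (t p : G) : Prop :=
  ∃ (ht : t ∈ Cn (pt ε 0)) (w : Wm hs), w ∈ Om hs ∧ w.val = p ∧
    ∀ x, rp hs ⟨t, ht⟩ x = x + f w x • (w + c • zW hs)

variable (F : Fm (rp hs) (Om hs) (zW hs) (aa hs) c f)

theorem Tr.mem {t p : G} (T : Tr hs c f t p) : t ∈ Cn (pt ε 0) := T.choose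

include F

theorem Tr.conj {t p d : G} (T : Tr hs c f t p) (hd : d ∈ Cn (pt ε 0)) : Tr hs c f (d * t * d⁻¹) (d * p * d⁻¹) := by
  obtain ⟨ht, w, hw, rfl, h1⟩ := T
  refine ⟨mul_mem (mul_mem hd ht) (inv_mem hd), rp hs ⟨d, hd⟩ w, Om_inv hs _ hw, rfl, fun x => ?_⟩
  have e : (⟨d * t * d⁻¹, mul_mem (mul_mem hd ht) (inv_mem hd)⟩ : Cn (pt ε 0)) = ⟨d, hd⟩ * ⟨t, ht⟩ * ⟨d, hd⟩⁻¹ := rfl
  have e1 : f (rp hs ⟨d, hd⟩ w) x = f w (rp hs ⟨d, hd⟩⁻¹ x) := F.inv' _ _ _
  rw [e, TV.rmul, TV.rmul, h1, map_add, map_smul, TV.rinv', map_add, map_smul, fix, e1]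

theorem Tr.mulC {t p d : G} (T : Tr hs c f t p) (hd : d ∈ Cn (pt ε 0)) (hd' : d ∈ centralizer (Uz S P ε : Set G)) :
    Tr hs c f (t * d) p := by
  obtain ⟨ht, w, hw, rfl, h1⟩ := T
  refine ⟨mul_mem ht hd, w, hw, rfl, fun x => ?_⟩
  have e : (⟨t * d, mul_mem ht hd⟩ : Cn (pt ε 0)) = ⟨t, ht⟩ * ⟨d, hd⟩ := rfl
  have e1 : rp hs ⟨d, hd⟩ x = x := EA.ext (by
    rw [val_rp]
    exact mul_inv_eq_iff_eq_mul.2 (mem_centralizer_iff.1 hd' x.val x.val_mem).symm)
  rw [e, TV.rmul, e1, h1]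

theorem Tr.sq {t p : G} (T : Tr hs c f t p) : t * t ∈ centralizer (Uz S P ε : Set G) := by
  obtain ⟨ht, w, hw, rfl, h1⟩ := T
  rw [mem_centralizer_iff]
  intro u hu
  have h2 : rp hs (⟨t, ht⟩ * ⟨t, ht⟩) (EA.mk (sqU hs) u hu) = EA.mk (sqU hs) u hu := by
    rw [TV.rmul, h1, h1]
    simp only [map_add, map_smul, F.alt, F.zr, smul_zero, add_zero]
    rw [add_assoc, TV.v_add_self, add_zero]
  have h3 := congrArg EA.val h2
  rw [val_rp] at h3
  exact (mul_inv_eq_iff_eq_mul.1 h3).symm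

theorem Tr.exists_of {w : Wm hs} (hw : w ∈ Om hs) : ∃ t, Tr hs c f t w.val := by
  obtain ⟨g, hg⟩ := F.tr w hw
  exact ⟨g, g.2, w, hw, rfl, hg⟩

variable (Hp : Pre (rp hs) (Om hs) (zW hs) (aa hs))

include h Hp

omit F h Hp in
theorem even_card (hs : Hyp S P m ε) : Even (Fintype.card (Fin (2 ^ m))) := by
  rw [Fintype.card_fin]
  have := hs.m3
  exact Nat.even_pow.2 ⟨even_two, by omega⟩

omit F h Hp in
theorem six_card (hs : Hyp S P m ε) : 6 ≤ Fintype.card (Fin (2 ^ m)) := by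
  rw [Fintype.card_fin]
  have h1 : 2 ^ 3 ≤ 2 ^ m := Nat.pow_le_pow_right (by norm_num) hs.m3
  omega

theorem Tr.nor {t p : G} (T : Tr hs c f t p) (hn : t ∈ normalizer (zl (S : Subgroup G) P : Set G)) :
    ∃ i, i ≠ 0 ∧ p = pt ε i := by
  obtain ⟨ht, w, hw, rfl, h1⟩ := T
  obtain ⟨i, hi⟩ := F.eq_of_nor Hp (even_card hs) (six_card hs) (lq hs h) hw (fun i => by
    rw [← h1, mem_span, val_rp, val_aa]
    exact (mem_normalizer_iff.1 hn _).1 (hs.ev.mem _))
  exact ⟨i.succ, Fin.succ_ne_zero i, by rw [hi, val_aa]⟩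

/-- `D_ij = C_V((i j))` -/
def Dd (ε : (Fin (2 ^ m + 1) → ZMod 2) → G) (i j : Fin (2 ^ m + 1)) : Set G := {v | ∃ x, x i = x j ∧ v = ε x}

theorem Tr.adj {t p : G} (T : Tr hs c f t p) : t ∈ normalizer (zl (S : Subgroup G) P : Set G) ∨
    ∃ i j, i ≠ 0 ∧ j ≠ 0 ∧ i ≠ j ∧ t ∈ centralizer (Dd ε i j) := by
  obtain ⟨ht, w, hw, rfl, h1⟩ := T
  have key : ∀ x, f w (ev hs x) = ∑ i : Fin (2 ^ m), (x i.succ + x 0) * f w (aa hs i) := by
    intro x
    rw [ev_eq, map_sum]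
    exact Finset.sum_congr rfl fun i _ => by rw [map_smul, smul_eq_mul]
  have h2 : ∀ x, f w (ev hs x) = 0 → t * ε x * t⁻¹ = ε x := by
    intro x e
    have h3 := h1 (ev hs x)
    rw [e, zero_smul, add_zero] at h3
    exact congrArg EA.val h3
  rcases F.type Hp (even_card hs) (six_card hs) (lq hs h) hw with h0 | ⟨i, j, hij, hi, hj, h0⟩
  · left
    have h3 : t ∈ centralizer (zl (S : Subgroup G) P : Set G) := by
      rw [mem_centralizer_iff]
      intro v hv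
      obtain ⟨x, rfl⟩ := hs.ev.surj v hv
      refine (mul_inv_eq_iff_eq_mul.1 (h2 x ?_)).symm
      rw [key]
      exact Finset.sum_eq_zero fun i _ => by rw [h0, mul_zero]
    exact centralizer_le_normalizer _ h3
  · right
    refine ⟨i.succ, j.succ, Fin.succ_ne_zero _, Fin.succ_ne_zero _, fun e => hij (Fin.succ_injective _ e), ?_⟩
    rw [mem_centralizer_iff]
    rintro _ ⟨x, hx, rfl⟩
    refine (mul_inv_eq_iff_eq_mul.1 (h2 x ?_)).symm
    rw [key, ← Finset.add_sum_erase _ _ (Finset.mem_univ i),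
      ← Finset.add_sum_erase _ _ (Finset.mem_erase.2 ⟨hij.symm, Finset.mem_univ j⟩), Finset.sum_eq_zero, add_zero,
      hi, hj, hx, mul_one]
    · exact CharTwo.add_self_eq_zero _
    · intro k hk
      rw [Finset.mem_erase, Finset.mem_erase] at hk
      rw [h0 k hk.2.1 hk.1, mul_zero]

/-- `U_z` is generated by the conjugates of `V` under the `C_G(D_ij)`. -/
theorem span {R : Subgroup G} (hR : ∀ i j, i ≠ 0 → j ≠ 0 → i ≠ j → ∀ t ∈ centralizer (Dd ε i j),
    ∀ v ∈ zl (S : Subgroup G) P, t * v * t⁻¹ ∈ R) : Uz S P ε ≤ R := by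
  have h0 : ∀ v ∈ zl (S : Subgroup G) P, v ∈ R := by
    intro v hv
    have h1 : 1 < Fintype.card (Fin (2 ^ m)) := by have := Hp.card; omega
    obtain ⟨i, j, hij⟩ := Fintype.one_lt_card_iff.1 h1
    have h2 := hR i.succ j.succ (Fin.succ_ne_zero _) (Fin.succ_ne_zero _) (fun e => hij (Fin.succ_injective _ e)) 1
      (one_mem _) v hv
    simpa using h2
  let Y : Submodule (ZMod 2) (Wm hs) :=
    { carrier := {w | w.val ∈ R}
      add_mem' := by
        intro a b ha hb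
        change (a + b).val ∈ R
        rw [EA.val_add]
        exact mul_mem ha hb
      zero_mem' := by
        change (0 : Wm hs).val ∈ R
        rw [EA.val_zero]
        exact one_mem R
      smul_mem' := by
        intro b w hw
        rcases TV.z2 b with e | e
        · rw [e, zero_smul]
          change (0 : Wm hs).val ∈ R
          rw [EA.val_zero]
          exact one_mem R
        · rw [e, one_smul]
          exact hw }
  have hY : Y = ⊤ := by
    refine F.span_ty Hp (even_card hs) (six_card hs) (lq hs h) (h0 _ (hs.ev.mem _)) ?_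
    rintro w hw ⟨i, hi⟩
    change w.val ∈ R
    obtain ⟨t, ht⟩ := Tr.exists_of hs F hw
    have hex : ∃ j, ∃ k, j ≠ 0 ∧ k ≠ 0 ∧ j ≠ k ∧ t ∈ centralizer (Dd ε j k) := by
      rcases Tr.adj hs h F Hp ht with h1 | h1
      · exfalso
        obtain ⟨j, hj, e⟩ := Tr.nor hs h F Hp ht h1
        obtain ⟨j', rfl⟩ := Fin.exists_succ_eq.2 hj
        have e1 : w = aa hs j' := EA.ext e
        rw [e1, F.orth] at hi
        exact zero_ne_one hi
      · exact h1
    obtain ⟨j, k, hj, hk, hjk, htD⟩ := hex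
    obtain ⟨htC, w', -, e, h1⟩ := ht
    have e' : w' = w := EA.ext e
    subst e'
    have h2 := h1 (aa hs i)
    rw [hi, one_smul] at h2
    have h3 := congrArg EA.val h2
    rw [val_rp, val_aa, EA.val_add, EA.val_add, val_aa] at h3
    have h4 := hR j k hj hk hjk t htD (pt ε i.succ) (hs.ev.mem _)
    change t * pt ε i.succ * t⁻¹ = _ at h3
    rw [h3] at h4
    have h5 : (c • zW hs : Wm hs).val ∈ R := by
      rcases TV.z2 c with e | e
      · rw [e, zero_smul, EA.val_zero]; exact one_mem R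
      · rw [e, one_smul, val_zW]; exact h0 _ (hs.ev.mem _)
    have h6 := (R.mul_mem_cancel_left (h0 _ (hs.ev.mem _))).1 h4
    exact (R.mul_mem_cancel_right h5).1 h6
  intro x hx
  have h1 : EA.mk (sqU hs) x hx ∈ Y := by rw [hY]; trivial
  exact h1

end Cfsg.Agent.Omega.NO3S.SN.HT.Grp
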