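import Cfsg.Agent.Omega.NO3S.SN.HT.Rad
import Cfsg.Agent.Omega.NO3S.SN.Geo
import Cfsg.Agent.GTwoFour.Tools

/-!
# THEOREM HT' (helper581, bb #20437), relative form (helper237, bb #22246 (1)(v)), every `m ≥ 2`

As `Grp.lean`, for a subgroup `C` of `C_G(z)` which contains `C_L(z)` (e.g. `C_G(z)` or `M₀ = ⟨C_L(z), C_G(V_12)⟩`)
acting on `U = ⟨V^C⟩`: `GDat V L C U ε`.

* `pre` : `Pre` for an element of `C` with `[U, t] ≤ ⟨p, z⟩`, `p ∈ Om`;
* `lq_of` : `Lq` from LEMMA Q for a 2-group `Q` with `U ≤ Q ≤ C_G(V)`;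
* `TRes` : the results (5), (7), (8) of the pure part; `TRes.of_six` : they hold for `m ≥ 3`;
* `Tr` : the transvections: `Tr.conj`, `Tr.mulC`, `Tr.sq`, `Tr.nor`, `Tr.cent`, `Tr.adj`, `span`.
-/

set_option autoImplicit false
set_option linter.unusedSectionVars false

namespace Cfsg.Agent.Omega.NO3S.SN.HT.GrpM

open Subgroup Module Cfsg
open Cfsg.Agent.Omega.S5.Def
open Cfsg.Agent.Omega.TV (EA)

universe u

variable {G : Type u} [Group G] {m : ℕ} {V L C U : Subgroup G} {ε : (Fin (2 ^ m + 1) → ZMod 2) → G}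

/-- The data. -/
structure GDat (V L C U : Subgroup G) (ε : (Fin (2 ^ m + 1) → ZMod 2) → G) : Prop where
  m2 : 2 ≤ m
  ev : EvenSet (2 ^ m + 1) V L ε
  C_le : C ≤ Cn (pt ε 0)
  L_le : ∀ g ∈ L, g * pt ε 0 * g⁻¹ = pt ε 0 → g ∈ C
  sq : ∀ x ∈ U, x * x = 1
  V_le : V ≤ U
  nor : ∀ c ∈ C, ∀ n ∈ U, c * n * c⁻¹ ∈ U
  gen : ∀ A : Subgroup G, (∀ c ∈ C, ∀ v ∈ V, c * v * c⁻¹ ∈ A) → U ≤ A
  o2 : ∀ A : Subgroup G, A ≤ C → C ≤ normalizer (A : Set G) →
    (∀ a ∈ A, ∃ k : ℕ, a ^ 2 ^ k ∈ centralizer (U : Set G)) → A ≤ centralizer (U : Set G)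
  fus : ∀ g ∈ C, ∀ i, i ≠ 0 → g * pt ε i * g⁻¹ ∈ V → ∃ j, g * pt ε i * g⁻¹ = pt ε j

variable (D : GDat V L C U ε)

/-- `U`, additively -/
abbrev Wm (D : GDat V L C U ε) : Type _ := EA U D.sq

/-- the action of `C` -/
noncomputable def rp : C →* (Wm D ≃ₗ[ZMod 2] Wm D) := EA.crep D.sq C D.nor

@[simp] theorem val_rp (g : C) (a : Wm D) : (rp D g a).val = (g : G) * a.val * (g : G)⁻¹ := rfl

include D in
theorem five : 5 ≤ 2 ^ m + 1 := by
  have h1 : 2 ^ 2 ≤ 2 ^ m := Nat.pow_le_pow_right (by norm_num) D.m2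
  omega

/-- the labels -/
noncomputable def ev : (Fin (2 ^ m + 1) → ZMod 2) →ₗ[ZMod 2] Wm D :=
  AddMonoidHom.toZModLinearMap 2
    ({ toFun := fun x => EA.mk D.sq (ε x) (D.V_le (D.ev.mem x))
       map_zero' := EA.ext (by rw [EA.val_mk, EA.val_zero]; exact D.ev.zero)
       map_add' := fun x y => EA.ext (by rw [EA.val_add, EA.val_mk, EA.val_mk, EA.val_mk]; exact D.ev.add x y) } :
      (Fin (2 ^ m + 1) → ZMod 2) →+ Wm D)

@[simp] theorem val_ev (x : Fin (2 ^ m + 1) → ZMod 2) : (ev D x).val = ε x := rfl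

theorem ev_one : ev D 1 = 0 := EA.ext (by rw [val_ev, EA.val_zero]; exact D.ev.one)

/-- the points `z_i`, `i ≠ 0` -/
noncomputable def aa (i : Fin (2 ^ m)) : Wm D := ev D (Pi.single i.succ 1)

/-- `z` -/
noncomputable def zW : Wm D := ev D (Pi.single 0 1)

@[simp] theorem val_aa (i : Fin (2 ^ m)) : (aa D i).val = pt ε i.succ := rfl

@[simp] theorem val_zW : (zW D).val = pt ε 0 := rfl

/-- the heavy points on lines through `z` -/
def Om : Set (Wm D) := {w | ∃ c ∈ C, ∃ i : Fin (2 ^ m), w.val = c * pt ε i.succ * c⁻¹}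

theorem sum_aa (x : Fin (2 ^ m) → ZMod 2) : ∑ i, x i • aa D i = ev D (Fin.cons 0 x) := by
  have h1 : (Fin.cons 0 x : Fin (2 ^ m + 1) → ZMod 2) = ∑ i : Fin (2 ^ m), x i • Pi.single i.succ 1 := by
    funext k
    rw [Finset.sum_apply]
    refine Fin.cases ?_ (fun j => ?_) k
    · rw [Fin.cons_zero, Finset.sum_eq_zero]
      intro i _
      rw [Pi.smul_apply, Pi.single_eq_of_ne (Fin.succ_ne_zero i).symm, smul_zero]
    · rw [Fin.cons_succ, Finset.sum_eq_single j]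
      · rw [Pi.smul_apply, Pi.single_eq_same, smul_eq_mul, mul_one]
      · intro i _ hij
        rw [Pi.smul_apply, Pi.single_eq_of_ne (fun e => hij (Fin.succ_injective _ e).symm), smul_zero]
      · intro hj
        exact absurd (Finset.mem_univ _) hj
  rw [h1, map_sum]
  exact Finset.sum_congr rfl fun i _ => by rw [map_smul]; rfl

theorem ev_eq_zero {x : Fin (2 ^ m + 1) → ZMod 2} : ev D x = 0 ↔ x = 0 ∨ x = 1 := by
  rw [← D.ev.ker]
  constructor
  · intro e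
    have h1 := congrArg EA.val e
    rwa [val_ev, EA.val_zero] at h1
  · intro e
    exact EA.ext (by rw [val_ev, EA.val_zero]; exact e)

/-- a vector with label `x` -/
theorem ev_eq (x : Fin (2 ^ m + 1) → ZMod 2) :
    ev D x = ∑ i : Fin (2 ^ m), (x i.succ + x 0) • aa D i := by
  rw [sum_aa]
  have h01 : ∀ a : ZMod 2, a = 0 ∨ a = 1 := by decide
  rcases h01 (x 0) with h0 | h0
  · congr 1
    funext k
    refine Fin.cases ?_ (fun j => ?_) k
    · rw [Fin.cons_zero, h0]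
    · rw [Fin.cons_succ, h0, add_zero]
  · have h1 : x = (Fin.cons 0 fun i : Fin (2 ^ m) => x i.succ + x 0) + 1 := by
      funext k
      refine Fin.cases ?_ (fun j => ?_) k
      · rw [Pi.add_apply, Fin.cons_zero, h0, zero_add, Pi.one_apply]
      · rw [Pi.add_apply, Fin.cons_succ, h0, Pi.one_apply, add_assoc, CharTwo.add_self_eq_zero, add_zero]
    conv_lhs => rw [h1]
    rw [map_add, ev_one, add_zero]

theorem zW_eq : ∑ i, aa D i = zW D := by
  have h1 := ev_eq D (Pi.single 0 1)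
  rw [zW, h1]
  refine Finset.sum_congr rfl fun i _ => ?_
  rw [Pi.single_eq_of_ne (Fin.succ_ne_zero i), Pi.single_eq_same, zero_add, one_smul]

theorem mem_span {w : Wm D} : w ∈ Submodule.span (ZMod 2) (Set.range (aa D)) ↔ w.val ∈ V := by
  constructor
  · intro hw
    obtain ⟨x, rfl⟩ := (Submodule.mem_span_range_iff_exists_fun (ZMod 2)).1 hw
    rw [sum_aa, val_ev]
    exact D.ev.mem _
  · intro hw
    obtain ⟨x, hx⟩ := D.ev.surj _ hw
    have h1 : w = ev D x := EA.ext (by rw [val_ev, hx])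
    rw [h1, ev_eq]
    exact Submodule.sum_mem _ fun i _ => Submodule.smul_mem _ _ (Submodule.subset_span ⟨i, rfl⟩)

theorem fix (g : C) : rp D g (zW D) = zW D :=
  EA.ext (by rw [val_rp, val_zW]; exact mem_Cn'.1 (D.C_le g.2))

include D in
theorem pt_ne_one (i : Fin (2 ^ m + 1)) : pt ε i ≠ 1 := D.ev.single_ne_one (by have := five D; omega) i

include D in
theorem pt_inj {i j : Fin (2 ^ m + 1)} (h : pt ε i = pt ε j) : i = j :=
  D.ev.single_inj (by have := five D; omega) h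

theorem z0 : zW D ≠ 0 := by
  intro e
  have h1 := congrArg EA.val e
  rw [val_zW, EA.val_zero] at h1
  exact pt_ne_one D 0 h1

include D in
/-- permutations of the points are induced by `C_L(z)` -/
theorem perm (σ : Equiv.Perm (Fin (2 ^ m))) : ∃ g : C, (g : G) ∈ L ∧
    ∀ i, (g : G) * pt ε i.succ * (g : G)⁻¹ = pt ε (σ i).succ := by
  obtain ⟨g, hg, hσ⟩ := D.ev.full (Equiv.Perm.decomposeFin.symm (0, σ))
  have h0 : g * pt ε 0 * g⁻¹ = pt ε 0 := by
    have h1 := hσ.single 0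
    rw [Equiv.Perm.decomposeFin_symm_apply_zero] at h1
    exact h1
  refine ⟨⟨g, D.L_le g hg h0⟩, hg, fun i => ?_⟩
  have h1 := hσ.single i.succ
  rw [Equiv.Perm.decomposeFin_symm_apply_succ, Equiv.swap_self] at h1
  exact h1

theorem aa_Om (i : Fin (2 ^ m)) : aa D i ∈ Om D := ⟨1, one_mem _, i, by rw [val_aa]; group⟩

theorem Om_inv (g : C) {w : Wm D} (hw : w ∈ Om D) : rp D g w ∈ Om D := by
  obtain ⟨c, hc, i, e⟩ := hw
  exact ⟨g * c, mul_mem g.2 hc, i, by rw [val_rp, e]; group⟩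

theorem Om_ne {w : Wm D} (hw : w ∈ Om D) : w ≠ 0 ∧ w ≠ zW D := by
  obtain ⟨c, hc, i, e⟩ := hw
  constructor
  · rintro rfl
    rw [EA.val_zero] at e
    exact pt_ne_one D _ (conj_eq_one_iff.1 e.symm)
  · rintro rfl
    rw [val_zW] at e
    have h1 : pt ε 0 = pt ε i.succ := by
      have h2 := mem_Cn'.1 (D.C_le (inv_mem hc))
      rw [e] at h2
      rw [e]
      calc c * pt ε i.succ * c⁻¹ = c⁻¹ * (c * pt ε i.succ * c⁻¹) * c⁻¹⁻¹ := h2.symm
        _ = pt ε i.succ := by group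
    exact Fin.succ_ne_zero i (pt_inj D h1).symm

include D in
theorem pt_mul_ne (i j k : Fin (2 ^ m + 1)) : pt ε i * pt ε j ≠ pt ε k := by
  intro e
  have h9 := five D
  have h1 : ε (Pi.single i 1 + Pi.single j 1 + Pi.single k 1) = 1 := by
    rw [D.ev.add, D.ev.add]
    change pt ε i * pt ε j * pt ε k = 1
    rw [e]
    exact D.ev.sq _
  obtain ⟨l, hl⟩ := exists_not_mem ({i, j, k} : Finset (Fin (2 ^ m + 1)))
    (lt_of_le_of_lt Finset.card_le_three (by omega))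
  simp only [Finset.mem_insert, Finset.mem_singleton, not_or] at hl
  rcases (D.ev.ker _).1 h1 with h3 | h3
  · have h4 := congrArg (fun x : Fin (2 ^ m + 1) → ZMod 2 => ∑ l, x l) h3
    simp only [Pi.add_apply, Finset.sum_add_distrib, Finset.sum_pi_single', Finset.mem_univ,
      if_true, Pi.zero_apply, Finset.sum_const_zero] at h4
    revert h4; decide
  · have h4 := congrFun h3 l
    simp only [Pi.add_apply, Pi.one_apply] at h4
    rw [Pi.single_eq_of_ne hl.1, Pi.single_eq_of_ne hl.2.1, Pi.single_eq_of_ne hl.2.2] at h4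
    exact absurd h4 (by decide)

theorem Om_nz {w : Wm D} (hw : w ∈ Om D) : w + zW D ∉ Om D := by
  rintro ⟨d, hd, j, e'⟩
  obtain ⟨c, hc, i, e⟩ := hw
  rw [EA.val_add, e, val_zW] at e'
  have h2 := mem_Cn'.1 (D.C_le hc)
  have h3 : (c⁻¹ * d) * pt ε j.succ * (c⁻¹ * d)⁻¹ = pt ε i.succ * pt ε 0 := by
    calc (c⁻¹ * d) * pt ε j.succ * (c⁻¹ * d)⁻¹ = c⁻¹ * (d * pt ε j.succ * d⁻¹) * c := by group
      _ = c⁻¹ * (c * pt ε i.succ * c⁻¹ * (c * pt ε 0 * c⁻¹)) * c := by rw [← e', h2]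
      _ = _ := by group
  obtain ⟨k, hk⟩ := D.fus (c⁻¹ * d) (mul_mem (inv_mem hc) hd) j.succ (Fin.succ_ne_zero _) (by
    rw [h3]
    exact mul_mem (D.ev.mem _) (D.ev.mem _))
  rw [h3] at hk
  exact pt_mul_ne D _ _ _ hk

theorem Om_trans {r s : Wm D} (hr : r ∈ Om D) (hs' : s ∈ Om D) : ∃ g, rp D g r = s := by
  obtain ⟨c, hc, i, e⟩ := hr
  obtain ⟨d, hd, j, e'⟩ := hs'
  obtain ⟨k, -, hk⟩ := perm D (Equiv.swap i j)
  have h1 := hk i
  rw [Equiv.swap_apply_left] at h1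
  refine ⟨⟨d, hd⟩ * k * ⟨c, hc⟩⁻¹, EA.ext ?_⟩
  rw [val_rp, e, e', ← h1]
  simp only [Subgroup.coe_mul, Subgroup.coe_inv]
  group

theorem span_Om : Submodule.span (ZMod 2) (Om D) = ⊤ := by
  have hinv : ∀ g : C, ∀ w ∈ Submodule.span (ZMod 2) (Om D),
      rp D g w ∈ Submodule.span (ZMod 2) (Om D) := by
    intro g w hw
    induction hw using Submodule.span_induction with
    | mem x hx => exact Submodule.subset_span (Om_inv D g hx)
    | zero => rw [map_zero]; exact Submodule.zero_mem _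
    | add x y _ _ hx hy => rw [map_add]; exact Submodule.add_mem _ hx hy
    | smul b x _ hx => rw [map_smul]; exact Submodule.smul_mem _ _ hx
  have h1 : Submodule.span (ZMod 2) (Set.range (aa D)) ≤ Submodule.span (ZMod 2) (Om D) := by
    refine Submodule.span_mono ?_
    rintro _ ⟨i, rfl⟩
    exact aa_Om D i
  have h2 : U ≤ EA.toSub (Submodule.span (ZMod 2) (Om D)) := by
    refine D.gen _ fun c hc v hv => ?_
    have h3 : EA.mk D.sq v (D.V_le hv) ∈ Submodule.span (ZMod 2) (Om D) := h1 ((mem_span D).2 hv)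
    exact ⟨_, hinv ⟨c, hc⟩ _ h3, rfl⟩
  rw [eq_top_iff]
  intro w _
  exact EA.val_mem_toSub.1 (h2 w.val_mem)

/-- `O₂ = 1` -/
theorem o2H (K : Subgroup C) (hK : K.Normal) (h2 : ∀ k ∈ K, ∃ m : ℕ, ∀ v, rp D (k ^ 2 ^ m) v = v) :
    ∀ k ∈ K, ∀ v, rp D k v = v := by
  have h1 : K.map C.subtype ≤ centralizer (U : Set G) := by
    refine D.o2 _ ?_ ?_ ?_
    · rintro _ ⟨k, -, rfl⟩
      exact k.2
    · intro c hc
      have key : ∀ c ∈ C, ∀ x ∈ K.map C.subtype, c * x * c⁻¹ ∈ K.map C.subtype := by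
        rintro c hc _ ⟨k, hk, rfl⟩
        exact ⟨⟨c, hc⟩ * k * ⟨c, hc⟩⁻¹, hK.conj_mem k hk _, rfl⟩
      rw [mem_normalizer_iff]
      intro x
      refine ⟨fun hx => key c hc x hx, fun hx => ?_⟩
      have h3 := key _ (inv_mem hc) _ hx
      have e : c⁻¹ * (c * x * c⁻¹) * c⁻¹⁻¹ = x := by group
      rwa [e] at h3
    · rintro _ ⟨k, hk, rfl⟩
      obtain ⟨n, hn⟩ := h2 k hk
      refine ⟨n, ?_⟩
      rw [mem_centralizer_iff]
      intro u hu
      have h3 := congrArg EA.val (hn (EA.mk D.sq u hu))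
      rw [val_rp, EA.val_mk] at h3
      exact (mul_inv_eq_iff_eq_mul.1 h3).symm
  intro k hk v
  apply EA.ext
  rw [val_rp]
  have h3 := mem_centralizer_iff.1 (h1 ⟨k, hk, rfl⟩) v.val v.val_mem
  exact mul_inv_eq_iff_eq_mul.2 h3.symm

theorem line {w : Wm D} (hw : w ∈ Om D) (hl : w ∈ Submodule.span (ZMod 2) (Set.range (aa D))) :
    ∃ i, w = aa D i := by
  have hne := Om_ne D hw
  obtain ⟨c, hc, i, e⟩ := hw
  rw [mem_span, e] at hl
  obtain ⟨j, hj⟩ := D.fus c hc i.succ (Fin.succ_ne_zero _) hl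
  rw [← e] at hj
  rcases Fin.eq_zero_or_eq_succ j with rfl | ⟨k, rfl⟩
  · exact absurd (EA.ext hj) hne.2
  · exact ⟨k, EA.ext hj⟩

theorem pre {t p : G} (ht : t ∈ C) (hp : ∃ c ∈ C, ∃ i : Fin (2 ^ m), p = c * pt ε i.succ * c⁻¹)
    (htu : ∀ u ∈ U, t * u * t⁻¹ = u ∨ t * u * t⁻¹ = u * p ∨ t * u * t⁻¹ = u * pt ε 0 ∨
      t * u * t⁻¹ = u * (p * pt ε 0))
    (hne : ∃ u ∈ U, t * u * t⁻¹ ≠ u) : Pre (rp D) (Om D) (zW D) (aa D) where
  z0 := z0 D
  fix := fix D
  inv := fun g _ hp => Om_inv D g hp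
  trans := fun _ hr _ hs' => Om_trans D hr hs'
  span := span_Om D
  ne := fun _ hp => Om_ne D hp
  nz := fun _ hp => Om_nz D hp
  o2 := o2H D
  mem := aa_Om D
  sum := zW_eq D
  ind := by
    rw [Fintype.linearIndependent_iff]
    intro x hx i
    rw [sum_aa, ev_eq_zero] at hx
    rcases hx with hx | hx
    · have h1 := congrFun hx i.succ
      rwa [Fin.cons_succ] at h1
    · have h1 := congrFun hx 0
      rw [Fin.cons_zero] at h1
      exact absurd h1 zero_ne_one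
  line := fun _ hp hl => line D hp hl
  perm := by
    intro σ
    obtain ⟨g, -, hg⟩ := perm D σ
    exact ⟨g, fun i => EA.ext (by rw [val_rp, val_aa, val_aa]; exact hg i)⟩
  card := by
    rw [Fintype.card_fin]
    have := five D
    omega
  ex := by
    obtain ⟨c, hc, i, e⟩ := hp
    have hpU : p ∈ U := by
      rw [e]
      exact D.nor c hc _ (D.V_le (D.ev.mem _))
    refine ⟨EA.mk D.sq p hpU, ⟨c, hc, i, e⟩, ⟨t, ht⟩, fun w => ?_, ?_⟩
    · rcases htu w.val w.val_mem with e1 | e1 | e1 | e1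
      · exact Or.inl (EA.ext e1)
      · exact Or.inr (Or.inl (EA.ext e1))
      · exact Or.inr (Or.inr (Or.inl (EA.ext e1)))
      · exact Or.inr (Or.inr (Or.inr (EA.ext e1)))
    · obtain ⟨u, hu, hne⟩ := hne
      exact ⟨EA.mk D.sq u hu, fun e1 => hne (congrArg EA.val e1)⟩

/-- LEMMA Q as a property of the module: `Q` is a 2-group with `U ≤ Q ≤ C_G(V)`. -/
theorem lq_of [Finite G] {Q : Subgroup G} (hQ : IsPGroup 2 Q) (hQC : Q ≤ C) (hUQ : U ≤ Q)
    (hQV : ∀ q ∈ Q, ∀ v ∈ V, q * v = v * q)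
    (hlq : ∀ u ∈ U, (∀ q ∈ Q, q * u * q⁻¹ = u ∨ q * u * q⁻¹ = pt ε 0 * u) → u ∈ V) :
    Lq (rp D) (zW D) (aa D) {g : C | (g : G) ∈ Q} := by
  have hzsq : pt ε 0 ^ 2 = 1 := by rw [pow_two]; exact D.ev.sq _
  constructor
  · intro g hg i
    apply EA.ext
    rw [val_rp, val_aa]
    exact mul_inv_eq_iff_eq_mul.2 (hQV _ hg _ (D.ev.mem _))
  · intro Y hY hz hex
    have : Fact (Nat.Prime 2) := ⟨Nat.prime_two⟩
    have hNU : EA.toSub Y ≤ U := by
      rintro _ ⟨y, -, rfl⟩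
      exact y.val_mem
    obtain ⟨n, hn, hnz, hc⟩ := GTwoFour.Tools.exists_fixed_mod (Y := Q) (N := EA.toSub Y)
      (M := zpowers (pt ε 0)) (p := 2) hQ (hNU.trans hUQ)
      (by
        rintro q hq _ ⟨y, hy, rfl⟩
        exact ⟨_, hY ⟨q, hQC hq⟩ hq y hy, rfl⟩)
      (by
        intro q hq x hx
        rw [mem_zpowers_iff_of_sq hzsq] at hx ⊢
        rcases hx with rfl | rfl
        · left; group
        · right; exact mem_Cn'.1 (D.C_le (hQC hq)))
      (by
        obtain ⟨y, hy, hy0, hyz⟩ := hex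
        refine ⟨y.val, EA.val_mem_toSub.2 hy, ?_⟩
        rw [mem_zpowers_iff_of_sq hzsq]
        rintro (e | e)
        · exact hy0 (EA.ext (by rw [e, EA.val_zero]))
        · exact hyz (EA.ext (by rw [e, val_zW])))
    have hnU := hNU hn
    obtain ⟨y, hy, rfl⟩ := hn
    have h1 : y.val ∈ V := by
      refine hlq _ hnU fun q hq => ?_
      have h2 := hc q hq
      rw [mem_zpowers_iff_of_sq hzsq, commutatorElement_def] at h2
      rcases h2 with h2 | h2
      · left; exact mul_inv_eq_one.1 h2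
      · right; exact mul_inv_eq_iff_eq_mul.1 h2
    refine ⟨y, hy, (mem_span D).2 h1, ?_, ?_⟩
    · rintro rfl
      apply hnz
      rw [EA.val_zero]
      exact one_mem _
    · rintro rfl
      apply hnz
      rw [val_zW]
      exact mem_zpowers _

/-! ### The pure part -/

/-- (5), (7), (8) of the pure part. -/
structure TRes {W : Type*} [AddCommGroup W] [Module (ZMod 2) W] {ι : Type*} (Om : Set W) (z : W) (a : ι → W)
    (f : W →ₗ[ZMod 2] W →ₗ[ZMod 2] ZMod 2) : Prop where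
  eq_a : ∀ p ∈ Om, (∀ i, f p (a i) = 0) → ∃ i, p = a i
  type : ∀ p ∈ Om, (∀ i, f p (a i) = 0) ∨
    ∃ i j, i ≠ j ∧ f p (a i) = 1 ∧ f p (a j) = 1 ∧ ∀ k, k ≠ i → k ≠ j → f p (a k) = 0
  span_ty : ∀ Y : Submodule (ZMod 2) W, z ∈ Y → (∀ p ∈ Om, (∃ i, f p (a i) = 1) → p ∈ Y) → Y = ⊤

section pure

variable {H : Type*} [Group H] {W : Type*} [AddCommGroup W] [Module (ZMod 2) W]
  {ι : Type*} [Fintype ι] {ρ : H →* (W ≃ₗ[ZMod 2] W)} {z : W} {Om : Set W} {a : ι → W}
  {c : ZMod 2} {f : W →ₗ[ZMod 2] W →ₗ[ZMod 2] ZMod 2} (h : Pre ρ Om z a) (F : Fm ρ Om z a c f)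

include h F

theorem TRes.of_six (hev : Even (Fintype.card ι)) (h6 : 6 ≤ Fintype.card ι) {T : Set H} (hT : Lq ρ z a T) :
    TRes Om z a f where
  eq_a := fun _ hp h0 => F.eq_a h hev h6 hT hp h0
  type := fun _ hp => F.type h hev h6 hT hp
  span_ty := fun _ hz hY => F.span_ty h hev h6 hT hz hY

/-- **(2)** -/
theorem TRes.eq_of_nor (R : TRes Om z a f) {p : W} (hp : p ∈ Om)
    (hn : ∀ i, a i + f p (a i) • (p + c • z) ∈ Submodule.span (ZMod 2) (Set.range a)) : ∃ i, p = a i := by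
  refine R.eq_a p hp fun i => ?_
  refine TV.z2_ne_one fun e => ?_
  have hz : z ∈ Submodule.span (ZMod 2) (Set.range a) := by
    rw [← h.sum]
    exact Submodule.sum_mem _ fun k _ => Submodule.subset_span (Set.mem_range_self k)
  have hi : a i ∈ Submodule.span (ZMod 2) (Set.range a) := Submodule.subset_span (Set.mem_range_self i)
  have h1 := hn i
  rw [e, one_smul] at h1
  have h2 : a i + (p + c • z) + a i + c • z ∈ Submodule.span (ZMod 2) (Set.range a) :=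
    Submodule.add_mem _ (Submodule.add_mem _ h1 hi) (Submodule.smul_mem _ _ hz)
  have h3 : a i + (p + c • z) + a i + c • z = p := by
    calc a i + (p + c • z) + a i + c • z = p + (a i + a i) + (c • z + c • z) := by abel
      _ = p := by rw [TV.v_add_self, TV.v_add_self, add_zero, add_zero]
  rw [h3] at h2
  obtain ⟨k, rfl⟩ := h.line p hp h2
  rw [F.orth] at e
  exact zero_ne_one e

end pure

/-! ### The transvections -/

variable {c : ZMod 2} {f : Wm D →ₗ[ZMod 2] Wm D →ₗ[ZMod 2] ZMod 2}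

/-- `t` acts on `U` as the transvection for `p`. -/
def Tr (c : ZMod 2) (f : Wm D →ₗ[ZMod 2] Wm D →ₗ[ZMod 2] ZMod 2) (t p : G) : Prop :=
  ∃ (ht : t ∈ C) (w : Wm D), w ∈ Om D ∧ w.val = p ∧
    ∀ x, rp D ⟨t, ht⟩ x = x + f w x • (w + c • zW D)

variable (F : Fm (rp D) (Om D) (zW D) (aa D) c f)

theorem Tr.mem {t p : G} (T : Tr D c f t p) : t ∈ C := T.choose

include F

theorem Tr.conj {t p d : G} (T : Tr D c f t p) (hd : d ∈ C) : Tr D c f (d * t * d⁻¹) (d * p * d⁻¹) := by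
  obtain ⟨ht, w, hw, rfl, h1⟩ := T
  refine ⟨mul_mem (mul_mem hd ht) (inv_mem hd), rp D ⟨d, hd⟩ w, Om_inv D _ hw, rfl, fun x => ?_⟩
  have e : (⟨d * t * d⁻¹, mul_mem (mul_mem hd ht) (inv_mem hd)⟩ : C) = ⟨d, hd⟩ * ⟨t, ht⟩ * ⟨d, hd⟩⁻¹ := rfl
  have e1 : f (rp D ⟨d, hd⟩ w) x = f w (rp D ⟨d, hd⟩⁻¹ x) := F.inv' _ _ _
  rw [e, TV.rmul, TV.rmul, h1, map_add, map_smul, TV.rinv', map_add, map_smul, fix, e1]

theorem Tr.mulC {t p d : G} (T : Tr D c f t p) (hd : d ∈ C) (hd' : d ∈ centralizer (U : Set G)) :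
    Tr D c f (t * d) p := by
  obtain ⟨ht, w, hw, rfl, h1⟩ := T
  refine ⟨mul_mem ht hd, w, hw, rfl, fun x => ?_⟩
  have e : (⟨t * d, mul_mem ht hd⟩ : C) = ⟨t, ht⟩ * ⟨d, hd⟩ := rfl
  have e1 : rp D ⟨d, hd⟩ x = x := EA.ext (by
    rw [val_rp]
    exact mul_inv_eq_iff_eq_mul.2 (mem_centralizer_iff.1 hd' x.val x.val_mem).symm)
  rw [e, TV.rmul, e1, h1]

theorem Tr.sq {t p : G} (T : Tr D c f t p) : t * t ∈ centralizer (U : Set G) := by
  obtain ⟨ht, w, hw, rfl, h1⟩ := T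
  rw [mem_centralizer_iff]
  intro u hu
  have h2 : rp D (⟨t, ht⟩ * ⟨t, ht⟩) (EA.mk D.sq u hu) = EA.mk D.sq u hu := by
    rw [TV.rmul, h1, h1]
    simp only [map_add, map_smul, F.alt, F.zr, smul_zero, add_zero]
    rw [add_assoc, TV.v_add_self, add_zero]
  have h3 := congrArg EA.val h2
  rw [val_rp] at h3
  exact (mul_inv_eq_iff_eq_mul.1 h3).symm

theorem Tr.exists_of {w : Wm D} (hw : w ∈ Om D) : ∃ t, Tr D c f t w.val := by
  obtain ⟨g, hg⟩ := F.tr w hw
  exact ⟨g, g.2, w, hw, rfl, hg⟩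

/-- a transvection with centre `z_i` centralises `V` -/
theorem Tr.cent {t : G} {i : Fin (2 ^ m + 1)} (T : Tr D c f t (pt ε i)) : t ∈ centralizer (V : Set G) := by
  obtain ⟨ht, w, hw, hwi, h1⟩ := T
  have hi : i ≠ 0 := by
    rintro rfl
    exact (Om_ne D hw).2 (EA.ext hwi)
  obtain ⟨j, rfl⟩ := Fin.exists_succ_eq.2 hi
  have e : w = aa D j := EA.ext hwi
  rw [mem_centralizer_iff]
  intro v hv
  have h2 : EA.mk D.sq v (D.V_le hv) ∈ Submodule.span (ZMod 2) (Set.range (aa D)) := (mem_span D).2 hv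
  have h3 : ∀ x ∈ Submodule.span (ZMod 2) (Set.range (aa D)), f w x = 0 := by
    intro x hx
    induction hx using Submodule.span_induction with
    | mem x hx =>
      obtain ⟨k, rfl⟩ := hx
      rw [e, F.orth]
    | zero => rw [map_zero]
    | add x y _ _ hx hy => rw [map_add, hx, hy, add_zero]
    | smul b x _ hx => rw [map_smul, hx, smul_zero]
  have h4 := h1 (EA.mk D.sq v (D.V_le hv))
  rw [h3 _ h2, zero_smul, add_zero] at h4
  exact (mul_inv_eq_iff_eq_mul.1 (congrArg EA.val h4)).symm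

variable (Hp : Pre (rp D) (Om D) (zW D) (aa D)) (R : TRes (Om D) (zW D) (aa D) f)

include Hp R

theorem Tr.nor {t p : G} (T : Tr D c f t p) (hn : t ∈ normalizer (V : Set G)) :
    ∃ i, i ≠ 0 ∧ p = pt ε i := by
  obtain ⟨ht, w, hw, rfl, h1⟩ := T
  obtain ⟨i, hi⟩ := R.eq_of_nor Hp F hw (fun i => by
    rw [← h1, mem_span, val_rp, val_aa]
    exact (mem_normalizer_iff.1 hn _).1 (D.ev.mem _))
  exact ⟨i.succ, Fin.succ_ne_zero i, by rw [hi, val_aa]⟩

omit F Hp R in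
/-- `D_ij = C_V((i j))` -/
def Dd (ε : (Fin (2 ^ m + 1) → ZMod 2) → G) (i j : Fin (2 ^ m + 1)) : Set G := {v | ∃ x, x i = x j ∧ v = ε x}

theorem Tr.adj {t p : G} (T : Tr D c f t p) : (∃ i, i ≠ 0 ∧ p = pt ε i) ∨
    ∃ i j, i ≠ 0 ∧ j ≠ 0 ∧ i ≠ j ∧ t ∈ centralizer (Dd ε i j) := by
  obtain ⟨ht, w, hw, rfl, h1⟩ := T
  have key : ∀ x, f w (ev D x) = ∑ i : Fin (2 ^ m), (x i.succ + x 0) * f w (aa D i) := by
    intro x
    rw [ev_eq, map_sum]
    exact Finset.sum_congr rfl fun i _ => by rw [map_smul, smul_eq_mul]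
  have h2 : ∀ x, f w (ev D x) = 0 → t * ε x * t⁻¹ = ε x := by
    intro x e
    have h3 := h1 (ev D x)
    rw [e, zero_smul, add_zero] at h3
    exact congrArg EA.val h3
  rcases R.type w hw with h0 | ⟨i, j, hij, hi, hj, h0⟩
  · left
    obtain ⟨i, hi⟩ := R.eq_a w hw h0
    exact ⟨i.succ, Fin.succ_ne_zero i, by rw [hi, val_aa]⟩
  · right
    refine ⟨i.succ, j.succ, Fin.succ_ne_zero _, Fin.succ_ne_zero _, fun e => hij (Fin.succ_injective _ e), ?_⟩
    rw [mem_centralizer_iff]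
    rintro _ ⟨x, hx, rfl⟩
    refine (mul_inv_eq_iff_eq_mul.1 (h2 x ?_)).symm
    rw [key, ← Finset.add_sum_erase _ _ (Finset.mem_univ i),
      ← Finset.add_sum_erase _ _ (Finset.mem_erase.2 ⟨hij.symm, Finset.mem_univ j⟩), Finset.sum_eq_zero, add_zero,
      hi, hj, hx, mul_one]
    · exact CharTwo.add_self_eq_zero _
    · intro k hk
      rw [Finset.mem_erase, Finset.mem_erase] at hk
      rw [h0 k hk.2.1 hk.1, mul_zero]

/-- `U` is generated by the conjugates of `V` under the `C_C(D_ij)`. -/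
theorem span {A : Subgroup G} (hA : ∀ i j, i ≠ 0 → j ≠ 0 → i ≠ j → ∀ t ∈ C, t ∈ centralizer (Dd ε i j) →
    ∀ v ∈ V, t * v * t⁻¹ ∈ A) : U ≤ A := by
  have h0 : ∀ v ∈ V, v ∈ A := by
    intro v hv
    have h1 : 1 < Fintype.card (Fin (2 ^ m)) := by have := Hp.card; omega
    obtain ⟨i, j, hij⟩ := Fintype.one_lt_card_iff.1 h1
    have h2 := hA i.succ j.succ (Fin.succ_ne_zero _) (Fin.succ_ne_zero _) (fun e => hij (Fin.succ_injective _ e)) 1
      (one_mem _) (one_mem _) v hv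
    simpa using h2
  let Y : Submodule (ZMod 2) (Wm D) :=
    { carrier := {w | w.val ∈ A}
      add_mem' := by
        intro a b ha hb
        change (a + b).val ∈ A
        rw [EA.val_add]
        exact mul_mem ha hb
      zero_mem' := by
        change (0 : Wm D).val ∈ A
        rw [EA.val_zero]
        exact one_mem A
      smul_mem' := by
        intro b w hw
        rcases TV.z2 b with e | e
        · rw [e, zero_smul]
          change (0 : Wm D).val ∈ A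
          rw [EA.val_zero]
          exact one_mem A
        · rw [e, one_smul]
          exact hw }
  have hY : Y = ⊤ := by
    refine R.span_ty Y (h0 _ (D.ev.mem _)) ?_
    rintro w hw ⟨i, hi⟩
    change w.val ∈ A
    obtain ⟨t, ht⟩ := Tr.exists_of D F hw
    have hex : ∃ j, ∃ k, j ≠ 0 ∧ k ≠ 0 ∧ j ≠ k ∧ t ∈ centralizer (Dd ε j k) := by
      rcases Tr.adj D F Hp R ht with ⟨j, hj, e⟩ | h1
      · exfalso
        obtain ⟨j', rfl⟩ := Fin.exists_succ_eq.2 hj
        have e1 : w = aa D j' := EA.ext e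
        rw [e1, F.orth] at hi
        exact zero_ne_one hi
      · exact h1
    obtain ⟨j, k, hj, hk, hjk, htD⟩ := hex
    obtain ⟨htC, w', -, e, h1⟩ := ht
    have e' : w' = w := EA.ext e
    subst e'
    have h2 := h1 (aa D i)
    rw [hi, one_smul] at h2
    have h3 := congrArg EA.val h2
    rw [val_rp, val_aa, EA.val_add, EA.val_add, val_aa] at h3
    have h4 := hA j k hj hk hjk t htC htD (pt ε i.succ) (D.ev.mem _)
    change t * pt ε i.succ * t⁻¹ = _ at h3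
    rw [h3] at h4
    have h5 : (c • zW D : Wm D).val ∈ A := by
      rcases TV.z2 c with e | e
      · rw [e, zero_smul, EA.val_zero]; exact one_mem A
      · rw [e, one_smul, val_zW]; exact h0 _ (D.ev.mem _)
    have h6 := (A.mul_mem_cancel_left (h0 _ (D.ev.mem _))).1 h4
    exact (A.mul_mem_cancel_right h5).1 h6
  intro x hx
  have h1 : EA.mk D.sq x hx ∈ Y := by rw [hY]; trivial
  exact h1

end Cfsg.Agent.Omega.NO3S.SN.HT.GrpM
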