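import Cfsg.Agent.Omega.NO3S.SN.HT.TypesN

/-!
# THEOREM SN, THEOREM HT'' (helper581, bb #21563, #21861): (10'') the letters, pure form

In the situation `SitN Om f z` (one Near class) the span of `Om` is the module of the even subsets of the `2 |ι|`
letters `ι × Bool`, `Om` is the set of ALL pairs, `z i` is the pair `{(i, false), (i, true)}`:

* `SitN.exists_pts` : points `p i` (`i ≠ o`) of type `{o, i}` which are pairwise adjacent;
* `Lett Om f z E` : `E : (ι × Bool → 𝔽₂) → W` linear, `f (E x) (E y) = ∑ x y` for even `x`, `y`, injective on the even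
  functions, `E (pair (i, false) (i, true)) = z i`, `Om = {E (pair a b) | a ≠ b}`;
* `SitN.exists_lett` **(10'')**;
* `Lett.mem_span`, `Lett.swap`, `Lett.ext`, `Lett.qtwo` **(Q2)**.
-/

set_option autoImplicit false
set_option linter.unusedSectionVars false
set_option linter.unusedSimpArgs false

namespace Cfsg.Agent.Omega.NO3S.SN.HT.Letters

open Module
open Cfsg.Agent.Omega.NO3S.SN.HT.TypesN

variable {W : Type*} [AddCommGroup W] [Module (ZMod 2) W] {ι : Type*} [Fintype ι] [DecidableEq ι]

/-- The pair `{a, b}`. -/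
def pr {α : Type*} [DecidableEq α] (a b : α) : α → ZMod 2 := Pi.single a 1 + Pi.single b 1

theorem pr_apply {α : Type*} [DecidableEq α] (a b c : α) :
    pr a b c = (if c = a then 1 else 0) + (if c = b then 1 else 0) := by
  simp only [pr, Pi.add_apply, Pi.single_apply]

theorem pr_comm {α : Type*} [DecidableEq α] (a b : α) : pr a b = pr b a := add_comm _ _

theorem pr_self {α : Type*} [DecidableEq α] (a : α) : pr a a = 0 := by
  funext c
  rw [pr_apply]
  exact CharTwo.add_self_eq_zero _

theorem pr_add {α : Type*} [DecidableEq α] (a b c : α) : pr a b + pr b c = pr a c := by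
  funext d
  simp only [Pi.add_apply, pr_apply]
  have : ((if d = b then 1 else 0) + (if d = b then 1 else 0) : ZMod 2) = 0 := CharTwo.add_self_eq_zero _
  linear_combination this

theorem sum_pr {α : Type*} [DecidableEq α] [Fintype α] (a b : α) : ∑ c, pr a b c = 0 := by
  simp only [pr_apply, Finset.sum_add_distrib, Finset.sum_ite_eq', Finset.mem_univ, if_true]
  decide

theorem sum_pr_mul {α : Type*} [DecidableEq α] [Fintype α] (a b : α) (x : α → ZMod 2) :
    ∑ c, pr a b c * x c = x a + x b := by
  simp only [pr_apply, add_mul, Finset.sum_add_distrib, ite_mul, one_mul, zero_mul, Finset.sum_ite_eq',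
    Finset.mem_univ, if_true]

/-- An even function is a combination of pairs containing `a`. -/
theorem even_eq {α : Type*} [DecidableEq α] [Fintype α] (a : α) {x : α → ZMod 2} (hx : ∑ c, x c = 0) :
    x = ∑ c, x c • pr a c := by
  funext d
  simp only [Finset.sum_apply, Pi.smul_apply, smul_eq_mul, pr_apply, mul_add, Finset.sum_add_distrib]
  have h1 : ∑ c, x c * (if d = a then 1 else 0 : ZMod 2) = 0 := by rw [← Finset.sum_mul, hx, zero_mul]
  rw [h1, zero_add]
  simp only [mul_ite, mul_one, mul_zero, Finset.sum_ite_eq, Finset.mem_univ, if_true]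

/-- The numbering of the span of the points. -/
structure Lett (Om : Set W) (f : W →ₗ[ZMod 2] W →ₗ[ZMod 2] ZMod 2) (z : ι → W)
    (E : (ι × Bool → ZMod 2) →ₗ[ZMod 2] W) : Prop where
  form : ∀ x y, ∑ a, x a = 0 → ∑ a, y a = 0 → f (E x) (E y) = ∑ a, x a * y a
  inj : ∀ x, ∑ a, x a = 0 → E x = 0 → x = 0
  zz : ∀ i, E (pr (i, false) (i, true)) = z i
  one : E (fun _ => 1) = ∑ i, z i
  mem_iff : ∀ p, p ∈ Om ↔ ∃ a b, a ≠ b ∧ p = E (pr a b)

section pts

variable {Om : Set W} {f : W →ₗ[ZMod 2] W →ₗ[ZMod 2] ZMod 2} {z : ι → W} (h : SitN Om f z)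
include h

/-- Pairwise adjacent points of the types `{o, i}`. -/
theorem exists_pts (o : ι) : ∃ p : ι → W, p o = 0 ∧
    (∀ i, i ≠ o → p i ∈ Om ∧ f (p i) (z o) = 1 ∧ f (p i) (z i) = 1) ∧
    (∀ i j, i ≠ o → j ≠ o → i ≠ j → f (p i) (p j) = 1) := by
  obtain ⟨i1, hi1, -, -⟩ := h.fresh o o o
  obtain ⟨q, hq, hqo, hq1⟩ := h.all o i1 hi1.symm
  have hex : ∀ i, ∃ p : W, i ≠ o → p ∈ Om ∧ f p (z o) = 1 ∧ f p (z i) = 1 ∧ (i = i1 → p = q) ∧
      (i ≠ i1 → f q p = 1) := by
    intro i
    by_cases hi : i = i1
    · exact ⟨q, fun _ => ⟨hq, hqo, by rw [hi]; exact hq1, fun _ => rfl, fun h1 => absurd hi h1⟩⟩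
    by_cases hio : i = o
    · exact ⟨0, fun h1 => absurd hio h1⟩
    obtain ⟨p', hp', h1, h2⟩ := h.all o i (Ne.symm hio)
    rcases z2 (f q p') with c | c
    · refine ⟨p' + z o, fun _ => ⟨h.add_z hp' h1, ?_, ?_, fun h3 => absurd h3 hi, fun _ => ?_⟩⟩
      · rw [map_add, LinearMap.add_apply, h1, h.ort, add_zero]
      · rw [map_add, LinearMap.add_apply, h2, h.ort, add_zero]
      · rw [map_add, c, hqo, zero_add]
    · exact ⟨p', fun _ => ⟨hp', h1, h2, fun h3 => absurd h3 hi, fun _ => c⟩⟩
  choose p hp using hex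
  refine ⟨fun i => if i = o then 0 else p i, if_pos rfl, fun i hi => ?_, fun i j hi hj hij => ?_⟩
  · simp only [if_neg hi]
    exact ⟨(hp i hi).1, (hp i hi).2.1, (hp i hi).2.2.1⟩
  · simp only [if_neg hi, if_neg hj]
    obtain ⟨a1, a2, a3, a4, a5⟩ := hp i hi
    obtain ⟨b1, b2, b3, b4, b5⟩ := hp j hj
    by_cases hi' : i = i1
    · have hj' : j ≠ i1 := fun e => hij (hi'.trans e.symm)
      rw [a4 hi']
      exact b5 hj'
    by_cases hj' : j = i1
    · rw [b4 hj', h.comm]
      exact a5 hi'
    · have e1 := a5 hi'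
      have e2 := b5 hj'
      have h1 : p i + q ∈ Om := h.refl q hq _ a1 e1
      have e3 := h.disj h1 b1 (i := i) (j := i1) (k := o) (l := j) hi' hj.symm
        (by rw [map_add, LinearMap.add_apply, a3, h.two hq hi1.symm hi.symm (Ne.symm hi') hqo hq1, add_zero])
        (by rw [map_add, LinearMap.add_apply, hq1, h.two a1 hi.symm hi1.symm hi' a2 a3, zero_add])
        b2 b3 hi hij hi1 (Ne.symm hj')
      rw [map_add, LinearMap.add_apply, e2] at e3
      rcases z2 (f (p i) (p j)) with c | c
      · rw [c, zero_add] at e3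
        exact absurd e3 one_ne_zero
      · exact c

end pts

/-- The vector of the pair `{(o, false), a}`. -/
def vec (z p : ι → W) (a : ι × Bool) : W := p a.1 + (if a.2 then z a.1 else 0)

/-- The numbering. -/
def EE (z p : ι → W) : (ι × Bool → ZMod 2) →ₗ[ZMod 2] W where
  toFun x := ∑ a, x a • vec z p a
  map_add' x y := by
    simp only [Pi.add_apply, add_smul, Finset.sum_add_distrib]
  map_smul' c x := by
    simp only [Pi.smul_apply, smul_eq_mul, mul_smul, RingHom.id_apply, Finset.smul_sum]

theorem EE_apply (z p : ι → W) (x : ι × Bool → ZMod 2) : EE z p x = ∑ a, x a • vec z p a := rfl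

theorem EE_pr (z p : ι → W) (a b : ι × Bool) : EE z p (pr a b) = vec z p a + vec z p b := by
  rw [EE_apply]
  simp only [pr_apply, add_smul, Finset.sum_add_distrib, ite_smul, one_smul, zero_smul, Finset.sum_ite_eq',
    Finset.mem_univ, if_true]

section lett

variable {Om : Set W} {f : W →ₗ[ZMod 2] W →ₗ[ZMod 2] ZMod 2} {z : ι → W} (h : SitN Om f z)
  {o : ι} {p : ι → W} (p0 : p o = 0)
  (p1 : ∀ i, i ≠ o → p i ∈ Om ∧ f (p i) (z o) = 1 ∧ f (p i) (z i) = 1)
  (p2 : ∀ i j, i ≠ o → j ≠ o → i ≠ j → f (p i) (p j) = 1)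
include h p0 p1 p2

/-- `f (p i) (z j)` -/
theorem f_pz (i j : ι) : f (p i) (z j) = if i = o then 0 else if j = o ∨ j = i then 1 else 0 := by
  by_cases hi : i = o
  · rw [if_pos hi, hi, p0, map_zero, LinearMap.zero_apply]
  obtain ⟨a1, a2, a3⟩ := p1 i hi
  rw [if_neg hi]
  by_cases hj : j = o ∨ j = i
  · rw [if_pos hj]
    rcases hj with rfl | rfl
    · exact a2
    · exact a3
  · rw [if_neg hj]
    push Not at hj
    exact h.two a1 (Ne.symm hi) hj.1.symm (Ne.symm hj.2) a2 a3

/-- `f (p i) (p j)` -/
theorem f_pp (i j : ι) : f (p i) (p j) = if i = o ∨ j = o ∨ i = j then 0 else 1 := by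
  by_cases hi : i = o
  · rw [if_pos (Or.inl hi), hi, p0, map_zero, LinearMap.zero_apply]
  by_cases hj : j = o
  · rw [if_pos (Or.inr (Or.inl hj)), hj, p0, map_zero]
  by_cases hij : i = j
  · rw [if_pos (Or.inr (Or.inr hij)), hij, h.alt]
  · rw [if_neg (by push Not; exact ⟨hi, hj, hij⟩)]
    exact p2 i j hi hj hij

/-- `f (vec a) (vec b)` -/
theorem f_vec (a b : ι × Bool) : f (vec z p a) (vec z p b) =
    1 + (if a = (o, false) then 1 else 0) + (if b = (o, false) then 1 else 0) + (if a = b then 1 else 0) := by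
  obtain ⟨i, s⟩ := a
  obtain ⟨j, t⟩ := b
  have e1 := f_pz h p0 p1 p2 i j
  have e2 := f_pz h p0 p1 p2 j i
  have e3 := f_pp h p0 p1 p2 i j
  have e4 : f (z i) (p j) = f (p j) (z i) := h.comm _ _
  have e5 := h.ort i j
  have h11 : (1 + 1 : ZMod 2) = 0 := by decide
  clear h p0 p1 p2
  have hs : f (vec z p (i, s)) (vec z p (j, t)) = f (p i) (p j) + (if t then f (p i) (z j) else 0) +
      (if s then f (p j) (z i) else 0) := by
    cases s <;> cases t <;> simp only [vec, if_true, Bool.false_eq_true, if_false, add_zero, map_add,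
      LinearMap.add_apply, e4, e5]
    ring
  rw [hs, e1, e2, e3]
  clear hs e1 e2 e3 e4 e5
  by_cases hi : i = o
  · by_cases hj : j = o
    · subst hi hj
      cases s <;> cases t <;> simp [h11]
    · have hij : ¬ i = j := fun e => hj (e.symm.trans hi)
      subst hi
      cases s <;> cases t <;> simp [h11, hj, hij]
  · by_cases hj : j = o
    · subst hj
      cases s <;> cases t <;> simp [h11, hi, Ne.symm hi]
    · by_cases hij : i = j
      · subst hij
        cases s <;> cases t <;> simp [h11, hi]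
      · cases s <;> cases t <;> simp [h11, hi, hj, hij, Ne.symm hij]

/-- The points `p i + p j`. -/
theorem pp_mem {i j : ι} (hij : i ≠ j) : p i + p j ∈ Om ∧ f (p i + p j) (z i) = 1 ∧ f (p i + p j) (z j) = 1 := by
  have e1 := f_pz h p0 p1 p2 i i
  have e2 := f_pz h p0 p1 p2 i j
  have e3 := f_pz h p0 p1 p2 j i
  have e4 := f_pz h p0 p1 p2 j j
  have hji := hij.symm
  rw [map_add, LinearMap.add_apply, LinearMap.add_apply, e1, e2, e3, e4]
  by_cases hi : i = o
  · have hj : j ≠ o := fun e => hij (hi.trans e.symm)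
    rw [if_pos hi, if_pos hi, if_neg hj, if_neg hj, if_pos (Or.inl hi), if_pos (Or.inr rfl), hi, p0, zero_add,
      zero_add]
    exact ⟨(p1 j hj).1, rfl, rfl⟩
  by_cases hj : j = o
  · rw [if_pos hj, if_pos hj, if_neg hi, if_neg hi, if_pos (Or.inr rfl), if_pos (Or.inl hj), hj, p0, add_zero,
      add_zero]
    exact ⟨(p1 i hi).1, rfl, rfl⟩
  · rw [if_neg hi, if_neg hi, if_neg hj, if_neg hj, if_pos (Or.inr rfl), if_pos (Or.inr rfl),
      if_neg (by push Not; exact ⟨hi, hij⟩), if_neg (by push Not; exact ⟨hj, hji⟩)]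
    exact ⟨h.refl _ (p1 j hj).1 _ (p1 i hi).1 (p2 j i hj hi hij.symm), by decide, by decide⟩

/-- All pairs are points. -/
theorem pr_mem {a b : ι × Bool} (hab : a ≠ b) : EE z p (pr a b) ∈ Om := by
  obtain ⟨i, s⟩ := a
  obtain ⟨j, t⟩ := b
  rw [EE_pr]
  by_cases hij : i = j
  · subst hij
    have hst : s ≠ t := fun e => hab (by rw [e])
    have e : vec z p (i, s) + vec z p (i, t) = z i := by
      have h6 := add_self (p i)
      cases s <;> cases t <;> simp only [vec, if_true, Bool.false_eq_true, if_false, add_zero] <;> first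
        | exact absurd rfl hst
        | (calc p i + (p i + z i) = (p i + p i) + z i := by abel
            _ = z i := by rw [h6, zero_add])
        | (calc p i + z i + p i = (p i + p i) + z i := by abel
            _ = z i := by rw [h6, zero_add])
    rw [e]
    exact h.mem i
  · obtain ⟨h1, h2, h3⟩ := pp_mem h p0 p1 p2 hij
    cases s <;> cases t <;> simp only [vec, if_true, Bool.false_eq_true, if_false, add_zero]
    · exact h1
    · rw [← add_assoc]
      exact h.add_z h1 h3
    · rw [add_right_comm]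
      exact h.add_z h1 h2
    · have e : p i + z i + (p j + z j) = p i + p j + z i + z j := by abel
      rw [e]
      exact h.add_zz h1 h2 h3

/-- All points are pairs. -/
theorem mem_pr {q : W} (hq : q ∈ Om) : ∃ a b : ι × Bool, a ≠ b ∧ q = EE z p (pr a b) := by
  rcases h.type hq with h0 | ⟨i, j, hij, h1, h2, -⟩
  · obtain ⟨i, rfl⟩ := h.eq_z hq h0
    refine ⟨(i, false), (i, true), by simp, ?_⟩
    rw [EE_pr]
    simp only [vec, if_true, Bool.false_eq_true, if_false, add_zero]
    rw [← add_assoc, add_self, zero_add]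
  · obtain ⟨g1, g2, g3⟩ := pp_mem h p0 p1 p2 hij
    have h4 := h.add_mem' hq g1 hij h1 h2 g2 g3
    rw [Submodule.mem_span_pair] at h4
    obtain ⟨c, d, hcd⟩ := h4
    have h5 : q = p i + p j + (c • z i + d • z j) := by
      rw [hcd]
      have h6 := add_self (p i + p j)
      calc q = q + (p i + p j + (p i + p j)) := by rw [h6, add_zero]
        _ = _ := by abel
    refine ⟨(i, decide (c = 1)), (j, decide (d = 1)), fun e => hij (congrArg Prod.fst e), ?_⟩
    rw [EE_pr, h5]
    rcases z2 c with rfl | rfl <;> rcases z2 d with rfl | rfl <;>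
      simp only [vec, zero_smul, one_smul, add_zero, zero_add, decide_true, if_true, zero_ne_one, decide_false,
        Bool.false_eq_true, if_false] <;> abel

/-- **(10'')** -/
theorem lett_EE : Lett Om f z (EE z p) := by
  have hform : ∀ x y : ι × Bool → ZMod 2, ∑ a, x a = 0 → ∑ a, y a = 0 →
      f (EE z p x) (EE z p y) = ∑ a, x a * y a := by
    intro x y hx hy
    have e1 : f (EE z p x) (EE z p y) = ∑ a, ∑ b, x a * (y b * f (vec z p a) (vec z p b)) := by
      have e0 : f (EE z p x) = ∑ a, x a • f (vec z p a) := by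
        rw [EE_apply, map_sum]
        exact Finset.sum_congr rfl fun a _ => map_smul _ _ _
      rw [e0, LinearMap.sum_apply]
      refine Finset.sum_congr rfl fun a _ => ?_
      rw [LinearMap.smul_apply, EE_apply, map_sum, smul_eq_mul, Finset.mul_sum]
      refine Finset.sum_congr rfl fun b _ => ?_
      rw [map_smul, smul_eq_mul]
    rw [e1]
    have e2 : ∀ a b, x a * (y b * f (vec z p a) (vec z p b)) =
        x a * y b + x a * (if a = (o, false) then 1 else 0) * y b +
          x a * (y b * (if b = (o, false) then 1 else 0)) + x a * y b * (if a = b then 1 else 0) := by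
      intro a b
      rw [f_vec h p0 p1 p2]
      ring
    simp only [e2, Finset.sum_add_distrib, ← Finset.mul_sum, hy, mul_zero, Finset.sum_const_zero, zero_add,
      add_zero]
    have e3 : ∑ a, x a * ∑ b, y b * (if b = (o, false) then 1 else 0 : ZMod 2) = 0 := by
      rw [← Finset.sum_mul, hx, zero_mul]
    rw [e3, zero_add]
    refine Finset.sum_congr rfl fun a _ => ?_
    simp only [mul_ite, mul_one, mul_zero, Finset.sum_ite_eq, Finset.mem_univ, if_true]
  have hone : EE z p (fun _ => 1) = ∑ i, z i := by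
    rw [EE_apply, Fintype.sum_prod_type]
    refine Finset.sum_congr rfl fun i _ => ?_
    simp only [Fintype.sum_bool, one_smul, vec, if_true, Bool.false_eq_true, if_false, add_zero]
    rw [add_right_comm, add_self, zero_add]
  refine ⟨hform, fun x hx hE => ?_, fun i => ?_, hone, fun q => ⟨fun hq => mem_pr h p0 p1 p2 hq, ?_⟩⟩
  · have hc : ∀ a b, x a = x b := by
      intro a b
      have e1 := hform (pr a b) x (sum_pr a b) hx
      rw [hE, map_zero, sum_pr_mul] at e1
      have h1 := CharTwo.add_self_eq_zero (x b)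
      calc x a = x a + x b + x b := by rw [add_assoc, h1, add_zero]
        _ = x b := by rw [← e1, zero_add]
    by_contra hx0
    have h1 : x = fun _ => 1 := by
      obtain ⟨a, ha⟩ : ∃ a, x a ≠ 0 := by
        by_contra hcon
        push Not at hcon
        exact hx0 (funext hcon)
      funext b
      rw [hc b a]
      exact ne_zero ha
    rw [h1, hone] at hE
    have h2 := Fintype.linearIndependent_iff.1 h.ind (fun _ => 1) (by simpa using hE) o
    exact one_ne_zero h2
  · rw [EE_pr]
    simp only [vec, if_true, Bool.false_eq_true, if_false, add_zero]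
    rw [← add_assoc, add_self, zero_add]
  · rintro ⟨a, b, hab, rfl⟩
    exact pr_mem h p0 p1 p2 hab

end lett

/-- **(10'')** -/
theorem exists_lett {Om : Set W} {f : W →ₗ[ZMod 2] W →ₗ[ZMod 2] ZMod 2} {z : ι → W} (h : SitN Om f z) :
    ∃ E : (ι × Bool → ZMod 2) →ₗ[ZMod 2] W, Lett Om f z E := by
  have i0 : ι := (Fintype.card_pos_iff.1 (by have := h.four; omega)).some
  obtain ⟨p, p0, p1, p2⟩ := exists_pts h i0
  exact ⟨_, lett_EE h p0 p1 p2⟩

namespace Lett

variable {Om : Set W} {f : W →ₗ[ZMod 2] W →ₗ[ZMod 2] ZMod 2} {z : ι → W}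
  {E : (ι × Bool → ZMod 2) →ₗ[ZMod 2] W} (h : Lett Om f z E)
include h

omit [Fintype ι] h in
theorem pr_ne_zero {a b : ι × Bool} (hab : a ≠ b) : pr a b ≠ 0 := by
  intro h0
  have h1 := congrFun h0 a
  rw [pr_apply, if_pos rfl, if_neg hab] at h1
  exact one_ne_zero h1

theorem pr_mem {a b : ι × Bool} (hab : a ≠ b) : E (pr a b) ∈ Om := (h.mem_iff _).2 ⟨a, b, hab, rfl⟩

/-- The span of the points. -/
theorem mem_span {w : W} : w ∈ Submodule.span (ZMod 2) Om ↔ ∃ x, ∑ a, x a = 0 ∧ E x = w := by
  constructor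
  · intro hw
    induction hw using Submodule.span_induction with
    | mem p hp =>
      obtain ⟨a, b, -, rfl⟩ := (h.mem_iff p).1 hp
      exact ⟨_, sum_pr a b, rfl⟩
    | zero => exact ⟨0, by simp, map_zero _⟩
    | add x y _ _ hx hy =>
      obtain ⟨x', hx', rfl⟩ := hx
      obtain ⟨y', hy', rfl⟩ := hy
      exact ⟨x' + y', by simp only [Pi.add_apply, Finset.sum_add_distrib, hx', hy', add_zero], map_add _ _ _⟩
    | smul c x _ hx =>
      obtain ⟨x', hx', rfl⟩ := hx
      exact ⟨c • x', by simp only [Pi.smul_apply, ← Finset.smul_sum, hx', smul_zero], map_smul _ _ _⟩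
  · rintro ⟨x, hx, rfl⟩
    by_cases hne : Nonempty (ι × Bool)
    · obtain ⟨a⟩ := hne
      rw [even_eq a hx, map_sum]
      refine Submodule.sum_mem _ fun c _ => ?_
      rw [map_smul]
      refine Submodule.smul_mem _ _ ?_
      by_cases hac : a = c
      · rw [hac, pr_self, map_zero]
        exact zero_mem _
      · exact Submodule.subset_span (h.pr_mem hac)
    · have : x = 0 := funext fun a => absurd ⟨a⟩ hne
      rw [this, map_zero]
      exact zero_mem _

/-- The radical of `f` on the span of the points. -/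
theorem rad {x : ι × Bool → ZMod 2} (hx : ∑ a, x a = 0) (h0 : ∀ p ∈ Om, f p (E x) = 0) :
    x = 0 ∨ x = fun _ => 1 := by
  have hc : ∀ a b, x a = x b := by
    intro a b
    by_cases hab : a = b
    · rw [hab]
    have e1 := h.form (pr a b) x (sum_pr a b) hx
    rw [h0 _ (h.pr_mem hab), sum_pr_mul] at e1
    have h1 := CharTwo.add_self_eq_zero (x b)
    calc x a = x a + x b + x b := by rw [add_assoc, h1, add_zero]
      _ = x b := by rw [← e1, zero_add]
  by_cases hx0 : x = 0
  · exact Or.inl hx0
  right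
  obtain ⟨a, ha⟩ : ∃ a, x a ≠ 0 := by
    by_contra hcon
    push Not at hcon
    exact hx0 (funext hcon)
  funext b
  rw [hc b a]
  exact ne_zero ha

/-- The transvection with centre `{a, b}` is the transposition `(a b)`. -/
theorem swap {a b : ι × Bool} {x : ι × Bool → ZMod 2} (hx : ∑ c, x c = 0) :
    E x + f (E (pr a b)) (E x) • E (pr a b) = E (x ∘ Equiv.swap a b) := by
  rw [h.form _ _ (sum_pr a b) hx, sum_pr_mul, ← map_smul, ← map_add]
  congr 1
  funext c
  simp only [Pi.add_apply, Pi.smul_apply, smul_eq_mul, pr_apply, Function.comp_apply]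
  by_cases hab : a = b
  · subst hab
    have h1 : (x a + x a : ZMod 2) = 0 := CharTwo.add_self_eq_zero _
    rw [h1, zero_mul, add_zero, Equiv.swap_self, Equiv.refl_apply]
  by_cases hca : c = a
  · subst hca
    rw [Equiv.swap_apply_left, if_pos rfl, if_neg hab, add_zero, mul_one, ← add_assoc,
      CharTwo.add_self_eq_zero, zero_add]
  by_cases hcb : c = b
  · subst hcb
    rw [Equiv.swap_apply_right, if_pos rfl, if_neg hca, zero_add, mul_one, add_comm (x a), ← add_assoc,
      CharTwo.add_self_eq_zero, zero_add]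
  · rw [Equiv.swap_apply_of_ne_of_ne hca hcb, if_neg hca, if_neg hcb, add_zero, mul_zero, add_zero]

/-- Linear maps which agree on the pairs containing `a` agree on the span. -/
theorem ext {W' : Type*} [AddCommGroup W'] [Module (ZMod 2) W'] (φ : W → W') (ψ : (ι × Bool → ZMod 2) → W')
    (hφ : ∀ x y, ∑ a, x a = 0 → ∑ a, y a = 0 → φ (E x + E y) = φ (E x) + φ (E y))
    (hψ : ∀ x y, ψ (x + y) = ψ x + ψ y) (a : ι × Bool) (hab : ∀ b, φ (E (pr a b)) = ψ (pr a b))
    {x : ι × Bool → ZMod 2} (hx : ∑ a, x a = 0) : φ (E x) = ψ x := by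
  have key : ∀ s : Finset (ι × Bool), φ (E (∑ c ∈ s, x c • pr a c)) = ψ (∑ c ∈ s, x c • pr a c) := by
    intro s
    induction s using Finset.induction_on with
    | empty =>
      rw [Finset.sum_empty]
      have := hab a
      rwa [pr_self] at this
    | insert c s hc ih =>
      rw [Finset.sum_insert hc, map_add, hφ, hψ, ih]
      · congr 1
        rcases z2 (x c) with e | e
        · rw [e, zero_smul]
          have := hab a
          rwa [pr_self] at this
        · rw [e, one_smul]
          exact hab c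
      · simp only [Pi.smul_apply, ← Finset.smul_sum, sum_pr, smul_zero]
      · simp only [Finset.sum_apply, Pi.smul_apply]
        rw [Finset.sum_comm]
        refine Finset.sum_eq_zero fun b _ => ?_
        simp only [← Finset.smul_sum, sum_pr, smul_zero]
  have h1 := key Finset.univ
  rwa [← even_eq a hx] at h1

end Lett

end Cfsg.Agent.Omega.NO3S.SN.HT.Letters
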