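import Cfsg.Agent.Omega.NO3S.SN.HT.Grp
import Cfsg.Agent.Omega.NO3S.SN.HT.End

/-!
# THEOREM HT' (helper581, bb #20437)

`Hyp.no_tr` : under `HypJ` no element of `C_G(z)` acts nontrivially on `U_z` with `[U_z, t] ≤ ⟨p, z⟩`, `p` a heavy
point on a line through `z`.
-/

set_option autoImplicit false

namespace Cfsg.Agent.Omega.NO3S.SN.HT.Main

open Subgroup Module Cfsg Cfsg.Agent.ZN Cfsg.Agent.Omega.MinPar
open Cfsg.Agent.Omega.S5.Def Cfsg.Agent.Omega.S5.Syl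
open Cfsg.Agent.Omega.TV (EA)
open Cfsg.Agent.Omega.NO3S.SN.HT.Grp
open scoped Pointwise

universe u

variable {G : Type u} [Group G] [Finite G] {S : Sylow 2 G} {P : Subgroup G} {m : ℕ}
  {ε : (Fin (2 ^ m + 1) → ZMod 2) → G}

/-- **THEOREM HT'.** -/
theorem no_tr (h : NSix.CaseJ.Base.Hyp S P ε) (hs : Hyp S P m ε) {t p : G}
    (ht : t ∈ centralizer ({ε (Pi.single 0 1)} : Set G))
    (hp : ∃ c ∈ centralizer ({ε (Pi.single 0 1)} : Set G), ∃ i, i ≠ 0 ∧ p = c * ε (Pi.single i 1) * c⁻¹)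
    (htu : ∀ u ∈ U (zl (S : Subgroup G) P) (ε (Pi.single 0 1)) (ε (Pi.single 0 1)),
      t * u * t⁻¹ = u ∨ t * u * t⁻¹ = u * p ∨ t * u * t⁻¹ = u * ε (Pi.single 0 1) ∨
      t * u * t⁻¹ = u * (p * ε (Pi.single 0 1)))
    (hne : ∃ u ∈ U (zl (S : Subgroup G) P) (ε (Pi.single 0 1)) (ε (Pi.single 0 1)), t * u * t⁻¹ ≠ u) : False := by
  have Hp : Pre (rp hs) (Om hs) (zW hs) (aa hs) := by
    refine pre hs (fus h hs.m3) ht ?_ htu hne
    obtain ⟨c, hc, i, hi, rfl⟩ := hp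
    obtain ⟨j, rfl⟩ := Fin.exists_succ_eq.2 hi
    exact ⟨c, hc, j, rfl⟩
  obtain ⟨c, f, F⟩ := Hp.exists_fm
  have hUC : centralizer (Uz S P ε : Set G) ≤ Cn (pt ε 0) :=
    hs.base.centralizer_U_le (hs.base.mem_U_self ⟨1, by simp⟩)
  have hcent : ∀ t p, Tr hs c f t p → (∃ i, i ≠ 0 ∧ p = pt ε i) → t ∈ centralizer (zl (S : Subgroup G) P : Set G) := by
    rintro t p ⟨ht, w, hw, rfl, h1⟩ ⟨i, hi, hwi⟩
    obtain ⟨j, rfl⟩ := Fin.exists_succ_eq.2 hi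
    have e : w = aa hs j := EA.ext hwi
    rw [mem_centralizer_iff]
    intro v hv
    have h2 : EA.mk (sqU hs) v (VU hs hv) ∈ Submodule.span (ZMod 2) (Set.range (aa hs)) := (mem_span hs).2 hv
    have h3 : ∀ x ∈ Submodule.span (ZMod 2) (Set.range (aa hs)), f w x = 0 := by
      intro x hx
      induction hx using Submodule.span_induction with
      | mem x hx =>
        obtain ⟨k, rfl⟩ := hx
        rw [e, F.orth]
      | zero => rw [map_zero]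
      | add x y _ _ hx hy => rw [map_add, hx, hy, add_zero]
      | smul b x _ hx => rw [map_smul, hx, smul_zero]
    have h4 := h1 (EA.mk (sqU hs) v (VU hs hv))
    rw [h3 _ h2, zero_smul, add_zero] at h4
    exact (mul_inv_eq_iff_eq_mul.1 (congrArg EA.val h4)).symm
  refine End.false_of_tr hs (Tr hs c f) (fun t p T => Tr.mem hs T) (fun c hc t p T => Tr.conj hs F T hc)
    (fun t p T d hd => Tr.mulC hs F T (hUC hd) hd) (fun t p T => Tr.sq hs F T) ?_ ?_ ?_ ?_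
  · obtain ⟨i⟩ : Nonempty (Fin (2 ^ m)) := by
      rw [← Fintype.card_pos_iff]
      have := Hp.card
      omega
    obtain ⟨t, ht⟩ := Tr.exists_of hs F (aa_Om hs i)
    exact ⟨t, _, ht⟩
  · intro t p T hn
    have h1 := Tr.nor hs h F Hp T hn
    exact ⟨hcent t p T h1, h1⟩
  · intro t p T
    rcases Tr.adj hs h F Hp T with h1 | ⟨i, j, hi, hj, hij, h1⟩
    · have h2 := hcent t p T (Tr.nor hs h F Hp T h1)
      refine ⟨0, 0, End.mem_CD.2 fun v _ => ?_⟩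
      exact mul_inv_eq_iff_eq_mul.2 (mem_centralizer_iff.1 h2 _ (hs.ev.mem v)).symm
    · refine ⟨i, j, End.mem_CD.2 fun v hv => ?_⟩
      exact mul_inv_eq_iff_eq_mul.2 (mem_centralizer_iff.1 h1 _ ⟨v, hv, rfl⟩).symm
  · refine Grp.span hs h F Hp fun i j hi hj _ t ht v hv => ?_
    have h1 : t ∈ End.CD ε i j := End.mem_CD.2 fun v hv =>
      mul_inv_eq_iff_eq_mul.2 (mem_centralizer_iff.1 ht _ ⟨v, hv, rfl⟩).symm
    refine le_iSup (fun p : {p : Fin (2 ^ m + 1) × Fin (2 ^ m + 1) // p.1 ≠ 0 ∧ p.2 ≠ 0} =>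
      End.WW (zl (S : Subgroup G) P) ε (p : Fin (2 ^ m + 1) × Fin (2 ^ m + 1)).1
          (p : Fin (2 ^ m + 1) × Fin (2 ^ m + 1)).2) ⟨(i, j), hi, hj⟩ ?_
    exact End.conj_le_WW h1 (mem_conj_of hv t)

end Cfsg.Agent.Omega.NO3S.SN.HT.Main
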