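import Cfsg.Agent.Omega.NO3S.SN.HT.Form
import Cfsg.Agent.Omega.NO3S.SN.HT.Types

/-!
# THEOREM HT' (helper581, bb #20437; SN(2), K-free): (2), (3), (4)

`Pre`, `Fm` as in `Form.lean`; `card ι` is even and a set `T` of elements of `H` fixing all `a i` has the property
`lq`: a `T`-invariant subspace which contains `z` and is not `⟨z⟩` contains an element of `⟨a i⟩` outside `⟨z⟩`.

* `Fm.rad_line` : `rad f ∩ ⟨a i⟩ = ⟨z⟩`; `Fm.all_near`, `Fm.rad`; `Fm.sit` : `Types.Sit`;
* `Fm.eq_a`, `Fm.type`, `Fm.span_ty`, `Fm.eq_of_nor` : the results on the points.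
-/

set_option autoImplicit false
set_option linter.unusedSectionVars false

namespace Cfsg.Agent.Omega.NO3S.SN.HT

open Module Cfsg.Agent.Omega.TV

variable {H : Type*} [Group H] {W : Type*} [AddCommGroup W] [Module (ZMod 2) W]
  {ι : Type*} [Fintype ι] {ρ : H →* (W ≃ₗ[ZMod 2] W)} {z : W} {Om : Set W} {a : ι → W}
  {c : ZMod 2} {f : W →ₗ[ZMod 2] W →ₗ[ZMod 2] ZMod 2}

/-- LEMMA Q in `W` -/
def Lq (ρ : H →* (W ≃ₗ[ZMod 2] W)) (z : W) (a : ι → W) (T : Set H) : Prop :=
  (∀ g ∈ T, ∀ i, ρ g (a i) = a i) ∧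
    ∀ Y : Submodule (ZMod 2) W, (∀ g ∈ T, ∀ y ∈ Y, ρ g y ∈ Y) → z ∈ Y → (∃ y ∈ Y, y ≠ 0 ∧ y ≠ z) →
      ∃ y ∈ Y, y ∈ Submodule.span (ZMod 2) (Set.range a) ∧ y ≠ 0 ∧ y ≠ z

/-- The fields of `Types.Sit` except `four`. -/
structure SitCore (Om : Set W) (f : W →ₗ[ZMod 2] W →ₗ[ZMod 2] ZMod 2) (z : ι → W) : Prop where
  comm : ∀ x y, f x y = f y x
  alt : ∀ x, f x x = 0
  span : Submodule.span (ZMod 2) Om = ⊤
  refl : ∀ p ∈ Om, ∀ q ∈ Om, f p q = 1 → q + p ∈ Om
  mem : ∀ i, z i ∈ Om
  ind : LinearIndependent (ZMod 2) z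
  ort : ∀ i j, f (z i) (z j) = 0
  line : ∀ p ∈ Om, p ∈ Submodule.span (ZMod 2) (Set.range z) → ∃ i, p = z i
  rad0 : ∀ w, f (∑ i, z i) w = 0
  rad : ∀ w, (∀ x, f w x = 0) → w = 0 ∨ w = ∑ i, z i
  near : ∀ p ∈ Om, ∀ q ∈ Om, ∃ v ∈ Om, f p v = 1 ∧ f v q = 1
  all : ∀ i j, i ≠ j → ∃ p ∈ Om, f p (z i) = 1 ∧ f p (z j) = 1

theorem z2_eq_of_add {x y : ZMod 2} (e : x + y = 0) : x = y := by revert x y; decide

namespace Fm

variable (h : Pre ρ Om z a) (F : Fm ρ Om z a c f)

include h F

theorem add_mem {p q : W} (hp : p ∈ Om) (hq : q ∈ Om) (e : f p q = 1) : q + (p + c • z) ∈ Om := by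
  obtain ⟨g, hg⟩ := F.tr p hp
  have h1 := hg q
  rw [e, one_smul] at h1
  rw [← h1]
  exact h.inv g q hq

omit h in
theorem zr (x : W) : f x z = 0 := by rw [F.comm, F.zl]

omit h in
theorem inv' (g : H) (x y : W) : f (ρ g x) y = f x (ρ g⁻¹ y) := by
  have h1 := F.inv g x (ρ g⁻¹ y)
  rwa [rinv'] at h1

/-- adjacent points are near each other -/
theorem near_of_adj {p q : W} (hp : p ∈ Om) (hq : q ∈ Om) (e : f p q = 1) :
    ∃ v ∈ Om, f p v = 1 ∧ f v q = 1 := by
  refine ⟨q + (p + c • z), F.add_mem h hp hq e, ?_, ?_⟩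
  · rw [map_add, map_add, map_smul, F.zr, e, F.alt, smul_zero, add_zero, add_zero]
  · rw [map_add, map_add, map_smul, LinearMap.add_apply, LinearMap.add_apply, LinearMap.smul_apply, F.zl, e,
      F.alt, smul_zero, add_zero, zero_add]

/-- **(3)** -/
theorem rad_line (hev : Even (Fintype.card ι)) {y : W} (hy : y ∈ Submodule.span (ZMod 2) (Set.range a))
    (hr : ∀ x, f y x = 0) : y = 0 ∨ y = z := by
  classical
  by_contra hcon
  push Not at hcon
  obtain ⟨hy0, hyz⟩ := hcon
  obtain ⟨x, hx⟩ := (Submodule.mem_span_range_iff_exists_fun (ZMod 2)).1 hy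
  -- `x` is not constant
  have h1 : ∃ i j, x i = 1 ∧ x j = 0 := by
    by_contra hcon
    push Not at hcon
    by_cases hi : ∃ i, x i = 1
    · obtain ⟨i, hi⟩ := hi
      apply hyz
      rw [← hx, ← h.sum]
      exact Finset.sum_congr rfl fun j _ => by rw [z2_ne_zero (hcon i j hi), one_smul]
    · push Not at hi
      apply hy0
      rw [← hx]
      exact Finset.sum_eq_zero fun j _ => by rw [z2_ne_one (hi j), zero_smul]
  obtain ⟨i, j, hi, hj⟩ := h1
  have hij : i ≠ j := by
    rintro rfl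
    rw [hi] at hj
    exact one_ne_zero hj
  obtain ⟨g, hg⟩ := h.perm (Equiv.swap i j)
  have h2 : ρ g y = y + (a i + a j) := by
    have e1 : ρ g y = ∑ k, x k • a (Equiv.swap i j k) := by
      rw [← hx, map_sum]
      exact Finset.sum_congr rfl fun k _ => by rw [map_smul, hg]
    have e2 : ∑ k, (x k + x (Equiv.swap i j k)) • a k = a i + a j := by
      have e3 : ∀ k, (x k + x (Equiv.swap i j k)) • a k = (if k = i then a i else 0) + (if k = j then a j else 0) := by
        intro k
        by_cases hki : k = i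
        · subst hki
          rw [Equiv.swap_apply_left, hi, hj, if_pos rfl, if_neg hij, add_zero, one_smul, add_zero]
        by_cases hkj : k = j
        · subst hkj
          rw [Equiv.swap_apply_right, hi, hj, if_pos rfl, if_neg hki, zero_add, one_smul, zero_add]
        · rw [Equiv.swap_apply_of_ne_of_ne hki hkj, z2_add_self, zero_smul, if_neg hki, if_neg hkj, add_zero]
      rw [Finset.sum_congr rfl fun k _ => e3 k, Finset.sum_add_distrib]
      simp
    have e4 : ∑ k, x k • a (Equiv.swap i j k) = ∑ k, x (Equiv.swap i j k) • a k := by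
      rw [← Equiv.sum_comp (Equiv.swap i j)]
      exact Finset.sum_congr rfl fun k _ => by rw [Equiv.swap_apply_self]
    rw [e1, e4, ← e2, ← hx]
    simp only [add_smul]
    rw [Finset.sum_add_distrib, ← add_assoc, v_add_self, zero_add]
  have h3 : ∀ w, f (a i + a j) w = 0 := by
    intro w
    have e1 : a i + a j = y + ρ g y := by rw [h2, ← add_assoc, v_add_self, zero_add]
    rw [e1, map_add, LinearMap.add_apply, hr, F.inv', hr, add_zero]
  -- all the pairs
  have h4 : ∀ k l, f (a k) = f (a l) := by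
    intro k l
    by_cases hkl : k = l
    · rw [hkl]
    obtain ⟨σ, hσ⟩ : ∃ σ : Equiv.Perm ι, σ i = k ∧ σ j = l := by
      refine ⟨Equiv.swap (Equiv.swap i k j) l * Equiv.swap i k, ?_, ?_⟩
      · rw [Equiv.Perm.mul_apply, Equiv.swap_apply_left, Equiv.swap_apply_of_ne_of_ne _ hkl]
        intro e
        have e1 : Equiv.swap i k i = k := Equiv.swap_apply_left _ _
        exact hij ((Equiv.swap i k).injective (e1.trans e))
      · rw [Equiv.Perm.mul_apply, Equiv.swap_apply_left]
    obtain ⟨g', hg'⟩ := h.perm σ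
    refine LinearMap.ext fun w => ?_
    have h5 := h3 (ρ g'⁻¹ w)
    rw [← F.inv', map_add, hg', hg', hσ.1, hσ.2, map_add, LinearMap.add_apply] at h5
    exact z2_eq_of_add h5
  -- the contradiction
  obtain ⟨v, hv, e1⟩ := F.ne (a i) (h.mem i)
  have h5 : ∀ k, f (a k) v = 1 := fun k => by rw [h4 k i, e1]
  have h6 : ∀ s : Finset ι, v + ∑ k ∈ s, (a k + c • z) ∈ Om := by
    intro s
    induction s using Finset.induction_on with
    | empty => rw [Finset.sum_empty, add_zero]; exact hv
    | insert k s hk ih =>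
      have e2 : f (a k) (v + ∑ l ∈ s, (a l + c • z)) = 1 := by
        rw [map_add, h5, map_sum, Finset.sum_eq_zero, add_zero]
        intro l _
        rw [map_add, map_smul, F.zr, F.orth, smul_zero, add_zero]
      have h7 := F.add_mem h (h.mem k) ih e2
      rw [Finset.sum_insert hk]
      convert h7 using 1
      abel
  have h7 := h6 Finset.univ
  rw [Finset.sum_add_distrib, h.sum, Finset.sum_const, Finset.card_univ] at h7
  obtain ⟨n, hn⟩ := hev
  have e3 : (Fintype.card ι) • (c • z) = 0 := by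
    rw [hn, add_smul, v_add_self]
  rw [e3, add_zero] at h7
  exact h.nz v hv h7

/-- **(4)** all points are near `a i` -/
theorem all_near_a (hev : Even (Fintype.card ι)) {T : Set H} (hT : Lq ρ z a T) (i : ι) :
    ∀ p ∈ Om, ∃ v ∈ Om, f (a i) v = 1 ∧ f v p = 1 := by
  classical
  let N : W → Prop := fun p => ∃ v ∈ Om, f (a i) v = 1 ∧ f v p = 1
  let Y1 : Submodule (ZMod 2) W := Submodule.span (ZMod 2) ({p | p ∈ Om ∧ N p} ∪ {z})
  let Y2 : Submodule (ZMod 2) W := Submodule.span (ZMod 2) ({p | p ∈ Om ∧ ¬ N p} ∪ {z})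
  have hadj : ∀ p ∈ Om, ∀ q ∈ Om, N p → f p q = 1 → N q := by
    intro p hp q hq hn e
    exact F.nt (a i) (h.mem i) p hp q hq hn (F.near_of_adj h hp hq e)
  have horth : ∀ y1 ∈ Y1, ∀ y2 ∈ Y2, f y1 y2 = 0 := by
    intro y1 h1 y2 h2
    induction h1 using Submodule.span_induction with
    | mem x hx =>
      induction h2 using Submodule.span_induction with
      | mem y hy =>
        rcases hx with ⟨hx, hx'⟩ | hx
        · rcases hy with ⟨hy, hy'⟩ | hy
          · exact z2_ne_one fun e => hy' (hadj x hx y hy hx' e)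
          · rw [Set.mem_singleton_iff.1 hy, F.zr]
        · rw [Set.mem_singleton_iff.1 hx, F.zl]
      | zero => rw [map_zero]
      | add x y _ _ hx hy => rw [map_add, hx, hy, add_zero]
      | smul b x _ hx => rw [map_smul, hx, smul_zero]
    | zero => rw [map_zero, LinearMap.zero_apply]
    | add x y _ _ hx hy => rw [map_add, LinearMap.add_apply, hx, hy, add_zero]
    | smul b x _ hx => rw [map_smul, LinearMap.smul_apply, hx, smul_zero]
  intro p hp
  by_contra hn
  have hY2 : ∀ g ∈ T, ∀ y ∈ Y2, ρ g y ∈ Y2 := by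
    intro g hg y hy
    induction hy using Submodule.span_induction with
    | mem x hx =>
      rcases hx with ⟨hx, hx'⟩ | hx
      · refine Submodule.subset_span (Or.inl ⟨h.inv g x hx, ?_⟩)
        rintro ⟨v, hv, e1, e2⟩
        refine hx' ⟨ρ g⁻¹ v, h.inv _ v hv, ?_, ?_⟩
        · rw [← F.inv', hT.1 g hg, e1]
        · rw [← F.inv g, rinv', e2]
      · rw [Set.mem_singleton_iff.1 hx, h.fix]
        exact Submodule.subset_span (Or.inr rfl)
    | zero => rw [map_zero]; exact zero_mem _
    | add x y _ _ hx hy => rw [map_add]; exact Submodule.add_mem _ hx hy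
    | smul b x _ hx => rw [map_smul]; exact Submodule.smul_mem _ _ hx
  obtain ⟨y, hy, hya, hy0, hyz⟩ := hT.2 Y2 hY2 (Submodule.subset_span (Or.inr rfl))
    ⟨p, Submodule.subset_span (Or.inl ⟨hp, hn⟩), h.ne p hp⟩
  have hy1 : y ∈ Y1 := by
    have h1 : Submodule.span (ZMod 2) (Set.range a) ≤ Y1 := by
      rw [Submodule.span_le]
      rintro _ ⟨j, rfl⟩
      exact Submodule.subset_span (Or.inl ⟨h.mem j, F.near i j⟩)
    exact h1 hya
  have hr : ∀ x, f y x = 0 := by
    intro x
    have hx : x ∈ Submodule.span (ZMod 2) Om := by rw [h.span]; trivial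
    induction hx using Submodule.span_induction with
    | mem q hq =>
      by_cases hN : N q
      · rw [F.comm]
        exact horth q (Submodule.subset_span (Or.inl ⟨hq, hN⟩)) y hy
      · exact horth y hy1 q (Submodule.subset_span (Or.inl ⟨hq, hN⟩))
    | zero => rw [map_zero]
    | add x y _ _ hx hy => rw [map_add, hx, hy, add_zero]
    | smul b x _ hx => rw [map_smul, hx, smul_zero]
  rcases F.rad_line h hev hya hr with e | e
  · exact hy0 e
  · exact hyz e

/-- the radical -/
theorem rad (hev : Even (Fintype.card ι)) {T : Set H} (hT : Lq ρ z a T) {w : W} (hw : ∀ x, f w x = 0) :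
    w = 0 ∨ w = z := by
  by_contra hcon
  push Not at hcon
  have hk : ∀ g ∈ T, ∀ y ∈ LinearMap.ker f, ρ g y ∈ LinearMap.ker f := by
    intro g _ y hy
    refine LinearMap.mem_ker.2 (LinearMap.ext fun x => ?_)
    rw [F.inv', LinearMap.mem_ker.1 hy]
    rfl
  obtain ⟨y, hy, hya, hy0, hyz⟩ := hT.2 (LinearMap.ker f) hk
    (LinearMap.mem_ker.2 (LinearMap.ext fun x => by rw [F.zl]; rfl))
    ⟨w, LinearMap.mem_ker.2 (LinearMap.ext fun x => by rw [hw]; rfl), hcon⟩
  rcases F.rad_line h hev hya (fun x => by rw [LinearMap.mem_ker.1 hy, LinearMap.zero_apply]) with e | e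
  · exact hy0 e
  · exact hyz e

omit F in
theorem card_smul (hev : Even (Fintype.card ι)) : ∑ i, (a i + c • z) = z := by
  obtain ⟨n, hn⟩ := hev
  rw [Finset.sum_add_distrib, h.sum, Finset.sum_const, Finset.card_univ, hn, add_smul, v_add_self, add_zero]

/-- **the situation of `Types.lean`**, `4 ≤ card ι` -/
theorem core (hev : Even (Fintype.card ι)) {T : Set H} (hT : Lq ρ z a T) :
    SitCore ((fun p => p + c • z) '' Om) f (fun i => a i + c • z) where
  comm := F.comm
  alt := F.alt
  span := by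
    have hz : z ∈ Submodule.span (ZMod 2) ((fun p => p + c • z) '' Om) := by
      have h1 : ∑ i, (a i + c • z) ∈ Submodule.span (ZMod 2) ((fun p => p + c • z) '' Om) :=
        Submodule.sum_mem _ fun i _ => Submodule.subset_span ⟨a i, h.mem i, rfl⟩
      rwa [card_smul (c := c) h hev] at h1
    rw [eq_top_iff, ← h.span, Submodule.span_le]
    intro p hp
    have h1 : p + c • z + c • z ∈ Submodule.span (ZMod 2) ((fun p => p + c • z) '' Om) :=
      Submodule.add_mem _ (Submodule.subset_span ⟨p, hp, rfl⟩) (Submodule.smul_mem _ _ hz)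
    rwa [add_assoc, v_add_self, add_zero] at h1
  refl := by
    rintro _ ⟨p, hp, rfl⟩ _ ⟨q, hq, rfl⟩ e
    simp only [map_add, map_smul, LinearMap.add_apply, LinearMap.smul_apply, F.zr, F.zl, smul_zero,
      add_zero] at e
    refine ⟨q + (p + c • z), F.add_mem h hp hq e, ?_⟩
    change q + (p + c • z) + c • z = q + c • z + (p + c • z)
    abel
  mem := fun i => ⟨a i, h.mem i, rfl⟩
  ind := by
    classical
    rw [Fintype.linearIndependent_iff]
    intro x hx
    have h1 : ∑ i, (x i + c * ∑ j, x j) • a i = 0 := by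
      have e1 : ∑ i, (x i + c * ∑ j, x j) • a i = ∑ i, x i • (a i + c • z) := by
        simp only [add_smul, smul_add, Finset.sum_add_distrib]
        congr 1
        rw [← Finset.smul_sum, h.sum, ← Finset.sum_smul, smul_smul, mul_comm]
      rw [e1, hx]
    have h2 := Fintype.linearIndependent_iff.1 h.ind _ h1
    have h3 : ∑ j, x j = 0 := by
      have e1 : ∑ i, (x i + c * ∑ j, x j) = 0 := Finset.sum_eq_zero fun i _ => h2 i
      rw [Finset.sum_add_distrib, Finset.sum_const, Finset.card_univ] at e1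
      obtain ⟨n, hn⟩ := hev
      rw [hn, add_smul, z2_add_self, add_zero] at e1
      exact e1
    intro i
    have h4 := h2 i
    rwa [h3, mul_zero, add_zero] at h4
  ort := by
    intro i j
    simp only [map_add, map_smul, LinearMap.add_apply, LinearMap.smul_apply, F.zr, F.zl, smul_zero,
      add_zero, F.orth]
  line := by
    rintro _ ⟨p, hp, rfl⟩ h1
    have hz : z ∈ Submodule.span (ZMod 2) (Set.range a) := by
      rw [← h.sum]
      exact Submodule.sum_mem _ fun k _ => Submodule.subset_span (Set.mem_range_self k)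
    have h2 : Submodule.span (ZMod 2) (Set.range fun i => a i + c • z) ≤
        Submodule.span (ZMod 2) (Set.range a) := by
      rw [Submodule.span_le]
      rintro _ ⟨i, rfl⟩
      exact Submodule.add_mem _ (Submodule.subset_span (Set.mem_range_self i)) (Submodule.smul_mem _ _ hz)
    have h3 : p + c • z + c • z ∈ Submodule.span (ZMod 2) (Set.range a) :=
      Submodule.add_mem _ (h2 h1) (Submodule.smul_mem _ _ hz)
    rw [add_assoc, v_add_self, add_zero] at h3
    obtain ⟨i, rfl⟩ := h.line p hp h3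
    exact ⟨i, rfl⟩
  rad0 := by
    intro w
    rw [card_smul h hev, F.zl]
  rad := by
    intro w hw
    rw [card_smul h hev]
    exact F.rad h hev hT hw
  near := by
    have h1 : 0 < Fintype.card ι := by have := h.card; omega
    obtain ⟨i⟩ := Fintype.card_pos_iff.1 h1
    rintro _ ⟨p, hp, rfl⟩ _ ⟨q, hq, rfl⟩
    obtain ⟨v, hv, e1, e2⟩ := F.all_near_a h hev hT i p hp
    obtain ⟨u, hu, e3, e4⟩ := F.nt p hp (a i) (h.mem i) q hq ⟨v, hv, by rw [F.comm, e2], by rw [F.comm, e1]⟩
      (F.all_near_a h hev hT i q hq)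
    refine ⟨_, ⟨u, hu, rfl⟩, ?_, ?_⟩
    · simp only [map_add, map_smul, LinearMap.add_apply, LinearMap.smul_apply, F.zr, F.zl, smul_zero,
        add_zero, e3]
    · simp only [map_add, map_smul, LinearMap.add_apply, LinearMap.smul_apply, F.zr, F.zl, smul_zero,
        add_zero, e4]
  all := by
    classical
    intro k l hkl
    have h1 : 0 < Fintype.card ι := by have := h.card; omega
    obtain ⟨i⟩ := Fintype.card_pos_iff.1 h1
    obtain ⟨v, hv, e1⟩ := F.ne (a i) (h.mem i)
    obtain ⟨j, hji, e2⟩ : ∃ j, j ≠ i ∧ f v (a j) = 1 := by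
      by_contra hcon
      push Not at hcon
      have e2 : f v (∑ k, a k) = 0 := by rw [h.sum, F.zr]
      rw [map_sum, Finset.sum_eq_single i (fun k _ hk => z2_ne_one (hcon k hk))
        (fun hi => absurd (Finset.mem_univ i) hi), F.comm, e1] at e2
      exact one_ne_zero e2
    obtain ⟨σ, hσ⟩ : ∃ σ : Equiv.Perm ι, σ i = k ∧ σ j = l := by
      refine ⟨Equiv.swap (Equiv.swap i k j) l * Equiv.swap i k, ?_, ?_⟩
      · rw [Equiv.Perm.mul_apply, Equiv.swap_apply_left, Equiv.swap_apply_of_ne_of_ne _ hkl]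
        intro e
        have e1 : Equiv.swap i k i = k := Equiv.swap_apply_left _ _
        exact hji.symm ((Equiv.swap i k).injective (e1.trans e))
      · rw [Equiv.Perm.mul_apply, Equiv.swap_apply_left]
    obtain ⟨g, hg⟩ := h.perm σ
    refine ⟨_, ⟨ρ g v, h.inv g v hv, rfl⟩, ?_, ?_⟩
    · simp only [map_add, map_smul, LinearMap.add_apply, LinearMap.smul_apply, F.zr, F.zl, smul_zero, add_zero]
      rw [← hσ.1, ← hg, F.inv, F.comm, e1]
    · simp only [map_add, map_smul, LinearMap.add_apply, LinearMap.smul_apply, F.zr, F.zl, smul_zero, add_zero]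
      rw [← hσ.2, ← hg, F.inv, e2]

/-- **the situation of `Types.lean`** -/
theorem sit (hev : Even (Fintype.card ι)) (h6 : 6 ≤ Fintype.card ι) {T : Set H} (hT : Lq ρ z a T) :
    Types.Sit ((fun p => p + c • z) '' Om) f (fun i => a i + c • z) where
  comm := (F.core h hev hT).comm
  alt := (F.core h hev hT).alt
  span := (F.core h hev hT).span
  refl := (F.core h hev hT).refl
  mem := (F.core h hev hT).mem
  ind := (F.core h hev hT).ind
  ort := (F.core h hev hT).ort
  line := (F.core h hev hT).line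
  rad0 := (F.core h hev hT).rad0
  rad := (F.core h hev hT).rad
  near := (F.core h hev hT).near
  all := (F.core h hev hT).all
  four := by omega

/-- **(8)** -/
theorem eq_a (hev : Even (Fintype.card ι)) (h6 : 6 ≤ Fintype.card ι) {T : Set H} (hT : Lq ρ z a T) {p : W} (hp : p ∈ Om)
    (h0 : ∀ i, f p (a i) = 0) : ∃ i, p = a i := by
  obtain ⟨i, hi⟩ := (F.sit h hev h6 hT).eq_z (q := p + c • z) ⟨p, hp, rfl⟩ (fun k => by
    simp only [map_add, map_smul, LinearMap.add_apply, LinearMap.smul_apply, F.zr, F.zl, smul_zero,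
      add_zero, h0])
  exact ⟨i, add_right_cancel hi⟩

/-- **(5)** -/
theorem type (hev : Even (Fintype.card ι)) (h6 : 6 ≤ Fintype.card ι) {T : Set H} (hT : Lq ρ z a T) {p : W} (hp : p ∈ Om) :
    (∀ i, f p (a i) = 0) ∨
      ∃ i j, i ≠ j ∧ f p (a i) = 1 ∧ f p (a j) = 1 ∧ ∀ k, k ≠ i → k ≠ j → f p (a k) = 0 := by
  have h1 := (F.sit h hev h6 hT).type (p := p + c • z) ⟨p, hp, rfl⟩
  simp only [map_add, map_smul, LinearMap.add_apply, LinearMap.smul_apply, F.zr, F.zl, smul_zero,
    add_zero] at h1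
  exact h1

/-- the points with a nonempty type generate `W` together with `z` -/
theorem span_ty (hev : Even (Fintype.card ι)) (h6 : 6 ≤ Fintype.card ι) {T : Set H} (hT : Lq ρ z a T) {Y : Submodule (ZMod 2) W}
    (hz : z ∈ Y) (hY : ∀ p ∈ Om, (∃ i, f p (a i) = 1) → p ∈ Y) : Y = ⊤ := by
  rw [eq_top_iff, ← (F.sit h hev h6 hT).span_types, Submodule.span_le]
  rintro _ ⟨⟨p, hp, rfl⟩, i, hi⟩
  simp only [map_add, map_smul, LinearMap.add_apply, LinearMap.smul_apply, F.zr, F.zl, smul_zero,
    add_zero] at hi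
  exact Submodule.add_mem _ (hY p hp ⟨i, hi⟩) (Submodule.smul_mem _ _ hz)

/-- **(2)**: if `w ↦ w + f p w • (p + c z)` normalises `⟨a i⟩`, then `p` is an `a i` -/
theorem eq_of_nor (hev : Even (Fintype.card ι)) (h6 : 6 ≤ Fintype.card ι) {T : Set H} (hT : Lq ρ z a T) {p : W} (hp : p ∈ Om)
    (hn : ∀ i, a i + f p (a i) • (p + c • z) ∈ Submodule.span (ZMod 2) (Set.range a)) : ∃ i, p = a i := by
  refine F.eq_a h hev h6 hT hp fun i => ?_
  refine z2_ne_one fun e => ?_
  have hz : z ∈ Submodule.span (ZMod 2) (Set.range a) := by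
    rw [← h.sum]
    exact Submodule.sum_mem _ fun k _ => Submodule.subset_span (Set.mem_range_self k)
  have hi : a i ∈ Submodule.span (ZMod 2) (Set.range a) := Submodule.subset_span (Set.mem_range_self i)
  have h1 := hn i
  rw [e, one_smul] at h1
  have h2 : a i + (p + c • z) + a i + c • z ∈ Submodule.span (ZMod 2) (Set.range a) :=
    Submodule.add_mem _ (Submodule.add_mem _ h1 hi) (Submodule.smul_mem _ _ hz)
  have h3 : a i + (p + c • z) + a i + c • z = p := by
    calc a i + (p + c • z) + a i + c • z = p + (a i + a i) + (c • z + c • z) := by abel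
      _ = p := by rw [v_add_self, v_add_self, add_zero, add_zero]
  rw [h3] at h2
  obtain ⟨k, rfl⟩ := h.line p hp h2
  rw [F.orth] at e
  exact zero_ne_one e

end Fm

end Cfsg.Agent.Omega.NO3S.SN.HT
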